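import Cfsg.Agent.Lib.CoprimeInvCent.Ring
import Cfsg.Agent.Lib.Elementary
import Cfsg.Agent.Lib.SmallElements

/-!
A `q`-group with commuting automorphisms `σ` (coprime order `p`) and `ξ` (order two), represented
compatibly, where `a` (representing `σ`) fixes what `x` (representing `ξ`) fixes: reductions.
-/

set_option autoImplicit false
set_option linter.unusedSectionVars false
set_option linter.style.haveILetI false

namespace CfsgLib.CoprimeInvCent

open Subgroup CfsgLib.FixGen
open scoped commutatorElement IsMulCommutative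

universe u v

variable {p q : ℕ} [Fact p.Prime] [Fact q.Prime]

/-- The two automorphisms. -/
structure Aut2 (p q : ℕ) {X : Type u} [Group X] (σ ξ : MulAut X) : Prop where
  pgroup : IsPGroup q X
  cop : (Nat.card X).Coprime p
  pow : σ ^ p = 1
  invol : ∀ d, ξ (ξ d) = d
  comm : ∀ d, ξ (σ d) = σ (ξ d)
  fix : ∀ d, ξ d = d → σ d = d
  gen : brk σ ((⊤ : Subgroup X) : Set X) = ⊤

/-- The representation. -/
structure Lin (q : ℕ) {X : Type u} [Group X] (σ ξ : MulAut X) {R : Type v} [Ring R] (ρ : X →* R) (x a : R) :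
    Prop where
  two : IsUnit ((2 : ℕ) : R)
  qunit : IsUnit (q : R)
  sq : x * x = 1
  unit : IsUnit a
  fixes : a * (1 + x) = 1 + x
  xr : ∀ d, x * ρ d = ρ (ξ d) * x
  ar : ∀ d, a * ρ d = ρ (σ d) * a

/-- The representation is trivial. -/
def Triv (p q : ℕ) (X : Type u) [Group X] : Prop :=
  ∀ σ ξ : MulAut X, Aut2 p q σ ξ → ∀ (R : Type v) [Ring R] (ρ : X →* R) (x a : R), Lin q σ ξ ρ x a → ∀ d, ρ d = 1

variable {X : Type u} [Group X] [Finite X] {σ ξ : MulAut X} {R : Type v} [Ring R] {ρ : X →* R} {x a : R}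

theorem odd_card_of (hq2 : q ≠ 2) (h : Aut2 p q σ ξ) : Odd (Nat.card X) := by
  obtain ⟨n, hn⟩ := IsPGroup.iff_card.mp h.pgroup
  rw [hn]
  exact ((Fact.out : q.Prime).odd_of_ne_two hq2).pow

theorem Aut2.quot (hq2 : q ≠ 2) (h : Aut2 p q σ ξ) (N : Subgroup X) [N.Normal] (h1 : Inv σ N) (h2 : Inv ξ N) :
    Aut2 p q (QuotientGroup.congr N N σ h1.map_eq) (QuotientGroup.congr N N ξ h2.map_eq) := by
  have e1 : ∀ d : X, QuotientGroup.congr N N σ h1.map_eq (d : X ⧸ N) = ((σ d : X) : X ⧸ N) := fun _ => rfl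
  have e2 : ∀ d : X, QuotientGroup.congr N N ξ h2.map_eq (d : X ⧸ N) = ((ξ d : X) : X ⧸ N) := fun _ => rfl
  have ei : ∀ (i : ℕ) (d : X), ((QuotientGroup.congr N N σ h1.map_eq : MulAut (X ⧸ N)) ^ i) (d : X ⧸ N)
      = (((σ ^ i) d : X) : X ⧸ N) := by
    intro i
    induction i with
    | zero => intro d; rfl
    | succ i ih => intro d; rw [← pow_apply_comm, ih, e1, pow_apply_comm]
  have hodd := odd_card_of hq2 h
  refine ⟨h.pgroup.to_quotient N, h.cop.coprime_dvd_left (card_quotient_dvd_card N), ?_, ?_, ?_, ?_, ?_⟩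
  · ext d
    induction d using QuotientGroup.induction_on with
    | _ d => rw [ei, h.pow]; rfl
  · intro d
    induction d using QuotientGroup.induction_on with
    | _ d => rw [e2, e2, h.invol]
  · intro d
    induction d using QuotientGroup.induction_on with
    | _ d => rw [e1, e2, e2, e1, h.comm]
  · intro d
    induction d using QuotientGroup.induction_on with
    | _ d =>
      intro hd
      haveI : Fact (Nat.Prime 2) := ⟨Nat.prime_two⟩
      have hd' : d⁻¹ * ξ d ∈ N := QuotientGroup.eq.mp (hd.symm.trans (e2 d))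
      obtain ⟨n, hn, hf⟩ := exists_fixed_coset (x := ξ) (p := 2)
        (by ext g; rw [pow_two, MulAut.mul_apply]; exact h.invol g) (Nat.coprime_two_right.mpr hodd) h2 hd'
      have e : ((d * n : X) : X ⧸ N) = (d : X ⧸ N) := QuotientGroup.mk_mul_of_mem d hn
      rw [← e, e1, h.fix _ (mem_fx.mp hf)]
  · refine eq_top_iff.mpr fun d _ => ?_
    induction d using QuotientGroup.induction_on with
    | _ d =>
      have hle : brk σ ((⊤ : Subgroup X) : Set X) ≤
          (brk (QuotientGroup.congr N N σ h1.map_eq) ((⊤ : Subgroup (X ⧸ N)) : Set (X ⧸ N))).comap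
            (QuotientGroup.mk' N) := (closure_le _).mpr fun _ ⟨k, _, i, e⟩ => by
        show ((_ : X) : X ⧸ N) ∈ brk _ _
        rw [e, QuotientGroup.mk_mul, QuotientGroup.mk_inv, ← ei]
        exact mem_brk (mem_top _) i
      exact hle (h.gen.symm ▸ mem_top d)

theorem Aut2.sub (h : Aut2 p q σ ξ) {K : Subgroup X} (hσ : Inv σ K) (hξ : Inv ξ K) :
    Aut2 p q (res (inv_brk (x := σ) (K : Set X))) (res (brk_invariant h.comm hξ)) := by
  refine ⟨h.pgroup.to_subgroup _, h.cop.coprime_dvd_left (card_subgroup_dvd_card _), res_pow_prime h.pow _, ?_, ?_,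
    ?_, brk_res_top h.pow h.cop hσ⟩
  · intro d; apply Subtype.ext; rw [res_apply, res_apply, h.invol]
  · intro d; apply Subtype.ext; rw [res_apply, res_apply, res_apply, res_apply, h.comm]
  · intro d hd
    apply Subtype.ext
    rw [res_apply]
    exact h.fix _ (by rw [← res_apply (brk_invariant h.comm hξ), hd])

theorem Lin.map_eq_one (hl : Lin q σ ξ ρ x a) {d : X} (hd : ρ d = 1) : ρ (ξ d) = 1 ∧ ρ (σ d) = 1 := by
  constructor
  · have := hl.xr d
    rw [hd, mul_one] at this
    have h2 := congrArg (· * x) this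
    simp only [mul_assoc, hl.sq, mul_one] at h2
    exact h2.symm
  · have := hl.ar d
    rw [hd, mul_one] at this
    exact (hl.unit.mul_eq_right.mp this.symm)

theorem Lin.cut (hl : Lin q σ ξ ρ x a) {f : R} (hf : IsIdempotentElem f) (hx : Commute f x) (ha : Commute f a)
    (hρ : ∀ d, Commute f (ρ d)) : Lin q σ ξ (cutHom hf ρ hρ) (cutElem hf hx) (cutElem hf ha) := by
  refine ⟨corner_isUnit_natCast hf hl.two, corner_isUnit_natCast hf hl.qunit, Subtype.ext ?_,
    cutElem_isUnit hf ha hl.unit, Subtype.ext ?_, fun d => Subtype.ext ?_, fun d => Subtype.ext ?_⟩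
  · show f * x * (f * x) = f
    rw [cut_mul_cut hf hx, hl.sq, mul_one]
  · show f * a * (f + f * x) = f + f * x
    rw [show f + f * x = f * (1 + x) by rw [mul_add, mul_one], cut_mul_cut hf ha, hl.fixes]
  · show f * x * (f * ρ d) = f * ρ (ξ d) * (f * x)
    rw [cut_mul_cut hf hx, cut_mul_cut hf (hρ _), hl.xr]
  · show f * a * (f * ρ d) = f * ρ (σ d) * (f * a)
    rw [cut_mul_cut hf ha, cut_mul_cut hf (hρ _), hl.ar]

/-- The data of a faithful minimal situation. -/
structure Faithful (p q : ℕ) {X : Type u} [Group X] [Finite X] (σ ξ : MulAut X) {R : Type v} [Ring R] (ρ : X →* R)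
    (x a : R) : Prop where
  aut : Aut2 p q σ ξ
  lin : Lin q σ ξ ρ x a
  inj : ∀ d, ρ d = 1 → d = 1
  total : total ρ = 0
  ih : ∀ (Y : Type u) [Group Y] [Finite Y], Nat.card Y < Nat.card X → Triv.{u, v} p q Y

variable (F : Faithful p q σ ξ ρ x a)
include F

theorem Faithful.fixed_of_proper {K : Subgroup X} (hσ : Inv σ K) (hξ : Inv ξ K) (hK : K ≠ ⊤) :
    ∀ k ∈ K, σ k = k := by
  set B := brk σ (K : Set X) with hB
  have hBK : B ≤ K := brk_le_self hσ
  have hlt : Nat.card B < Nat.card X := lt_of_le_of_ne (Subgroup.card_le_card_group B) fun e =>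
    hK (top_unique ((Subgroup.eq_top_of_card_eq B e).symm.le.trans hBK))
  have ht := F.ih B hlt _ _ (F.aut.sub hσ hξ) R (ρ.comp B.subtype) x a
    ⟨F.lin.two, F.lin.qunit, F.lin.sq, F.lin.unit, F.lin.fixes, fun d => F.lin.xr d, fun d => F.lin.ar d⟩
  intro k hk
  have hm : k⁻¹ * (σ ^ 1) k ∈ B := mem_brk hk 1
  have h1 := F.inj _ (ht ⟨_, hm⟩)
  have this : k⁻¹ * σ k = 1 := by simpa only [Subgroup.coe_subtype, pow_one] using h1
  rw [inv_mul_eq_one] at this
  exact this.symm

theorem Faithful.commute_of_fixed {N : Subgroup X} [N.Normal] (hN : ∀ n ∈ N, σ n = n) {n : X} (hn : n ∈ N)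
    (d : X) : Commute n d := commute_brk hN hn (F.aut.gen.symm ▸ mem_top d)

omit F in
theorem sigma_pow (h : Aut2 p q σ ξ) (i : ℕ) (d : X) : ξ ((σ ^ i) d) = (σ ^ i) (ξ d) := by
  induction i with
  | zero => rfl
  | succ i ih => rw [← pow_apply_comm, h.comm, ih, pow_apply_comm]

theorem Faithful.sum_zpowers (hq2 : q ≠ 2) {z : X} (hz : z ≠ 1) (hzq : z ^ q = 1) (hc : ∀ d, Commute z d)
    (hσ : σ z = z) (hξ : ξ z = z) : ∑ i ∈ Finset.range q, ρ z ^ i = 0 := by
  classical
  set e0 : R := ∑ i ∈ Finset.range q, ρ z ^ i with he0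
  obtain ⟨U, hU⟩ := F.lin.qunit
  set e : R := (↑U⁻¹ : R) * e0 with he
  have hUc : ∀ r : R, Commute (↑U⁻¹ : R) r := fun r =>
    Commute.units_inv_left (by rw [hU]; exact Nat.cast_commute q r)
  have hcomm : ∀ r : R, Commute r (ρ z) → Commute e r := fun r hr =>
    (hUc r).mul_left (Commute.sum_left _ _ _ fun i _ => (hr.pow_right i).symm)
  have hz1 : ρ z ^ q = 1 := by rw [← map_pow, hzq, map_one]
  have hze : ρ z * e0 = e0 := by
    have h1 := mul_geom_sum (ρ z) q
    rw [hz1, sub_self, sub_mul, one_mul, sub_eq_zero] at h1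
    exact h1
  have hzi : ∀ i, ρ z ^ i * e0 = e0 := fun i => by
    induction i with
    | zero => rw [pow_zero, one_mul]
    | succ i ih => rw [pow_succ, mul_assoc, hze, ih]
  have hee : e0 * e0 = (q : R) * e0 := by
    conv_lhs => arg 1; rw [he0]
    rw [Finset.sum_mul, Finset.sum_congr rfl fun i _ => hzi i, Finset.sum_const, Finset.card_range, nsmul_eq_mul]
  have hidem : IsIdempotentElem e := by
    show (↑U⁻¹ : R) * e0 * ((↑U⁻¹ : R) * e0) = (↑U⁻¹ : R) * e0
    rw [mul_assoc, ← mul_assoc e0, ← (hUc e0).eq, mul_assoc _ e0 e0, hee, ← mul_assoc (↑U⁻¹ : R) (q : R), ← hU,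
      Units.inv_mul, one_mul]
  have hρ : ∀ d, Commute e (ρ d) := fun d => hcomm _ (((hc d).symm).map ρ)
  have hxz : Commute e x := hcomm _ (by show x * ρ z = ρ z * x; rw [F.lin.xr, hξ])
  have haz : Commute e a := hcomm _ (by show a * ρ z = ρ z * a; rw [F.lin.ar, hσ])
  set N : Subgroup X := zpowers z with hN
  haveI : N.Normal := ⟨fun n hn g => by
    obtain ⟨k, rfl⟩ := mem_zpowers_iff.mp hn
    rw [← ((hc g).zpow_left k).eq, mul_inv_cancel_right]
    exact hn⟩
  have hiσ : Inv σ N := fun n hn => by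
    obtain ⟨k, rfl⟩ := mem_zpowers_iff.mp hn
    rw [map_zpow, hσ]; exact hn
  have hiξ : Inv ξ N := fun n hn => by
    obtain ⟨k, rfl⟩ := mem_zpowers_iff.mp hn
    rw [map_zpow, hξ]; exact hn
  have hl := F.lin.cut hidem hxz haz hρ
  have hker : N ≤ (cutHom hidem ρ hρ).ker := by
    rw [hN, zpowers_le, MonoidHom.mem_ker]
    refine Subtype.ext ?_
    show e * ρ z = e
    rw [(hρ z).eq, he, ← mul_assoc, ← (hUc _).eq, mul_assoc, hze]
  have hlt : Nat.card (X ⧸ N) < Nat.card X := by
    rw [card_eq_card_quotient_mul_card_subgroup N]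
    refine lt_mul_of_one_lt_right Nat.card_pos (lt_of_le_of_ne Nat.card_pos fun h1 => hz ?_)
    exact Subgroup.zpowers_eq_bot.mp (Subgroup.eq_bot_of_card_eq N h1.symm)
  have ht := F.ih (X ⧸ N) hlt _ _ (F.aut.quot hq2 N hiσ hiξ) hidem.Corner
    (QuotientGroup.lift N (cutHom hidem ρ hρ) hker) _ _
    { two := hl.two, qunit := hl.qunit, sq := hl.sq, unit := hl.unit, fixes := hl.fixes
      xr := fun d => by
        induction d using QuotientGroup.induction_on with
        | _ d => exact hl.xr d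
      ar := fun d => by
        induction d using QuotientGroup.induction_on with
        | _ d => exact hl.ar d }
  have hed : ∀ d, e * ρ d = e := fun d => congrArg Subtype.val (ht (d : X ⧸ N))
  have h0 : (Nat.card X : R) * e = 0 := by
    letI := Fintype.ofFinite X
    have h1 : e * CfsgLib.CoprimeInvCent.total ρ = (Nat.card X : R) * e := by
      rw [CfsgLib.CoprimeInvCent.total, Finset.mul_sum, Finset.sum_congr rfl fun d _ => hed d, Finset.sum_const,
        Finset.card_univ, Nat.card_eq_fintype_card, nsmul_eq_mul]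
    rw [← h1, F.total, mul_zero]
  obtain ⟨n, hn⟩ := IsPGroup.iff_card.mp F.aut.pgroup
  have hu : IsUnit (Nat.card X : R) := by rw [hn, Nat.cast_pow]; exact F.lin.qunit.pow n
  have he0' : e = 0 := hu.mul_right_eq_zero.mp h0
  exact (U⁻¹).isUnit.mul_right_eq_zero.mp he0'

omit F in
/-- Reduction to the faithful case without fixed vectors. -/
theorem trivial_of_faithful (hq2 : q ≠ 2)
    (core : ∀ (X : Type u) [Group X] [Finite X] (σ ξ : MulAut X) (R : Type v) [Ring R] (ρ : X →* R) (x a : R),
      Faithful p q σ ξ ρ x a → ∀ d : X, d = 1) :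
    ∀ (n : ℕ) (X : Type u) [Group X] [Finite X], Nat.card X = n → Triv.{u, v} p q X := by
  intro n
  induction n using Nat.strong_induction_on with
  | _ n ih =>
  intro X _ _ hn σ ξ h R _ ρ x a hl
  subst hn
  classical
  by_cases hker : ρ.ker = ⊥
  · obtain ⟨k, hk⟩ := IsPGroup.iff_card.mp h.pgroup
    have hu : IsUnit (Nat.card X : R) := by rw [hk, Nat.cast_pow]; exact hl.qunit.pow k
    obtain ⟨U, hU⟩ := hu
    have hUc : ∀ r : R, Commute (↑U⁻¹ : R) r := fun r =>
      Commute.units_inv_left (by rw [hU]; exact Nat.cast_commute _ r)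
    set e : R := (↑U⁻¹ : R) * CfsgLib.CoprimeInvCent.total ρ with he
    have hee : IsIdempotentElem e := by
      show e * e = e
      rw [he, mul_assoc, ← mul_assoc (CfsgLib.CoprimeInvCent.total ρ), ← (hUc _).eq, mul_assoc _ (CfsgLib.CoprimeInvCent.total ρ),
        total_mul_total, ← mul_assoc (↑U⁻¹ : R) (Nat.card X : R), ← hU, Units.inv_mul, one_mul]
    have hed : ∀ d, e * ρ d = e := fun d => by rw [he, mul_assoc, total_mul]
    have hρ : ∀ d, Commute e (ρ d) := fun d => (hUc _).mul_left (total_commute ρ d)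
    have hex : Commute e x := (hUc _).mul_left (commute_total ρ ξ hl.xr).symm
    have hea : Commute e a := (hUc _).mul_left (commute_total ρ σ hl.ar).symm
    have hf : IsIdempotentElem (1 - e) := hee.one_sub
    have hρ' : ∀ d, Commute (1 - e) (ρ d) := fun d => (Commute.one_left _).sub_left (hρ d)
    have hl' := hl.cut hf ((Commute.one_left x).sub_left hex) ((Commute.one_left a).sub_left hea) hρ'
    have hinj : ∀ d, ρ d = 1 → d = 1 := fun d hd => by
      have : d ∈ ρ.ker := hd
      rwa [hker, mem_bot] at this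
    have F : Faithful p q σ ξ (cutHom hf ρ hρ') _ _ :=
      { aut := h
        lin := hl'
        inj := fun d hd => hinj d (by
          have h1 : (1 - e) * ρ d = 1 - e := congrArg Subtype.val hd
          rw [sub_mul, one_mul, hed] at h1
          exact sub_left_inj.mp h1)
        total := by
          apply Subtype.ext
          letI := Fintype.ofFinite X
          have h1 : ((CfsgLib.CoprimeInvCent.total (cutHom hf ρ hρ') : hf.Corner)).1 =
              (1 - e) * CfsgLib.CoprimeInvCent.total ρ := by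
            rw [CfsgLib.CoprimeInvCent.total, CfsgLib.CoprimeInvCent.total, Finset.mul_sum]
            exact map_sum (⟨⟨fun r => r.1, rfl⟩, fun _ _ => rfl⟩ : hf.Corner →+ R) _ _
          show (CfsgLib.CoprimeInvCent.total (cutHom hf ρ hρ')).1 = (0 : R)
          have h2 : e * CfsgLib.CoprimeInvCent.total ρ = CfsgLib.CoprimeInvCent.total ρ := by
            rw [he, mul_assoc, total_mul_total, ← mul_assoc, ← hU, Units.inv_mul, one_mul]
          rw [h1, sub_mul, one_mul, h2, sub_self]
        ih := fun Y _ _ hY => ih _ hY Y rfl }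
    intro d
    rw [core X σ ξ _ _ _ _ F d, map_one]
  · have hiσ : Inv σ ρ.ker := fun d hd => (hl.map_eq_one hd).2
    have hiξ : Inv ξ ρ.ker := fun d hd => (hl.map_eq_one hd).1
    have hlt : Nat.card (X ⧸ ρ.ker) < Nat.card X := by
      rw [card_eq_card_quotient_mul_card_subgroup ρ.ker]
      exact lt_mul_of_one_lt_right Nat.card_pos (lt_of_le_of_ne Nat.card_pos fun h1 =>
        hker (Subgroup.eq_bot_of_card_eq _ h1.symm))
    have ht := ih _ hlt (X ⧸ ρ.ker) rfl _ _ (h.quot hq2 _ hiσ hiξ) R (QuotientGroup.lift ρ.ker ρ le_rfl) x a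
      { two := hl.two, qunit := hl.qunit, sq := hl.sq, unit := hl.unit, fixes := hl.fixes
        xr := fun d => by
          induction d using QuotientGroup.induction_on with
          | _ d => exact hl.xr d
        ar := fun d => by
          induction d using QuotientGroup.induction_on with
          | _ d => exact hl.ar d }
    intro d
    exact ht (d : X ⧸ ρ.ker)

end CfsgLib.CoprimeInvCent
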