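import Cfsg.Agent.Lib.FixGen.Basic

/-!
A coprime automorphism of prime order together with a commuting involutory automorphism: basic facts.
-/

set_option autoImplicit false
set_option linter.unusedSectionVars false
set_option linter.style.haveILetI false

namespace CfsgLib.CoprimeInvCent

open Subgroup CfsgLib.FixGen
open scoped commutatorElement IsMulCommutative

universe u
variable {H : Type u} [Group H] [Finite H] {α : MulAut H} {p : ℕ} [Fact p.Prime]

theorem eq_of_sq_eq_of_odd {a b : H} (hodd : Odd (Nat.card H)) (h : a * a = b * b) : a = b := by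
  obtain ⟨k, hk⟩ := hodd
  have key : ∀ c : H, (c * c) ^ (k + 1) = c := fun c => by
    rw [← pow_two, ← pow_mul, show 2 * (k + 1) = Nat.card H + 1 by omega, pow_succ, pow_card_eq_one', one_mul]
  rw [← key a, ← key b, h]

/-- Every element is an inverted element times a fixed one. -/
theorem exists_inverted_rep (hodd : Odd (Nat.card H)) {x : MulAut H} (hx : ∀ h, x (x h) = h) (d : H) :
    ∃ v : H, x v = v⁻¹ ∧ x (v⁻¹ * d) = v⁻¹ * d := by
  obtain ⟨k, hk⟩ := hodd
  set t := d * (x d)⁻¹ with ht
  have hxt : x t = t⁻¹ := by rw [ht, map_mul, map_inv, hx, mul_inv_rev, inv_inv]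
  refine ⟨t ^ (k + 1), by rw [map_pow, hxt, inv_pow], ?_⟩
  have h2 : t ^ (k + 1) * t ^ (k + 1) = d * (x d)⁻¹ := by
    rw [← pow_add, show k + 1 + (k + 1) = Nat.card H + 1 by omega, pow_succ, pow_card_eq_one', one_mul, ← ht]
  rw [map_mul, map_inv, map_pow, hxt, inv_pow, inv_inv]
  calc t ^ (k + 1) * x d = (t ^ (k + 1))⁻¹ * (t ^ (k + 1) * t ^ (k + 1)) * x d := by group
    _ = (t ^ (k + 1))⁻¹ * d := by rw [h2]; group

theorem map_commutator_le (hq : H ≃* H) {g : H} (hg : g ∈ commutator H) : hq g ∈ commutator H := by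
  have : (commutator H).map hq.toMonoidHom ≤ commutator H := by
    rw [commutator_def, Subgroup.map_commutator]
    exact Subgroup.commutator_mono le_top le_top
  exact this ⟨g, hg, rfl⟩

/-- A fixed point of `α` lies in the derived group, if `H = [H, α]`. -/
theorem fixed_mem_commutator (hα : α ^ p = 1) (hcop : (Nat.card H).Coprime p)
    (hgen : brk α ((⊤ : Subgroup H) : Set H) = ⊤) {f : H} (hf : α f = f) : f ∈ commutator H := by
  have hinv : Inv α (commutator H) := fun g hg => map_commutator_le α hg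
  let N := commutator H
  let y : MulAut (H ⧸ N) := QuotientGroup.congr N N α hinv.map_eq
  have hy : ∀ h : H, y (h : H ⧸ N) = ((α h : H) : H ⧸ N) := fun h => rfl
  have hyi : ∀ (i : ℕ) (h : H), (y ^ i) (h : H ⧸ N) = (((α ^ i) h : H) : H ⧸ N) := by
    intro i
    induction i with
    | zero => intro h; rfl
    | succ i ih =>
      intro h
      rw [← pow_apply_comm, ih, ← pow_apply_comm]
      rfl
  have hyp : y ^ p = 1 := by
    ext a
    induction a using QuotientGroup.induction_on with
    | _ h => rw [hyi, hα]; rfl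
  haveI : IsMulCommutative (H ⧸ N) := Subgroup.Normal.quotient_commutative_iff_commutator_le.mpr le_rfl
  have hcopq : (Nat.card (H ⧸ N)).Coprime p := hcop.coprime_dvd_left (card_quotient_dvd_card N)
  haveI : IsMulCommutative (⊤ : Subgroup (H ⧸ N)) := ⟨⟨fun a b => Subtype.ext (mul_comm' (a : H ⧸ N) b)⟩⟩
  have hb : (f : H ⧸ N) ∈ brk y ((⊤ : Subgroup (H ⧸ N)) : Set (H ⧸ N)) := by
    have hle : brk α ((⊤ : Subgroup H) : Set H) ≤
        (brk y ((⊤ : Subgroup (H ⧸ N)) : Set (H ⧸ N))).comap (QuotientGroup.mk' N) :=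
      (closure_le _).mpr fun _ ⟨k, _, i, e⟩ => by
        show ((_ : H) : H ⧸ N) ∈ brk y _
        rw [e, QuotientGroup.mk_mul, QuotientGroup.mk_inv, ← hyi]
        exact mem_brk (mem_top _) i
    exact hle (hgen.symm ▸ mem_top f)
  have h1 := fixed_eq_one hyp hcopq (W := (⊤ : Subgroup (H ⧸ N))) Inv.top hb
    (mem_fx.mpr (by rw [hy, hf]))
  exact (QuotientGroup.eq_one_iff f).mp h1

/-- The involutory automorphism inverts `H` modulo the derived group. -/
theorem mul_mem_commutator (hodd : Odd (Nat.card H)) (hα : α ^ p = 1) (hcop : (Nat.card H).Coprime p)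
    (hgen : brk α ((⊤ : Subgroup H) : Set H) = ⊤) {x : MulAut H} (hx : ∀ h, x (x h) = h)
    (hfix : ∀ h, x h = h → α h = h) (d : H) : x d * d ∈ commutator H := by
  obtain ⟨v, hv, hf⟩ := exists_inverted_rep hodd hx d
  have hfN := fixed_mem_commutator hα hcop hgen (hfix _ hf)
  set f := v⁻¹ * d with hfdef
  have hd : d = v * f := by rw [hfdef]; group
  rw [hd, map_mul, hv, hf, show v⁻¹ * f * (v * f) = v⁻¹ * f * v * f by group]
  refine mul_mem ?_ hfN
  have := (inferInstance : (commutator H).Normal).conj_mem f hfN v⁻¹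
  rwa [inv_inv] at this

theorem brk_invariant {x : MulAut H} (hxα : ∀ h, x (α h) = α (x h)) {K : Subgroup H} (hK : Inv x K) :
    Inv x (brk α (K : Set H)) := inv_closure fun s ⟨k, hk, i, e⟩ => by
  have hp : ∀ (j : ℕ) (h : H), x ((α ^ j) h) = (α ^ j) (x h) := by
    intro j
    induction j with
    | zero => intro h; rfl
    | succ j ih => intro h; rw [← pow_apply_comm, hxα, ih, pow_apply_comm]
  rw [e, map_mul, map_inv, hp]
  exact mem_brk (hK k hk) i

/-- Fixed elements of a normal subgroup commute with `[H, α]`. -/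
theorem commute_brk {N : Subgroup H} [N.Normal] (hN : ∀ n ∈ N, α n = n) {P : Set H} {n g : H} (hn : n ∈ N)
    (hg : g ∈ brk α P) : Commute n g := by
  revert n
  induction hg using closure_induction with
  | mem g hg =>
    obtain ⟨k, -, i, rfl⟩ := hg
    intro n hn
    have h1 : (α ^ i) (k * n * k⁻¹) = k * n * k⁻¹ := fx_pow (hN _ ((inferInstance : N.Normal).conj_mem n hn k)) i
    rw [map_mul, map_mul, map_inv, fx_pow (x := α) (hN n hn) i] at h1
    show n * (k⁻¹ * (α ^ i) k) = k⁻¹ * (α ^ i) k * n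
    calc n * (k⁻¹ * (α ^ i) k) = k⁻¹ * (k * n * k⁻¹) * (α ^ i) k := by group
      _ = k⁻¹ * ((α ^ i) k * n * ((α ^ i) k)⁻¹) * (α ^ i) k := by rw [h1]
      _ = _ := by group
  | one => exact fun {n} _ => Commute.one_right n
  | mul a b _ _ ha hb => exact fun {n} hn => (ha hn).mul_right (hb hn)
  | inv a _ ha => exact fun {n} hn => (ha hn).inv_right

theorem brk_res {K : Subgroup H} (hK : Inv α K) :
    (brk (res hK) ((⊤ : Subgroup K) : Set K)).map K.subtype = brk α (K : Set H) := by
  refine le_antisymm ?_ ((closure_le _).mpr ?_)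
  · rw [brk, MonoidHom.map_closure]
    refine (closure_le _).mpr ?_
    rintro _ ⟨_, ⟨k, -, i, rfl⟩, rfl⟩
    simp only [map_mul, map_inv, Subgroup.coe_subtype, res_pow]
    exact mem_brk k.2 i
  · rintro _ ⟨k, hk, i, rfl⟩
    exact ⟨(⟨k, hk⟩ : K)⁻¹ * (res hK ^ i) ⟨k, hk⟩, mem_brk (mem_top _) i, by simp [res_pow]⟩

/-- `[K, α] = [K, α, α]`, as a statement inside `[K, α]`. -/
theorem brk_res_top (hα : α ^ p = 1) (hcop : (Nat.card H).Coprime p) {K : Subgroup H} (hK : Inv α K) :
    brk (res (inv_brk (x := α) (K : Set H))) ((⊤ : Subgroup (brk α (K : Set H))) : Set (brk α (K : Set H))) = ⊤ := by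
  apply Subgroup.map_injective (brk α (K : Set H)).subtype_injective
  rw [brk_res, brk_brk hα hcop hK, ← MonoidHom.range_eq_map, Subgroup.range_subtype]

end CfsgLib.CoprimeInvCent
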