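import Cfsg.Agent.Lib.CoprimeInvCent.Act

/-!
The faithful case without fixed vectors is void: abelian groups by a character, class two groups by the
multiplication rule for symmetrised elements.
-/

set_option autoImplicit false
set_option linter.unusedSectionVars false
set_option linter.style.haveILetI false

namespace CfsgLib.CoprimeInvCent

open Subgroup CfsgLib.FixGen
open scoped commutatorElement IsMulCommutative

universe u v

variable {p q : ℕ} [Fact p.Prime] [Fact q.Prime]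
variable {X : Type u} [Group X] [Finite X] {σ ξ : MulAut X} {R : Type v} [Ring R] {ρ : X →* R} {x a : R}

theorem pow_eq_one_of_class_two (hq2 : q ≠ 2) {u w : X} (hu : u ^ q = 1) (hw : w ^ q = 1)
    (hc : ∀ d e g : X, Commute ⁅d, e⁆ g) (hz : ∀ d e : X, ⁅d, e⁆ ^ q = 1) : (u * w) ^ q = 1 := by
  have hd : w * u = u * w * ⁅w⁻¹, u⁻¹⁆ := by rw [commutatorElement_def]; group
  rw [Small.mul_pow_class_two hd (hc _ _ _) (hc _ _ _) q, hu, hw, one_mul, one_mul]
  obtain ⟨k, hk⟩ : q ∣ q.choose 2 := by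
    have := (Fact.out : q.Prime).two_le
    exact (Fact.out : q.Prime).dvd_choose_self two_ne_zero (by omega)
  rw [hk, pow_mul, hz, one_pow]

/-- The idempotent onto the fixed vectors of `x`. -/
noncomputable def proj (F : Lin q σ ξ ρ x a) : R := (↑F.two.unit⁻¹ : R) * (1 + x)

section Lin

variable (L : Lin q σ ξ ρ x a)

theorem half_commute (r : R) : Commute (↑L.two.unit⁻¹ : R) r :=
  Commute.units_inv_left (by rw [IsUnit.unit_spec]; exact Nat.cast_commute 2 r)

theorem proj_idem : proj L * proj L = proj L := by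
  have h2 : (1 + x) * (1 + x) = ((2 : ℕ) : R) * (1 + x) := by
    rw [mul_add, mul_one, add_mul, one_mul, L.sq, Nat.cast_ofNat, two_mul]; abel
  rw [proj, mul_assoc, ← mul_assoc (1 + x), ← (half_commute L _).eq, mul_assoc _ (1 + x) (1 + x), h2,
    ← mul_assoc (↑L.two.unit⁻¹ : R) ((2 : ℕ) : R), show (↑L.two.unit⁻¹ : R) * ((2 : ℕ) : R) = 1 from L.two.val_inv_mul,
    one_mul]

theorem a_mul_proj : a * proj L = proj L := by
  rw [proj, ← mul_assoc, ← (half_commute L a).eq, mul_assoc, L.fixes]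

theorem proj_commute {r : R} (h : Commute x r) : Commute (proj L) r :=
  (half_commute L r).mul_left ((Commute.one_left r).add_left h)

end Lin

variable (F : Faithful p q σ ξ ρ x a)
include F

theorem Faithful.proj_ne_zero (hX : Nontrivial X) : proj F.lin ≠ 0 := fun h0 => by
  have h1 : 1 + x = 0 := (F.lin.two.unit⁻¹).isUnit.mul_right_eq_zero.mp h0
  have hx : x = -1 := eq_neg_of_add_eq_zero_right h1
  have hξ : ∀ d, ξ d = d := fun d => by
    have h2 := F.lin.xr d
    rw [hx, neg_one_mul, mul_neg_one, neg_inj] at h2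
    have h3 : ρ (d⁻¹ * ξ d) = 1 := by rw [map_mul, ← h2, ← map_mul, inv_mul_cancel, map_one]
    exact (inv_mul_eq_one.mp (F.inj _ h3)).symm
  have hσ : ∀ d, σ d = d := fun d => F.aut.fix d (hξ d)
  have : (⊤ : Subgroup X) ≤ ⊥ := by
    rw [← F.aut.gen]
    exact brk_le fun k _ => (closure_le _).mpr fun _ ⟨i, e⟩ => by
      rw [e, fx_pow (x := σ) (hσ k), inv_mul_cancel]; exact one_mem _
  obtain ⟨d, hd⟩ := exists_ne (1 : X)
  exact hd (mem_bot.mp (this (mem_top d)))

theorem Faithful.commute_x {u : X} (hu : ξ u = u⁻¹) : Commute x (cs ρ u) :=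
  cs_commute ρ (by rw [F.lin.xr, hu]) (by rw [F.lin.xr, map_inv, hu, inv_inv])

theorem Faithful.proj_commute_cs {u : X} (hu : ξ u = u⁻¹) : Commute (proj F.lin) (cs ρ u) :=
  proj_commute F.lin (F.commute_x hu)

/-- The key identity. -/
theorem Faithful.cs_sigma {u : X} (hu : ξ u = u⁻¹) : cs ρ (σ u) * proj F.lin = cs ρ u * proj F.lin := by
  set P := proj F.lin with hP
  have hac : a * cs ρ u = cs ρ (σ u) * a := by
    rw [cs, cs, mul_add, add_mul, F.lin.ar, F.lin.ar, map_inv]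
  have haP : a * P = P := a_mul_proj F.lin
  have hc := F.proj_commute_cs hu
  rw [← hP] at hc
  calc cs ρ (σ u) * P = cs ρ (σ u) * (a * P) := by rw [haP]
    _ = a * cs ρ u * P := by rw [hac, mul_assoc]
    _ = a * P * cs ρ u := by rw [mul_assoc, ← hc.eq, mul_assoc]
    _ = cs ρ u * P := by rw [haP, hc.eq]

theorem Faithful.inv_sigma_pow {u : X} (hu : ξ u = u⁻¹) (i : ℕ) : ξ ((σ ^ i) u) = ((σ ^ i) u)⁻¹ := by
  rw [sigma_pow F.aut, hu, map_inv]

theorem Faithful.cs_sigma_pow {u : X} (hu : ξ u = u⁻¹) (i : ℕ) :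
    cs ρ ((σ ^ i) u) * proj F.lin = cs ρ u * proj F.lin := by
  induction i with
  | zero => rfl
  | succ i ih => rw [← pow_apply_comm, F.cs_sigma (F.inv_sigma_pow hu i), ih]

theorem Faithful.isUnit_card : IsUnit (Nat.card X : R) := by
  obtain ⟨n, hn⟩ := IsPGroup.iff_card.mp F.aut.pgroup
  rw [hn, Nat.cast_pow]
  exact F.lin.qunit.pow n

/-- The abelian case. -/
theorem Faithful.false_of_abelian (hq2 : q ≠ 2) (hp2 : p ≠ 2) (hX : Nontrivial X)
    (hab : ∀ d e : X, Commute d e) : False := by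
  classical
  have hodd := odd_card_of hq2 F.aut
  have hinv : ∀ d, ξ d = d⁻¹ := fun d => by
    have h1 := mul_mem_commutator hodd F.aut.pow F.aut.cop F.aut.gen F.aut.invol F.aut.fix d
    have : commutator X = ⊥ := by
      rw [commutator_def, eq_bot_iff, commutator_le]
      exact fun d _ e _ => mem_bot.mpr (commutatorElement_eq_one_iff_commute.mpr (hab d e))
    rw [this, mem_bot] at h1
    exact eq_inv_of_mul_eq_one_left h1
  set P := proj F.lin with hP
  -- the symmetrised images are invariant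
  have hK : ∀ u, cs ρ (σ u) = cs ρ u := by
    intro u
    set K := cs ρ (σ u) - cs ρ u with hKdef
    have hcomm : ∀ d, Commute K (ρ d) := fun d =>
      ((commute_cs ρ (u := σ u) fun e => (hab d e).map ρ).symm).sub_left
        ((commute_cs ρ (u := u) fun e => (hab d e).map ρ).symm)
    have hKP : K * P = 0 := by rw [hKdef, sub_mul, F.cs_sigma (hinv u), sub_self]
    have hKx : K * x = -K := by
      have h1 : K * (1 + x) = 0 := by
        have h2 : K * ((↑F.lin.two.unit⁻¹ : R) * (1 + x)) = 0 := hKP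
        rw [← mul_assoc, ← (half_commute F.lin K).eq, mul_assoc] at h2
        exact (F.lin.two.unit⁻¹).isUnit.mul_right_eq_zero.mp h2
      rw [mul_add, mul_one] at h1
      exact eq_neg_of_add_eq_zero_right h1
    have hd : ∀ d, K * ρ d = K := fun d => by
      have h1 : K * ρ d⁻¹ = K * ρ d := by
        have e1 : K * ρ d⁻¹ * x = -(K * ρ d) := by
          rw [mul_assoc, show ρ d⁻¹ * x = x * ρ d by rw [F.lin.xr, hinv], ← mul_assoc, hKx, neg_mul]
        have e2 : K * ρ d⁻¹ * x = -(K * ρ d⁻¹) := by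
          rw [(hcomm d⁻¹).eq, mul_assoc, hKx, mul_neg]
        exact neg_inj.mp (e2.symm.trans e1)
      have h2 : K * ρ (d * d) = K := by
        rw [map_mul, ← mul_assoc, ← h1, mul_assoc, ← map_mul, inv_mul_cancel, map_one, mul_one]
      obtain ⟨k, hk⟩ := hodd
      have hdd : d = (d * d) ^ (k + 1) := by
        rw [← pow_two, ← pow_mul, show 2 * (k + 1) = Nat.card X + 1 by omega, pow_succ, pow_card_eq_one', one_mul]
      rw [hdd, map_pow]
      have : ∀ j : ℕ, K * ρ (d * d) ^ j = K := fun j => by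
        induction j with
        | zero => rw [pow_zero, mul_one]
        | succ j ih => rw [pow_succ, ← mul_assoc, ih, h2]
      exact this _
    have hT : K * CfsgLib.CoprimeInvCent.total ρ = (Nat.card X : R) * K := by
      letI := Fintype.ofFinite X
      rw [CfsgLib.CoprimeInvCent.total, Finset.mul_sum, Finset.sum_congr rfl fun d _ => hd d, Finset.sum_const,
        Finset.card_univ, Nat.card_eq_fintype_card, nsmul_eq_mul]
    rw [F.total, mul_zero] at hT
    exact sub_eq_zero.mp (F.isUnit_card.mul_right_eq_zero.mp hT.symm)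
  -- a commutative ring containing the image
  set S := Subring.centralizer (Set.range ρ) with hS
  have hmem : ∀ d, ρ d ∈ S := fun d => Subring.mem_centralizer_iff.mpr (by
    rintro _ ⟨e, rfl⟩; exact ((hab e d).map ρ).eq)
  have hcen : ∀ d, (⟨ρ d, hmem d⟩ : S) ∈ Subring.center S := fun d =>
    Subring.mem_center_iff.mpr fun s => Subtype.ext (Subring.mem_centralizer_iff.mp s.2 _ ⟨d, rfl⟩).symm
  let ρ0 : X →* Subring.center S :=
    { toFun := fun d => ⟨⟨ρ d, hmem d⟩, hcen d⟩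
      map_one' := Subtype.ext (Subtype.ext (map_one ρ))
      map_mul' := fun d e => Subtype.ext (Subtype.ext (map_mul ρ d e)) }
  have hv : ∀ d, ((ρ0 d : S) : R) = ρ d := fun d => rfl
  have hun : ∀ n : ℕ, IsUnit (n : R) → IsUnit (n : Subring.center S) := fun n hn => by
    obtain ⟨U, hU⟩ := hn
    have hUc : ∀ r : R, Commute (↑U⁻¹ : R) r := fun r =>
      Commute.units_inv_left (by rw [hU]; exact Nat.cast_commute n r)
    let w : Subring.center S := ⟨⟨↑U⁻¹, Subring.mem_centralizer_iff.mpr fun r _ => (hUc r).eq.symm⟩,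
      Subring.mem_center_iff.mpr fun s => Subtype.ext (hUc (s : R)).eq.symm⟩
    refine IsUnit.of_mul_eq_one w (Subtype.ext (Subtype.ext ?_))
    show ((((n : Subring.center S) : S)) : R) * (↑U⁻¹ : R) = 1
    simp only [SubringClass.coe_natCast]
    rw [← hU, Units.mul_inv]
  -- a maximal ideal on which the group acts nontrivially
  obtain ⟨d0, hd0⟩ := exists_ne (1 : X)
  obtain ⟨M, hM, hMd⟩ : ∃ M : Ideal (Subring.center S), M.IsMaximal ∧ ρ0 d0 - 1 ∉ M := by
    by_contra hcon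
    push Not at hcon
    set r := ρ0 d0 - 1 with hr
    set n := orderOf d0 with hn
    have hnu : IsUnit (n : Subring.center S) := by
      obtain ⟨k, hk⟩ := IsPGroup.iff_orderOf.mp F.aut.pgroup d0
      refine hun n ?_
      rw [hn, hk, Nat.cast_pow]
      exact F.lin.qunit.pow k
    set T := ∑ i ∈ Finset.range n, ρ0 d0 ^ i with hT
    have hrT : r * T = 0 := by rw [hr, hT, mul_geom_sum, ← map_pow, pow_orderOf_eq_one, map_one, sub_self]
    have hTu : IsUnit T := by
      by_contra hnu'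
      obtain ⟨M, hM, hTM⟩ := exists_max_ideal_of_mem_nonunits hnu'
      have hrM : r ∈ M := hcon M hM
      have hpow : ∀ i : ℕ, ρ0 d0 ^ i - 1 ∈ M := fun i => by
        rw [← mul_geom_sum (ρ0 d0) i]
        exact M.mul_mem_right _ hrM
      have hnM : (n : Subring.center S) ∈ M := by
        have h1 : T - (n : Subring.center S) ∈ M := by
          rw [hT, show (n : Subring.center S) = ∑ i ∈ Finset.range n, (1 : Subring.center S) by simp,
            ← Finset.sum_sub_distrib]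
          exact M.sum_mem fun i _ => hpow i
        simpa using M.sub_mem hTM h1
      exact hM.ne_top (Ideal.eq_top_of_isUnit_mem M hnM hnu)
    have hr0 : r = 0 := hTu.mul_left_eq_zero.mp hrT
    rw [hr, sub_eq_zero] at hr0
    exact hd0 (F.inj d0 (by rw [← hv, hr0]; rfl))
  let ψ : X →* (Subring.center S ⧸ M)ˣ := ((Ideal.Quotient.mk M).toMonoidHom.comp ρ0).toHomUnits
  haveI : IsDomain (Subring.center S ⧸ M) := (Ideal.Quotient.isDomain_iff_prime M).mpr hM.isPrime
  have hψ : ∀ d, ψ (σ d) = ψ d ∨ ψ (σ d) = (ψ d)⁻¹ := fun d => by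
    have h1 : ρ0 (σ d) + ρ0 (σ d)⁻¹ = ρ0 d + ρ0 d⁻¹ := Subtype.ext (Subtype.ext (hK d))
    set A : Subring.center S ⧸ M := ((ψ (σ d) : (Subring.center S ⧸ M)ˣ) : Subring.center S ⧸ M) with hA
    set A' : Subring.center S ⧸ M := (((ψ (σ d))⁻¹ : (Subring.center S ⧸ M)ˣ) : Subring.center S ⧸ M) with hA'
    set B : Subring.center S ⧸ M := ((ψ d : (Subring.center S ⧸ M)ˣ) : Subring.center S ⧸ M) with hB
    set B' : Subring.center S ⧸ M := (((ψ d)⁻¹ : (Subring.center S ⧸ M)ˣ) : Subring.center S ⧸ M) with hB'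
    have hA1 : A * A' = 1 := Units.mul_inv _
    have hB1 : B * B' = 1 := Units.mul_inv _
    have hA2 : A' = Ideal.Quotient.mk M (ρ0 (σ d)⁻¹) := by rw [hA', ← map_inv ψ]; rfl
    have hB2 : B' = Ideal.Quotient.mk M (ρ0 d⁻¹) := by rw [hB', ← map_inv ψ]; rfl
    have hE : A + A' = B + B' := by
      have := congrArg (Ideal.Quotient.mk M) h1
      rw [map_add, map_add] at this
      rw [hA2, hB2]
      exact this
    have h0 : (A - B) * (A * B - 1) = 0 := by linear_combination A * B * hE - B * hA1 + A * hB1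
    rcases mul_eq_zero.mp h0 with h | h
    · exact Or.inl (Units.ext (sub_eq_zero.mp h))
    · exact Or.inr (mul_eq_one_iff_eq_inv.mp (Units.ext (sub_eq_zero.mp h)))
  have hall : (∀ d, ψ (σ d) = ψ d) ∨ (∀ d, ψ (σ d) = (ψ d)⁻¹) := by
    by_contra hno
    push Not at hno
    obtain ⟨⟨d1, h1⟩, ⟨d2, h2⟩⟩ := hno
    have e1 := (hψ d1).resolve_left h1
    have e2 := (hψ d2).resolve_right h2
    rcases hψ (d1 * d2) with h | h
    · rw [map_mul, map_mul, map_mul, e2] at h
      exact h1 (mul_right_cancel h)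
    · rw [map_mul, map_mul, map_mul, e1, mul_inv_rev, mul_comm (ψ d2)⁻¹] at h
      exact h2 (mul_left_cancel h)
  have hψ0 : ψ d0 = 1 := by
    rcases hall with hA | hB
    · have hle : (⊤ : Subgroup X) ≤ ψ.ker := by
        rw [← F.aut.gen]
        refine brk_le fun k _ => (closure_le _).mpr fun _ ⟨i, e⟩ => ?_
        have hi : ∀ i : ℕ, ψ ((σ ^ i) k) = ψ k := fun i => by
          induction i with
          | zero => rfl
          | succ i ih => rw [← pow_apply_comm, hA, ih]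
        rw [e, SetLike.mem_coe, MonoidHom.mem_ker, map_mul, map_inv, hi, inv_mul_cancel]
      exact hle (mem_top d0)
    · obtain ⟨j, hj⟩ := (Fact.out : p.Prime).odd_of_ne_two hp2
      have h2i : ∀ i : ℕ, ψ ((σ ^ (2 * i)) d0) = ψ d0 := fun i => by
        induction i with
        | zero => rfl
        | succ i ih =>
          rw [show 2 * (i + 1) = 2 * i + 1 + 1 by ring, ← pow_apply_comm, hB, ← pow_apply_comm, hB, inv_inv, ih]
      have h1 : ψ d0 = (ψ d0)⁻¹ := by
        conv_lhs => rw [show d0 = (σ ^ p) d0 by rw [F.aut.pow]; rfl, hj, ← pow_apply_comm, hB, h2i]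
      have h2 : ψ d0 * ψ d0 = 1 := by nth_rewrite 2 [h1]; exact mul_inv_cancel _
      obtain ⟨k, hk⟩ := hodd
      have h3 : (ψ d0 * ψ d0) ^ (k + 1) = ψ d0 := by
        rw [← map_mul, ← map_pow, ← pow_two, ← pow_mul, show 2 * (k + 1) = Nat.card X + 1 by omega, pow_succ,
          pow_card_eq_one', one_mul]
      rw [← h3, h2, one_pow]
  refine hMd ?_
  rw [← Ideal.Quotient.eq_zero_iff_mem, map_sub, map_one, sub_eq_zero]
  exact congrArg Units.val hψ0

/-- The class two case. -/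
theorem Faithful.false_of_class_two (hq2 : q ≠ 2) (hp2 : p ≠ 2) (hX : Nontrivial X)
    (hnab : ¬ ∀ d e : X, Commute d e) : False := by
  classical
  have hq : q.Prime := Fact.out
  haveI : Nontrivial X := hX
  have hodd := odd_card_of hq2 F.aut
  haveI : Group.IsNilpotent X := F.aut.pgroup.isNilpotent
  set P := proj F.lin with hPdef
  have hP0 : P ≠ 0 := F.proj_ne_zero hX
  have hPP : P * P = P := proj_idem F.lin
  -- the Frattini subgroup is central and fixed
  set Φ := frattini X with hΦ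
  have hΦtop : Φ ≠ ⊤ := by
    intro e
    have : ∃ M : Subgroup X, IsCoatom M := by
      obtain h | ⟨M, hM, -⟩ := eq_top_or_exists_le_coatom (⊥ : Subgroup X)
      · exact absurd h bot_ne_top
      · exact ⟨M, hM⟩
    obtain ⟨M, hM⟩ := this
    exact hM.1 (top_unique (e ▸ frattini_le_coatom hM))
  have hΦinv : ∀ τ : MulAut X, Inv τ Φ := fun τ d hd => by
    haveI : Φ.Characteristic := frattini_characteristic
    have := Subgroup.characteristic_iff_map_eq.mp (inferInstance : Φ.Characteristic) τ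
    exact this ▸ ⟨d, hd, rfl⟩
  have hΦfix : ∀ d ∈ Φ, σ d = d := F.fixed_of_proper (hΦinv σ) (hΦinv ξ) hΦtop
  haveI : Φ.Normal := by
    haveI : Φ.Characteristic := frattini_characteristic
    infer_instance
  have hΦcen : ∀ d ∈ Φ, ∀ g, Commute d g := fun d hd g => F.commute_of_fixed hΦfix hd g
  have hcomΦ : ∀ d e : X, ⁅d, e⁆ ∈ Φ := fun d e =>
    commutator_le_frattini_pGroup F.aut.pgroup (Subgroup.commutator_mem_commutator (mem_top d) (mem_top e))
  have hcc : ∀ d e g : X, Commute ⁅d, e⁆ g := fun d e => hΦcen _ (hcomΦ d e)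
  -- bilinearity
  have bl : ∀ d e g : X, ⁅d * e, g⁆ = ⁅d, g⁆ * ⁅e, g⁆ := fun d e g => by
    calc ⁅d * e, g⁆ = d * ⁅e, g⁆ * d⁻¹ * ⁅d, g⁆ := by simp only [commutatorElement_def]; group
      _ = ⁅e, g⁆ * ⁅d, g⁆ := by rw [← (hcc e g d).eq, mul_inv_cancel_right]
      _ = ⁅d, g⁆ * ⁅e, g⁆ := (hcc e g _).eq
  have blinv : ∀ d g : X, ⁅d⁻¹, g⁆ = ⁅d, g⁆⁻¹ := fun d g => by
    refine eq_inv_of_mul_eq_one_left ?_
    rw [← bl, inv_mul_cancel, commutatorElement_one_left]
  have brinv : ∀ d g : X, ⁅d, g⁻¹⁆ = ⁅d, g⁆⁻¹ := fun d g => by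
    rw [← commutatorElement_inv g⁻¹ d, blinv, inv_inv, commutatorElement_inv]
  have br : ∀ d e g : X, ⁅g, d * e⁆ = ⁅g, d⁆ * ⁅g, e⁆ := fun d e g => by
    rw [← commutatorElement_inv, bl, mul_inv_rev, commutatorElement_inv, commutatorElement_inv]
    exact (hcc g e _).eq
  have blpow : ∀ (d g : X) (n : ℕ), ⁅d ^ n, g⁆ = ⁅d, g⁆ ^ n := fun d g n => by
    induction n with
    | zero => rw [pow_zero, pow_zero, commutatorElement_one_left]
    | succ n ih => rw [pow_succ, bl, ih, pow_succ]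
  have brpow : ∀ (d g : X) (n : ℕ), ⁅g, d ^ n⁆ = ⁅g, d⁆ ^ n := fun d g n => by
    rw [← commutatorElement_inv, blpow, ← inv_pow, commutatorElement_inv]
  have hzq : ∀ d e : X, ⁅d, e⁆ ^ q = 1 := fun d e => by
    rw [← blpow, commutatorElement_eq_one_iff_commute]
    exact hΦcen _ (pow_mem_frattini_pGroup F.aut.pgroup d) e
  have hexp : ∀ d : X, d ^ q = 1 := by
    have hle : (⊤ : Subgroup X) ≤
        { carrier := {d | d ^ q = 1}
          one_mem' := one_pow q
          mul_mem' := fun {d e} hd he => pow_eq_one_of_class_two hq2 hd he hcc hzq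
          inv_mem' := fun {d} hd => by show d⁻¹ ^ q = 1; rw [inv_pow, show d ^ q = 1 from hd, inv_one] } := by
      rw [← F.aut.gen]
      refine brk_le fun k _ => (closure_le _).mpr fun _ ⟨i, e⟩ => ?_
      show _ ^ q = 1
      rw [e]
      have hd : ∀ u w : X, (u * w) ^ q = u ^ q * w ^ q := fun u w => by
        have hd : w * u = u * w * ⁅w⁻¹, u⁻¹⁆ := by rw [commutatorElement_def]; group
        rw [Small.mul_pow_class_two hd (hcc _ _ _) (hcc _ _ _) q]
        obtain ⟨c, hc⟩ : q ∣ q.choose 2 := hq.dvd_choose_self two_ne_zero (by have := hq.two_le; omega)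
        rw [hc, pow_mul, hzq, one_pow, mul_one]
      rw [hd, inv_pow, ← map_pow, fx_pow (x := σ) (hΦfix _ (pow_mem_frattini_pGroup F.aut.pgroup k)) i,
        inv_mul_cancel]
    exact fun d => hle (mem_top d)
  -- the derived group
  set Z := commutator X with hZ
  have hZΦ : Z ≤ Φ := commutator_le_frattini_pGroup F.aut.pgroup
  have hZc : ∀ z ∈ Z, ∀ g, Commute z g := fun z hz => hΦcen z (hZΦ hz)
  have hrep := exists_inverted_rep hodd F.aut.invol
  have hξZ : ∀ z ∈ Z, ξ z = z := by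
    have h1 : ∀ d e : X, ξ ⁅d, e⁆ = ⁅d, e⁆ := fun d e => by
      have hd := mul_mem_commutator hodd F.aut.pow F.aut.cop F.aut.gen F.aut.invol F.aut.fix d
      have he := mul_mem_commutator hodd F.aut.pow F.aut.cop F.aut.gen F.aut.invol F.aut.fix e
      have hd' : ξ d = (ξ d * d) * d⁻¹ := by group
      have he' : ξ e = (ξ e * e) * e⁻¹ := by group
      have c1 : ∀ {z u g : X}, z ∈ Z → ⁅z * u, g⁆ = ⁅u, g⁆ := fun {z u g} hz => by
        rw [bl, commutatorElement_eq_one_iff_commute.mpr (hZc _ hz _), one_mul]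
      have c2 : ∀ {z u g : X}, z ∈ Z → ⁅g, z * u⁆ = ⁅g, u⁆ := fun {z u g} hz => by
        rw [br, commutatorElement_eq_one_iff_commute.mpr (hZc _ hz _).symm, one_mul]
      rw [map_commutatorElement, hd', he', c1 hd, c2 he, blinv, brinv, inv_inv]
    intro z hz
    have : Z ≤ fx ξ := by
      rw [hZ, commutator_def, commutator_le]
      exact fun d _ e _ => h1 d e
    exact this hz
  have hsum : ∀ z ∈ Z, z ≠ 1 → ∑ i ∈ Finset.range q, ρ z ^ i = 0 := fun z hz hz1 =>
    F.sum_zpowers hq2 hz1 (hexp z) (hZc z hz) (hΦfix z (hZΦ hz)) (hξZ z hz)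
  have hunit : ∀ z ∈ Z, z ≠ 1 → IsUnit (ρ z - 1) := fun z hz hz1 =>
    isUnit_sub_one (by rw [← map_pow, hexp, map_one]) (hsum z hz hz1) F.lin.qunit
  have hρZ : ∀ z ∈ Z, ∀ d, Commute (ρ z) (ρ d) := fun z hz d => (hZc z hz d).map ρ
  have hρZP : ∀ z ∈ Z, Commute (ρ z) P := fun z hz => (proj_commute F.lin (by
    show x * ρ z = ρ z * x
    rw [F.lin.xr, hξZ z hz])).symm
  -- inverted elements
  have huniq : ∀ {u w : X}, ξ u = u⁻¹ → ξ w = w⁻¹ → u⁻¹ * w ∈ Z → u = w := by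
    intro u w hu hw hm
    have h1 := hξZ _ hm
    rw [map_mul, map_inv, hu, hw, inv_inv] at h1
    refine eq_of_sq_eq_of_odd hodd ?_
    calc u * u = u * (u * w⁻¹) * w := by group
      _ = u * (u⁻¹ * w) * w := by rw [h1]
      _ = w * w := by group
  set h := (q + 1) / 2 with hhdef
  have h2h : h + h = q + 1 := by
    obtain ⟨k, hk⟩ := hq.odd_of_ne_two hq2
    omega
  let op : X → X → X := fun u w => u ^ h * w * u ^ h
  have opinv : ∀ {u w : X}, ξ u = u⁻¹ → ξ w = w⁻¹ → ξ (op u w) = (op u w)⁻¹ := fun {u w} hu hw => by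
    show ξ (u ^ h * w * u ^ h) = (u ^ h * w * u ^ h)⁻¹
    rw [map_mul, map_mul, map_pow, hu, hw, inv_pow, mul_inv_rev, mul_inv_rev, mul_assoc]
  have hsq : ∀ u : X, u ^ h * u ^ h = u := fun u => by
    rw [← pow_add, h2h, pow_succ, hexp, one_mul]
  have opmk : ∀ u w : X, ((op u w : X) : X ⧸ Z) = (u : X ⧸ Z) * w := fun u w => by
    haveI : IsMulCommutative (X ⧸ Z) := Subgroup.Normal.quotient_commutative_iff_commutator_le.mpr le_rfl
    show ((u ^ h * w * u ^ h : X) : X ⧸ Z) = _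
    rw [QuotientGroup.mk_mul, QuotientGroup.mk_mul, mul_assoc, mul_comm' ((w : X) : X ⧸ Z) ((u ^ h : X) : X ⧸ Z),
      ← mul_assoc, ← QuotientGroup.mk_mul, hsq]
  have qeq : ∀ {u w : X}, ξ u = u⁻¹ → ξ w = w⁻¹ → (u : X ⧸ Z) = w → u = w :=
    fun hu hw he => huniq hu hw (QuotientGroup.eq.mp he)
  haveI hqc : IsMulCommutative (X ⧸ Z) := Subgroup.Normal.quotient_commutative_iff_commutator_le.mpr le_rfl
  have opcomm : ∀ {u w : X}, ξ u = u⁻¹ → ξ w = w⁻¹ → op u w = op w u := fun hu hw =>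
    qeq (opinv hu hw) (opinv hw hu) (by rw [opmk, opmk, mul_comm'])
  -- the multiplication rule
  let η : X → X → X := fun u w => ⁅u ^ h, w⁆
  have rule : ∀ u w : X, cs ρ u * cs ρ w =
      ρ (η u w) * cs ρ (op u w) + ρ (η u w)⁻¹ * cs ρ (op u w⁻¹) := by
    have e1 : ∀ u w : X, u * w = η u w * op u w := fun u w => by
      show _ = ⁅u ^ h, w⁆ * (u ^ h * w * u ^ h)
      have hc := (hcc (u ^ h) w (u ^ h)).eq
      calc u * w = u ^ h * (u ^ h * w) := by rw [← mul_assoc, hsq]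
        _ = u ^ h * (⁅u ^ h, w⁆ * (w * u ^ h)) := by rw [commutatorElement_def]; group
        _ = ⁅u ^ h, w⁆ * (u ^ h * w * u ^ h) := by
          rw [← mul_assoc (u ^ h), ← hc]; simp only [mul_assoc]
    intro u w
    refine cs_mul_cs ρ (e1 u w) ?_ ?_ ?_
    · rw [e1 u⁻¹ w⁻¹]
      show ⁅u⁻¹ ^ h, w⁻¹⁆ * (u⁻¹ ^ h * w⁻¹ * u⁻¹ ^ h) = ⁅u ^ h, w⁆ * (u ^ h * w * u ^ h)⁻¹
      rw [inv_pow, brinv, blinv, inv_inv]
      group
    · rw [e1 u w⁻¹]
      show ⁅u ^ h, w⁻¹⁆ * (u ^ h * w⁻¹ * u ^ h) = ⁅u ^ h, w⁆⁻¹ * (u ^ h * w⁻¹ * u ^ h)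
      rw [brinv]
    · rw [e1 u⁻¹ w]
      show ⁅u⁻¹ ^ h, w⁆ * (u⁻¹ ^ h * w * u⁻¹ ^ h) = ⁅u ^ h, w⁆⁻¹ * (u ^ h * w⁻¹ * u ^ h)⁻¹
      rw [inv_pow, blinv]
      group
  have rule' : ∀ {u w : X}, ξ u = u⁻¹ → ξ w = w⁻¹ → cs ρ w * cs ρ u =
      ρ (η u w)⁻¹ * cs ρ (op u w) + ρ (η u w) * cs ρ (op u w⁻¹) := fun {u w} hu hw => by
    have hw' : ξ w⁻¹ = w⁻¹⁻¹ := by rw [map_inv, hw]
    have hu' : ξ u⁻¹ = u⁻¹⁻¹ := by rw [map_inv, hu]
    have hη : η w u = (η u w)⁻¹ := by
      show ⁅w ^ h, u⁆ = ⁅u ^ h, w⁆⁻¹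
      rw [blpow, blpow, ← inv_pow, commutatorElement_inv]
    have ho : op w u⁻¹ = (op u w⁻¹)⁻¹ :=
      qeq (opinv hw hu') (by rw [map_inv, opinv hu hw']) (by
        rw [opmk, QuotientGroup.mk_inv, QuotientGroup.mk_inv, opmk, QuotientGroup.mk_inv, mul_inv_rev, inv_inv])
    rw [rule w u, hη, inv_inv, opcomm hw hu, ho, cs_inv]
  have hηmem : ∀ u w : X, η u w ∈ Z := fun u w => commutator_mem_commutator (mem_top _) (mem_top _)
  have hηne : ∀ {u w : X}, ⁅u, w⁆ ≠ 1 → η u w ≠ 1 := fun {u w} hne h1 => hne (by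
    have h2 : ⁅u, w⁆ = η u w * η u w := by
      show ⁅u, w⁆ = ⁅u ^ h, w⁆ * ⁅u ^ h, w⁆
      rw [← bl, hsq]
    rw [h2, h1, one_mul])
  have hKc : ∀ {u : X}, ξ u = u⁻¹ → Commute P (cs ρ u) := fun hu => F.proj_commute_cs hu
  let K : X → R := fun u => cs ρ u * P
  have hKK : ∀ (u : X) {w : X}, ξ w = w⁻¹ → K u * K w = cs ρ u * cs ρ w * P := fun u {w} hw => by
    show cs ρ u * P * (cs ρ w * P) = _
    rw [mul_assoc, ← mul_assoc P, (hKc hw).eq, mul_assoc _ P P, hPP, mul_assoc]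
  have hηn : ∀ z ∈ Z, ∀ n : ℕ, n.Coprime q → z ≠ 1 → IsUnit (ρ z ^ n - 1) := fun z hz n hn hz1 =>
    isUnit_pow_sub_one (by rw [← map_pow, hexp, map_one]) hn hq.one_lt (hunit z hz hz1)
  -- two inverted elements whose symmetrised images commute
  have split : ∀ {u w : X}, ξ u = u⁻¹ → ξ w = w⁻¹ → ⁅u, w⁆ ≠ 1 → K u * K w = K w * K u →
      K (op u w⁻¹) = K (op u w) ∧ K u * K w = (ρ (η u w) + ρ (η u w)⁻¹) * K (op u w) := by
    intro u w hu hw hne hcom
    have hn := hηne hne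
    set z := η u w with hz
    have hz2 : IsUnit (ρ z - ρ z⁻¹) := by
      have : ρ z - ρ z⁻¹ = ρ z⁻¹ * (ρ z ^ 2 - 1) := by
        rw [mul_sub, mul_one, ← map_pow, ← map_mul, pow_two, inv_mul_cancel_left]
      rw [this]
      exact (show IsUnit (ρ z⁻¹) from (Group.isUnit z⁻¹).map ρ).mul
        (hηn z (hηmem u w) 2 ((Nat.coprime_primes Nat.prime_two hq).mpr (Ne.symm hq2)) hn)
    rw [hKK u hw, hKK w hu, rule u w, rule' hu hw] at hcom
    rw [add_mul, add_mul, mul_assoc, mul_assoc, mul_assoc, mul_assoc] at hcom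
    have h0 : (ρ z - ρ z⁻¹) * (K (op u w) - K (op u w⁻¹)) = 0 := by
      rw [mul_sub, sub_mul, sub_mul]
      have := sub_eq_zero.mpr hcom
      rw [← this]
      abel
    have heq := sub_eq_zero.mp (hz2.mul_right_eq_zero.mp h0)
    refine ⟨heq.symm, ?_⟩
    rw [hKK u hw, rule u w, add_mul, mul_assoc, mul_assoc, ← hz]
    show ρ z * K (op u w) + ρ z⁻¹ * K (op u w⁻¹) = _
    rw [← heq, add_mul]
  have Ksq : ∀ {u : X}, ξ u = u⁻¹ → K u * K u = K (u ^ 2) + (2 : ℕ) * P := fun {u} hu => by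
    rw [hKK u hu]
    show cs ρ u * cs ρ u * P = cs ρ (u ^ 2) * P + (2 : ℕ) * P
    rw [← add_mul]
    congr 1
    simp only [cs, add_mul, mul_add, ← map_mul, mul_inv_cancel, inv_mul_cancel, map_one, pow_two,
      mul_inv_rev, Nat.cast_ofNat]
    rw [← one_add_one_eq_two]
    abel
  -- a noncommutative orbit
  obtain ⟨e0, m, he0, horb, hne⟩ : ∃ (e0 : X) (m : ℕ), ξ e0 = e0⁻¹ ∧ orb σ e0 = ⊤ ∧ ⁅e0, (σ ^ m) e0⁆ ≠ 1 := by
    by_contra hcon
    have hall : ∀ u, ξ u = u⁻¹ → u = 1 := by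
      intro u hu
      have hprop : orb σ u ≠ ⊤ := by
        intro htop
        refine hnab fun d e => ?_
        have hcom : ∀ i j : ℕ, Commute ((σ ^ i) u) ((σ ^ j) u) := by
          have key : ∀ i j : ℕ, i ≤ j → Commute ((σ ^ i) u) ((σ ^ j) u) := fun i j hij => by
            have h1 : ⁅u, (σ ^ (j - i)) u⁆ = 1 := by
              by_contra hne; exact hcon ⟨u, j - i, hu, htop, hne⟩
            rw [show (σ ^ j) u = (σ ^ i) ((σ ^ (j - i)) u) by
              rw [← MulAut.mul_apply, ← pow_add, Nat.add_sub_cancel' hij]]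
            exact (commutatorElement_eq_one_iff_commute.mp h1).map (σ ^ i : MulAut X).toMonoidHom
          intro i j
          rcases le_total i j with h | h
          · exact key i j h
          · exact (key j i h).symm
        have : IsMulCommutative (orb σ u) := Subgroup.isMulCommutative_closure (by
          rintro _ ⟨i, rfl⟩ _ ⟨j, rfl⟩; exact hcom i j)
        exact congrArg Subtype.val (mul_comm' (⟨d, htop ▸ mem_top d⟩ : orb σ u) ⟨e, htop ▸ mem_top e⟩)
      have hiξ : Inv ξ (orb σ u) := inv_closure fun s ⟨i, e⟩ => by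
        rw [← e, F.inv_sigma_pow hu]
        exact inv_mem (mem_orb u i)
      have hfix := F.fixed_of_proper (inv_orb u) hiξ hprop u (self_mem_orb u)
      have hz := fixed_mem_commutator F.aut.pow F.aut.cop F.aut.gen hfix
      exact huniq hu (by rw [map_one, inv_one]) (by rw [mul_one]; exact Z.inv_mem hz)
    refine hΦtop (top_unique fun d _ => ?_)
    obtain ⟨v, hv, hf⟩ := hrep d
    rw [hall v hv, inv_one, one_mul] at hf
    exact hZΦ (fixed_mem_commutator F.aut.pow F.aut.cop F.aut.gen (F.aut.fix _ hf))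
  set b := (σ ^ m) e0 with hb
  have hbi : ξ b = b⁻¹ := F.inv_sigma_pow he0 m
  have hpi : ∀ (u : X) (j : ℕ), ξ u = u⁻¹ → ξ (u ^ j) = (u ^ j)⁻¹ := fun u j hu => by
    rw [map_pow, hu, inv_pow]
  have hKb : ∀ j : ℕ, K (b ^ j) = K (e0 ^ j) := fun j => by
    show cs ρ (((σ ^ m) e0) ^ j) * P = _
    rw [← map_pow, F.cs_sigma_pow (hpi _ _ he0) m]
  have hKb1 : K b = K e0 := by simpa using hKb 1
  have hKbinv : K b⁻¹ = K e0 := by show cs ρ b⁻¹ * P = _; rw [cs_inv]; exact hKb1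
  set C := K e0 with hC
  -- the elements `e0 ^ j · b`
  let W : ℕ → X := fun j => op (e0 ^ j) b
  have hWi : ∀ j, ξ (W j) = (W j)⁻¹ := fun j => opinv (hpi _ _ he0) hbi
  have hW0 : W 0 = b := by show (e0 ^ 0) ^ h * b * (e0 ^ 0) ^ h = b; simp
  have hWq : W q = b := by show (e0 ^ q) ^ h * b * (e0 ^ q) ^ h = b; simp [hexp]
  have hcW : ∀ j, ⁅e0, W j⁆ = ⁅e0, b⁆ := fun j => by
    show ⁅e0, (e0 ^ j) ^ h * b * (e0 ^ j) ^ h⁆ = _
    rw [br, br, ← pow_mul, brpow, commutatorElement_self, one_pow, one_mul, mul_one]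
  have hnW : ∀ j, ⁅e0, W j⁆ ≠ 1 := fun j => by rw [hcW]; exact hne
  have hstep : ∀ j, op e0 (W j) = W (j + 1) := fun j => qeq (opinv he0 (hWi j)) (hWi _) (by
    show ((op e0 (op (e0 ^ j) b) : X) : X ⧸ Z) = ((op (e0 ^ (j + 1)) b : X) : X ⧸ Z)
    rw [opmk, opmk, opmk, ← mul_assoc, ← QuotientGroup.mk_mul, ← pow_succ'])
  have hback : ∀ j, op e0 (W (j + 1))⁻¹ = (W j)⁻¹ := fun j =>
    qeq (opinv he0 (by rw [map_inv, hWi])) (by rw [map_inv, hWi]) (by
      show ((op e0 (op (e0 ^ (j + 1)) b)⁻¹ : X) : X ⧸ Z) = (((op (e0 ^ j) b)⁻¹ : X) : X ⧸ Z)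
      rw [opmk, QuotientGroup.mk_inv, QuotientGroup.mk_inv, opmk, opmk, pow_succ', QuotientGroup.mk_mul, mul_assoc,
        mul_inv_rev, mul_comm' _ ((e0 : X) : X ⧸ Z)⁻¹, mul_inv_cancel_left])
  set z1 := η e0 b with hz1
  set s1 : R := ρ z1 + ρ z1⁻¹ with hs1
  have hs1c : ∀ u, Commute s1 (cs ρ u) := fun u =>
    ((commute_cs ρ (hρZ z1 (hηmem _ _))).add_left (commute_cs ρ (hρZ z1⁻¹ (Z.inv_mem (hηmem _ _)))))
  have hzne : z1 ≠ 1 := hηne hne
  have h4 : (4 : ℕ).Coprime q := by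
    rw [show (4 : ℕ) = 2 ^ 2 by norm_num]
    exact Nat.Coprime.pow_left 2 ((Nat.coprime_primes Nat.prime_two hq).mpr (Ne.symm hq2))
  have hs1u : ∀ z ∈ Z, z ≠ 1 → IsUnit (ρ z + ρ z⁻¹) := fun z hz hz1 => by
    have h1 := hηn z hz 4 h4 hz1
    rw [show ρ z ^ 4 - 1 = (ρ z ^ 2 - 1) * (ρ z ^ 2 + 1) by noncomm_ring] at h1
    have hc : Commute (ρ z ^ 2 - 1) (ρ z ^ 2 + 1) :=
      ((Commute.refl _).add_right (Commute.one_right _)).sub_left (Commute.one_left _)
    have : ρ z + ρ z⁻¹ = ρ z⁻¹ * (ρ z ^ 2 + 1) := by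
      rw [mul_add, mul_one, ← map_pow, ← map_mul, pow_two, inv_mul_cancel_left]
    rw [this]
    exact (show IsUnit (ρ z⁻¹) from (Group.isUnit z⁻¹).map ρ).mul (hc.isUnit_mul_iff.mp h1).2
  set D := K (op e0 b) with hD
  have hC_D : C * C = s1 * D := by
    have := (split he0 hbi hne (by rw [hKb1])).2
    rwa [hKb1] at this
  have hW1 : K (W 1) = D := by show K (op (e0 ^ 1) b) = _; rw [pow_one]
  have hDcomm : C * D = D * C := by
    obtain ⟨U, hU⟩ := hs1u z1 (hηmem _ _) hzne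
    have hD' : D = (↑U⁻¹ : R) * (C * C) := by rw [hC_D, hs1, ← hU, Units.inv_mul_cancel_left]
    have hc : Commute (↑U⁻¹ : R) C := Commute.units_inv_left (by
      rw [hU]
      exact (hs1c e0).mul_right ((hρZP z1 (hηmem _ _)).add_left (hρZP z1⁻¹ (Z.inv_mem (hηmem _ _)))))
    rw [hD']
    calc C * (↑U⁻¹ * (C * C)) = (C * ↑U⁻¹) * (C * C) := (mul_assoc _ _ _).symm
      _ = (↑U⁻¹ * C) * (C * C) := by rw [hc.eq]
      _ = ↑U⁻¹ * (C * C) * C := by generalize (↑U⁻¹ : R) = w; generalize C = c; noncomm_ring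
  have hper : ∀ j, (K (W (2 * j)) = C ∧ K (W (2 * j + 1)) = D) := by
    intro j
    induction j with
    | zero => exact ⟨by rw [Nat.mul_zero, hW0, hKb1], hW1⟩
    | succ j ih =>
      have step : ∀ i, C * K (W (i + 1)) = K (W (i + 1)) * C → K (W (i + 1 + 1)) = K (W i) := fun i hc => by
        have h1 := (split he0 (hWi _) (hnW _) hc).1
        rw [hstep, hback] at h1
        rw [← h1]
        show cs ρ (W i)⁻¹ * P = cs ρ (W i) * P
        rw [cs_inv]
      have e1 := step (2 * j) (by rw [ih.2]; exact hDcomm)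
      rw [ih.1] at e1
      refine ⟨by rw [show 2 * (j + 1) = 2 * j + 1 + 1 by ring]; exact e1, ?_⟩
      have e2 := step (2 * j + 1) (by rw [e1])
      rw [show 2 * (j + 1) + 1 = 2 * j + 1 + 1 + 1 by ring]
      exact e2.trans ih.2
  obtain ⟨k0, hk0⟩ := hq.odd_of_ne_two hq2
  have hCD : D = C := by
    have := (hper k0).2
    rwa [← hk0, hWq, hKb1, eq_comm] at this
  have hWC : ∀ j, K (W j) = C := fun j => by
    rcases Nat.even_or_odd j with ⟨i, hi⟩ | ⟨i, hi⟩
    · rw [hi, ← two_mul]; exact (hper i).1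
    · rw [hi, ← hCD]; exact (hper i).2
  rw [hCD] at hC_D
  -- doubling
  set C2 := K (e0 ^ 2) with hC2
  have hCC : C * C = C2 + (2 : ℕ) * P := Ksq he0
  have hz2ne : ⁅e0, b ^ 2⁆ ≠ 1 := fun h0 => by
    rw [brpow] at h0
    have h3 : ⁅e0, b⁆ = (⁅e0, b⁆ ^ 2) ^ h := by
      rw [← pow_mul, show 2 * h = q + 1 by omega, pow_succ, hzq, one_mul]
    exact hne (by rw [h3, h0, one_pow])
  have hWh : W h ^ 2 = op e0 (b ^ 2) := qeq (hpi _ _ (hWi h)) (opinv he0 (hpi _ _ hbi)) (by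
    show ((op (e0 ^ h) b ^ 2 : X) : X ⧸ Z) = ((op e0 (b ^ 2) : X) : X ⧸ Z)
    rw [opmk, QuotientGroup.mk_pow, opmk, pow_two, pow_two, QuotientGroup.mk_mul, mul_mul_mul_comm,
      ← QuotientGroup.mk_mul, hsq])
  have hKab2 : K (op e0 (b ^ 2)) = C2 := by
    have h1 := Ksq (hWi h)
    rw [hWh, hWC, hCC] at h1
    exact (add_right_cancel h1).symm
  have hC2eq : C2 = C := by
    have hb2 : K (b ^ 2) = C2 := hKb 2
    have hcomC : C * C2 = C2 * C := by
      have hC2' : C2 = C * C - (2 : ℕ) * P := by rw [hCC, add_sub_cancel_right]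
      have hPC : Commute C P := ((hKc he0).symm).mul_left (Commute.refl P)
      rw [hC2']
      exact (((Commute.refl C).mul_right (Commute.refl C)).sub_right ((Nat.commute_cast C 2).mul_right hPC)).eq
    have l1 := (split he0 (hpi _ _ hbi) hz2ne (by rw [hb2]; exact hcomC)).2
    rw [hb2, hKab2] at l1
    have hne2 : ⁅e0 ^ 2, b⁆ ≠ 1 := by rw [blpow, ← brpow]; exact hz2ne
    have l2 := (split (hpi _ _ he0) hbi hne2 (by rw [hKb1]; exact hcomC.symm)).2
    rw [hKb1, show op (e0 ^ 2) b = W 2 from rfl, hWC] at l2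
    have hη2 : η (e0 ^ 2) b = η e0 (b ^ 2) := by
      show ⁅(e0 ^ 2) ^ h, b⁆ = ⁅e0 ^ h, b ^ 2⁆
      rw [brpow, ← pow_mul, mul_comm, pow_mul, blpow (e0 ^ h)]
    rw [hη2, ← hcomC, l1] at l2
    exact (hs1u _ (hηmem _ _) (hηne hz2ne)).mul_right_injective.eq_iff.mp l2
  rw [hC2eq] at hCC
  have hs2 : (ρ (η e0 (b ^ 2)) + ρ (η e0 (b ^ 2))⁻¹) * C = C * C := by
    have l1 := (split he0 (hpi _ _ hbi) hz2ne (by rw [hKb 2, ← hC2, hC2eq])).2
    rw [hKb 2, ← hC2, hC2eq, hKab2, hC2eq] at l1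
    exact l1.symm
  have hz2 : η e0 (b ^ 2) = z1 * z1 := by
    show ⁅e0 ^ h, b ^ 2⁆ = ⁅e0 ^ h, b⁆ * ⁅e0 ^ h, b⁆
    rw [brpow, pow_two]
  rw [hz2] at hs2
  have hCP : C * P = C := by show cs ρ e0 * P * P = cs ρ e0 * P; rw [mul_assoc, hPP]
  have hkill : ∀ r : R, r * C = 0 → r * P = 0 := fun r hr => by
    have h1 : r * (C * C) = 0 := by rw [← mul_assoc, hr, zero_mul]
    rw [hCC, mul_add, hr, zero_add, ← mul_assoc, ← (Nat.cast_commute 2 r).eq, mul_assoc] at h1
    exact F.lin.two.mul_right_eq_zero.mp h1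
  have hmain : (ρ (z1 * z1) + ρ (z1 * z1)⁻¹ - s1) * P = 0 := hkill _ (by rw [sub_mul, hs2, hC_D, sub_self])
  by_cases hq3 : q ≠ 3
  · have hfac : ρ (z1 * z1) + ρ (z1 * z1)⁻¹ - s1 = ρ (z1 * z1)⁻¹ * ((ρ z1 ^ 3 - 1) * (ρ z1 - 1)) := by
      rw [hs1, sub_mul, mul_sub, mul_sub, mul_sub, one_mul, mul_one]
      simp only [pow_succ, pow_zero, one_mul, ← map_mul]
      have e1 : (z1 * z1)⁻¹ * (z1 * z1 * z1 * z1) = z1 * z1 := by simp only [mul_assoc, inv_mul_cancel_left, mul_inv_rev]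
      have e2 : (z1 * z1)⁻¹ * (z1 * z1 * z1) = z1 := by group
      have e3 : (z1 * z1)⁻¹ * z1 = z1⁻¹ := by group
      simp only [mul_sub, ← map_mul, mul_one, e1, e2, e3]
      abel
    have h3 : (3 : ℕ).Coprime q := (Nat.coprime_primes Nat.prime_three hq).mpr (Ne.symm hq3)
    have hu : IsUnit (ρ (z1 * z1) + ρ (z1 * z1)⁻¹ - s1) := by
      rw [hfac]
      exact (show IsUnit (ρ (z1 * z1)⁻¹) from (Group.isUnit _).map ρ).mul
        ((hηn z1 (hηmem _ _) 3 h3 hzne).mul (hunit z1 (hηmem _ _) hzne))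
    exact hP0 (hu.mul_right_eq_zero.mp hmain)
  push Not at hq3
  subst hq3
  -- exponent three
  have hs : ∀ z ∈ Z, z ≠ 1 → ρ z + ρ z⁻¹ = -1 := fun z hz hz1 => by
    have h1 := hsum z hz hz1
    rw [Finset.sum_range_succ, Finset.sum_range_succ, Finset.sum_range_one, pow_zero, pow_one] at h1
    have h2 : ρ z ^ 2 = ρ z⁻¹ := by
      rw [← map_pow]; congr 1
      exact eq_inv_of_mul_eq_one_left (by rw [← pow_succ]; exact hexp z)
    rw [h2, add_assoc] at h1
    exact eq_neg_of_add_eq_zero_right h1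
  have hsC : s1 * C = -C := by rw [hs1, hs z1 (hηmem _ _) hzne, neg_one_mul]
  have hC1 : C = -P := by
    have h1 : -C = C + (2 : ℕ) * P := by rw [← hsC, ← hC_D, hCC]
    have h2 : ((2 : ℕ) : R) * (C + P) = 0 := by
      calc ((2 : ℕ) : R) * (C + P) = (C + (2 : ℕ) * P) + C := by push_cast; noncomm_ring
        _ = 0 := by rw [← h1, neg_add_cancel]
    exact eq_neg_of_add_eq_zero_left (F.lin.two.mul_right_eq_zero.mp h2)
  let E : X → Prop := fun u => ξ u = u⁻¹ ∧ K u = -P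
  have hE : ∀ {u w : X}, E u → E w → ⁅u, w⁆ ≠ 1 → E (op u w) ∧ E (op u w⁻¹) := by
    rintro u w ⟨hu, hu'⟩ ⟨hw, hw'⟩ hne
    obtain ⟨h1, h2⟩ := split hu hw hne (by rw [hu', hw'])
    rw [hu', hw', neg_mul_neg, hPP, hs _ (hηmem _ _) (hηne hne), neg_one_mul] at h2
    have h3 : K (op u w) = -P := neg_eq_iff_eq_neg.mp h2.symm
    exact ⟨⟨opinv hu hw, h3⟩, ⟨opinv hu (by rw [map_inv, hw]), h1.trans h3⟩⟩
  have hEinv : ∀ {u : X}, E u → E u⁻¹ := fun {u} hu => ⟨by rw [map_inv, hu.1], by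
    show cs ρ u⁻¹ * P = -P; rw [cs_inv]; exact hu.2⟩
  have hEorb : ∀ i, E ((σ ^ i) e0) := fun i => ⟨F.inv_sigma_pow he0 i, by
    show cs ρ ((σ ^ i) e0) * P = -P
    rw [F.cs_sigma_pow he0 i]; exact hC1⟩
  have hzcyc : ∀ z ∈ Z, ∀ w ∈ Z, z ≠ 1 → w ≠ 1 → w = z ∨ w = z⁻¹ := fun z hz w hw hz1 hw1 => by
    by_contra hno
    push Not at hno
    obtain ⟨hn1, hn2⟩ := hno
    have key : ∀ y ∈ Z, y ≠ 1 → 1 + ρ y + ρ y * ρ y = 0 := fun y hy hy1 => by
      have := hsum y hy hy1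
      rwa [Finset.sum_range_succ, Finset.sum_range_succ, Finset.sum_range_one, pow_zero, pow_one, pow_two] at this
    have hzw : z * w ≠ 1 := fun h0 => hn2 (eq_inv_of_mul_eq_one_right h0)
    have hzww : z * (w * w) ≠ 1 := fun h0 => hn1 (by
      have h3 : w * w * w = 1 := by rw [← pow_two, ← pow_succ]; exact hexp w
      calc w = z * (w * w) * w := by rw [h0, one_mul]
        _ = z * (w * w * w) := by group
        _ = z := by rw [h3, mul_one])
    have h30 : (3 : R) = 0 := three_eq_zero (hρZ z hz w) (key z hz hz1) (key w hw hw1)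
      (by rw [← map_mul]; exact key _ (Z.mul_mem hz hw) hzw)
      (by rw [← map_mul ρ w w, ← map_mul]; exact key _ (Z.mul_mem hz (Z.mul_mem hw hw)) hzww)
      (by rw [← map_mul, ← map_mul, ← pow_two, ← pow_succ, hexp, map_one])
    have h3u : IsUnit (3 : R) := by simpa using F.lin.qunit
    rw [h30, isUnit_zero_iff] at h3u
    exact hP0 (by rw [← one_mul P, ← h3u, zero_mul])
  -- orbit steps noncommuting
  set τ := σ ^ m with hτ
  have hstepne : ∀ k : ℕ, ⁅(τ ^ k) e0, (τ ^ (k + 1)) e0⁆ ≠ 1 := fun k hk => hne (by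
    rw [pow_succ, MulAut.mul_apply, ← map_commutatorElement, map_eq_one_iff _ (τ ^ k : MulAut X).injective] at hk
    exact hk)
  have hτorb : ∀ i : ℕ, ∃ k : ℕ, (σ ^ i) e0 = (τ ^ k) e0 := by
    intro i
    have hp : p.Prime := Fact.out
    have hmp : ¬ p ∣ m := fun ⟨c, hc⟩ => hne (by
      rw [show b = e0 by rw [hb, hτ, hc, pow_mul, F.aut.pow, one_pow]; rfl, commutatorElement_self])
    obtain ⟨j, -, hj⟩ := Nat.exists_mul_mod_eq_one_of_coprime ((hp.coprime_iff_not_dvd.mpr hmp).symm) hp.one_lt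
    refine ⟨j * i, ?_⟩
    have hσ : σ ^ (m * j) = σ := by
      rw [← Nat.mod_add_div (m * j) p, hj, pow_add, pow_mul, F.aut.pow, one_pow, mul_one, pow_one]
    rw [hτ, ← pow_mul, ← mul_assoc, pow_mul, hσ]
  -- the subgroup of two generators modulo the derived group
  let f : X →* X ⧸ Z := QuotientGroup.mk' Z
  set L : Subgroup X := (closure ({f e0, f b} : Set (X ⧸ Z))).comap f with hL
  have hgL : ∃ k, (τ ^ k) e0 ∉ L := by
    by_contra hall
    push Not at hall
    have hLtop : L = ⊤ := top_unique (horb ▸ (closure_le _).mpr (by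
      rintro _ ⟨i, rfl⟩
      obtain ⟨k, hk⟩ := hτorb i
      show (σ ^ i) e0 ∈ L
      rw [hk]; exact hall k))
    let g : Fin 3 × Fin 3 → X ⧸ Z := fun ij => f e0 ^ (ij.1 : ℕ) * f b ^ (ij.2 : ℕ)
    have h3 : ∀ y : X ⧸ Z, y ^ 3 = 1 := fun y => by
      induction y using QuotientGroup.induction_on with
      | _ d => rw [← QuotientGroup.mk_pow, hexp]; rfl
    have hred : ∀ (y : X ⧸ Z) (n : ℕ), y ^ (n % 3) = y ^ n := fun y n => by
      conv_rhs => rw [← Nat.mod_add_div n 3, pow_add, pow_mul, h3, one_pow, mul_one]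
    have hsurj : Function.Surjective g := fun y => by
      obtain ⟨d, rfl⟩ := QuotientGroup.mk'_surjective Z y
      have hd : f d ∈ closure ({f e0, f b} : Set (X ⧸ Z)) := by
        have : d ∈ L := hLtop ▸ mem_top d
        exact this
      show ∃ ij, g ij = f d
      generalize f d = y at hd ⊢
      induction hd using closure_induction with
      | mem y hy =>
        rcases hy with rfl | rfl
        · exact ⟨(⟨1, by omega⟩, ⟨0, by omega⟩), by simp [g]⟩
        · exact ⟨(⟨0, by omega⟩, ⟨1, by omega⟩), by simp [g]⟩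
      | one => exact ⟨(⟨0, by omega⟩, ⟨0, by omega⟩), by simp [g]⟩
      | mul y y' _ _ hy hy' =>
        obtain ⟨⟨i, j⟩, rfl⟩ := hy
        obtain ⟨⟨i', j'⟩, rfl⟩ := hy'
        refine ⟨(⟨((i : ℕ) + i') % 3, by omega⟩, ⟨((j : ℕ) + j') % 3, by omega⟩), ?_⟩
        show f e0 ^ (((i : ℕ) + i') % 3) * f b ^ (((j : ℕ) + j') % 3) = _
        rw [hred, hred, pow_add, pow_add]
        exact mul_mul_mul_comm _ _ _ _
      | inv y _ hy =>
        obtain ⟨⟨i, j⟩, rfl⟩ := hy
        refine ⟨(⟨(2 * (i : ℕ)) % 3, by omega⟩, ⟨(2 * (j : ℕ)) % 3, by omega⟩), ?_⟩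
        show f e0 ^ ((2 * (i : ℕ)) % 3) * f b ^ ((2 * (j : ℕ)) % 3) = (f e0 ^ (i : ℕ) * f b ^ (j : ℕ))⁻¹
        rw [hred, hred, mul_inv_rev, mul_comm' (f b ^ (j : ℕ))⁻¹]
        congr 1
        · exact eq_inv_of_mul_eq_one_left (by rw [← pow_add, show 2 * (i : ℕ) + i = 3 * i by ring, pow_mul, h3, one_pow])
        · exact eq_inv_of_mul_eq_one_left (by rw [← pow_add, show 2 * (j : ℕ) + j = 3 * j by ring, pow_mul, h3, one_pow])
    have hcard : Nat.card (X ⧸ Z) ≤ 9 := by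
      simpa using Nat.card_le_card_of_surjective g hsurj
    let y : MulAut (X ⧸ Z) := QuotientGroup.congr Z Z σ
      (Inv.map_eq (fun d hd => map_commutator_le σ hd : Inv σ Z))
    have hey : ∀ d : X, y (d : X ⧸ Z) = ((σ d : X) : X ⧸ Z) := fun _ => rfl
    haveI : Fintype (X ⧸ Z) := Fintype.ofFinite _
    let π : Equiv.Perm (X ⧸ Z) := y.toEquiv
    have hπi : ∀ (i : ℕ) (d : X), (π ^ i) (d : X ⧸ Z) = (((σ ^ i) d : X) : X ⧸ Z) := fun i => by
      induction i with
      | zero => intro d; rfl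
      | succ i ih =>
        intro d
        rw [pow_succ', Equiv.Perm.mul_apply, ih, ← pow_apply_comm]
        exact hey _
    have hπ : π ^ p ^ 1 = 1 := by
      rw [pow_one]
      ext d
      induction d using QuotientGroup.induction_on with
      | _ d => rw [hπi, F.aut.pow]; rfl
    have hone : ∀ c : X ⧸ Z, π c = c → c = 1 := by
      intro c
      induction c using QuotientGroup.induction_on with
      | _ d =>
        intro hd
        have hd' : d⁻¹ * σ d ∈ Z := QuotientGroup.eq.mp (hd.symm.trans (hey d))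
        obtain ⟨n, hn, hf⟩ := exists_fixed_coset F.aut.pow F.aut.cop (fun g hg => map_commutator_le σ hg) hd'
        have := fixed_mem_commutator F.aut.pow F.aut.cop F.aut.gen (mem_fx.mp hf)
        exact (QuotientGroup.eq_one_iff d).mpr ((Z.mul_mem_cancel_right hn).mp this)
    have h1 : Fintype.card (X ⧸ Z) ≡ 1 [MOD p] := by
      have h2 : (Finset.univ.filter fun c : X ⧸ Z => π c ≠ c) = π.support := by
        ext c; simp
      have h3' : π.support = Finset.univ.erase 1 := by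
        ext c
        simp only [Equiv.Perm.mem_support, Finset.mem_erase, Finset.mem_univ, and_true]
        exact ⟨fun hc e => hc (by rw [e]; exact map_one y), fun hc e => hc (hone c e)⟩
      have hdvd : p ∣ π.support.card := by
        have := Equiv.Perm.card_compl_support_modEq (σ := π) (n := 1) hπ
        rw [Finset.card_compl] at this
        have hle := Finset.card_le_univ π.support
        have h5 := (Nat.modEq_iff_dvd' (Nat.sub_le _ _)).mp this
        rwa [Nat.sub_sub_self hle] at h5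
      rw [h3', Finset.card_erase_of_mem (Finset.mem_univ _), Finset.card_univ] at hdvd
      exact ((Nat.modEq_iff_dvd' Fintype.card_pos).mpr hdvd).symm
    rw [← Nat.card_eq_fintype_card] at h1
    obtain ⟨n, hn⟩ := IsPGroup.iff_card.mp (F.aut.pgroup.to_quotient Z)
    have hn0 : n ≠ 0 := fun e => by
      rw [e, pow_zero] at hn
      have hbot : ∀ c : X ⧸ Z, c = 1 := fun c => by
        haveI := (Nat.card_eq_one_iff_unique.mp hn).1
        exact Subsingleton.elim _ _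
      exact hΦtop (top_unique fun d _ => hZΦ ((QuotientGroup.eq_one_iff d).mp (hbot d)))
    have hn2 : n ≤ 2 := by
      by_contra hc
      have : 3 ^ 3 ≤ 3 ^ n := Nat.pow_le_pow_right (by norm_num) (by omega)
      omega
    have hpp : p.Prime := Fact.out
    have hd8 : p ∣ 3 ^ n - 1 := (Nat.modEq_iff_dvd' (Nat.one_le_pow _ _ (by norm_num))).mp (hn ▸ h1).symm
    have h8 : p ∣ 2 ^ 3 := hd8.trans (by
      rcases n with _ | _ | _ | n
      · exact absurd rfl hn0
      · norm_num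
      · norm_num
      · omega)
    exact hp2 ((Nat.prime_dvd_prime_iff_eq hpp Nat.prime_two).mp (hpp.dvd_of_dvd_pow h8))
  classical
  set k := Nat.find hgL with hk
  have hkL : (τ ^ k) e0 ∉ L := Nat.find_spec hgL
  have he0L : e0 ∈ L := subset_closure (Or.inl rfl)
  have hbL : b ∈ L := subset_closure (Or.inr rfl)
  obtain ⟨k', hk'⟩ : ∃ k', k = k' + 1 := Nat.exists_eq_succ_of_ne_zero (fun e => hkL (by rw [e]; simpa using he0L))
  have hk'L : (τ ^ k') e0 ∈ L := not_not.mp (Nat.find_min hgL (by rw [← hk, hk']; omega))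
  set g := (τ ^ k) e0 with hg
  have hgE : E g := by rw [hg, hτ, ← pow_mul]; exact hEorb _
  have hgne : ⁅g, e0⁆ ≠ 1 ∨ ⁅g, b⁆ ≠ 1 := by
    by_contra hno
    push Not at hno
    have hLc : ∀ d ∈ L, ⁅g, d⁆ = 1 := by
      intro d hd
      have hd' : f d ∈ closure ({f e0, f b} : Set (X ⧸ Z)) := hd
      have hker : ∀ d e : X, f d = f e → ⁅g, d⁆ = ⁅g, e⁆ := fun d e hde => by
        have h1 : d⁻¹ * e ∈ Z := QuotientGroup.eq.mp hde
        have h2 := br d (d⁻¹ * e) g
        rw [mul_inv_cancel_left, commutatorElement_eq_one_iff_commute.mpr (hZc _ h1 g).symm, mul_one] at h2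
        exact h2.symm
      obtain ⟨y, hy, hey⟩ : ∃ y ∈ closure ({e0, b} : Set X), f y = f d := by
        have himg : closure ({f e0, f b} : Set (X ⧸ Z)) = (closure ({e0, b} : Set X)).map f := by
          rw [MonoidHom.map_closure, Set.image_pair]
        rw [himg] at hd'
        exact hd'
      rw [hker d y hey.symm]
      clear hey
      induction hy using closure_induction with
      | mem y hy => rcases hy with rfl | rfl; exacts [hno.1, hno.2]
      | one => exact commutatorElement_one_right g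
      | mul y y' _ _ h1 h2 => rw [br, h1, h2, one_mul]
      | inv y _ h1 => rw [brinv, h1, inv_one]
    refine hstepne k' ?_
    rw [← hk', ← hg, ← commutatorElement_inv, hLc _ hk'L, inv_one]
  -- `e` in `L` commuting with `g`, `pp` with neither
  obtain ⟨pp, r, hpE, hrE, hgp, hrp, hpL, hrL⟩ : ∃ pp r, E pp ∧ E r ∧ ⁅g, pp⁆ ≠ 1 ∧ ⁅r, pp⁆ ≠ 1 ∧ pp ∈ L ∧ r ∈ L := by
    have hEe : E e0 := ⟨he0, hC1⟩
    have hEb : E b := hEorb m
    rcases hgne with h1 | h1
    · exact ⟨e0, b, hEe, hEb, h1, fun h0 => hne (by rw [← commutatorElement_inv, h0, inv_one]), he0L, hbL⟩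
    · exact ⟨b, e0, hEb, hEe, h1, hne, hbL, he0L⟩
  have hopL : ∀ {u w : X}, u ∈ L → w ∈ L → op u w ∈ L := fun hu hw =>
    L.mul_mem (L.mul_mem (L.pow_mem hu h) hw) (L.pow_mem hu h)
  have cop : ∀ u w v : X, ⁅v, op u w⁆ = ⁅v, u⁆ * ⁅v, w⁆ := fun u w v => by
    show ⁅v, u ^ h * w * u ^ h⁆ = _
    rw [br, br, mul_assoc, ← (hcc v (u ^ h) _).eq, ← mul_assoc, ← br, hsq]
  have copl : ∀ u w v : X, ⁅op u w, v⁆ = ⁅u, v⁆ * ⁅w, v⁆ := fun u w v => by
    rw [← commutatorElement_inv, cop, mul_inv_rev, commutatorElement_inv, commutatorElement_inv]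
    exact (hcc w v _).eq
  obtain ⟨e, heE, hge, hep, heL⟩ : ∃ e, E e ∧ ⁅g, e⁆ = 1 ∧ ⁅e, pp⁆ ≠ 1 ∧ e ∈ L := by
    by_cases hgr : ⁅g, r⁆ = 1
    · exact ⟨r, hrE, hgr, hrp, hrL⟩
    rcases hzcyc ⁅g, pp⁆ (commutator_mem_commutator (mem_top _) (mem_top _)) ⁅g, r⁆
      (commutator_mem_commutator (mem_top _) (mem_top _)) hgp hgr with hv | hv
    · refine ⟨op r pp⁻¹, (hE hrE hpE hrp).2, ?_, ?_, hopL hrL (L.inv_mem hpL)⟩
      · rw [cop, brinv, hv, mul_inv_cancel]
      · rw [copl, blinv, commutatorElement_self, inv_one, mul_one]; exact hrp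
    · refine ⟨op r pp, (hE hrE hpE hrp).1, ?_, ?_, hopL hrL hpL⟩
      · rw [cop, hv, inv_mul_cancel]
      · rw [copl, commutatorElement_self, mul_one]; exact hrp
  -- the two products `e ∘ g^±1`
  have heg : ⁅e, g⁆ = 1 := by rw [← commutatorElement_inv, hge, inv_one]
  have hegη : η e g = 1 := by show ⁅e ^ h, g⁆ = 1; rw [blpow, heg, one_pow]
  have hsum2 : K (op e g) + K (op e g⁻¹) = P := by
    have h1 := hKK e (w := g) hgE.1
    rw [heE.2, hgE.2, neg_mul_neg, hPP, rule e g, hegη, inv_one, map_one, one_mul, one_mul, add_mul] at h1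
    exact h1.symm
  have hdec : ∀ {w : X}, E w → ⁅e, w⁆ = 1 → ⁅w, pp⁆ ≠ 1 → ⁅e, pp⁆ * ⁅w, pp⁆ ≠ 1 →
      ⁅op e w⁻¹, pp⁆ = 1 ∨ True → E (op e w) := by
    intro w hwE hew hwp hnz _
    -- `op e w = op (op e pp) (op w pp⁻¹)`
    have e1 := (hE heE hpE hep).1
    have e2 := (hE hwE hpE hwp).2
    have hne' : ⁅op e pp, op w pp⁻¹⁆ ≠ 1 := by
      rw [copl, cop, cop, hew, one_mul, brinv, brinv, commutatorElement_self, inv_one, mul_one,
        ← commutatorElement_inv w pp]
      intro h0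
      apply hnz
      have h1 := congrArg Inv.inv h0
      rw [mul_inv_rev, inv_inv, inv_inv, inv_one] at h1
      rw [(hcc e pp _).eq]; exact h1
    have h1 := (hE e1 e2 hne').1
    have hop : op (op e pp) (op w pp⁻¹) = op e w :=
      qeq (opinv e1.1 e2.1) (opinv heE.1 hwE.1) (by
        rw [opmk, opmk, opmk, opmk, QuotientGroup.mk_inv, mul_comm' ((w : X) : X ⧸ Z) _, mul_assoc,
          mul_inv_cancel_left])
    rwa [hop] at h1
  obtain ⟨d, hdi, hKd, hdg, hdpp⟩ : ∃ d, ξ d = d⁻¹ ∧ K d = (2 : ℕ) * P ∧ (d = op e g ∨ d = op e g⁻¹) ∧ ⁅d, pp⁆ = 1 := by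
    have h2P : ∀ A : R, A + -P = P → A = (2 : ℕ) * P := fun A hA => by
      rw [← sub_eq_add_neg, sub_eq_iff_eq_add] at hA
      rw [hA, Nat.cast_ofNat, two_mul]
    have hgp' : ⁅g⁻¹, pp⁆ ≠ 1 := by rw [blinv]; exact fun h0 => hgp (inv_eq_one.mp h0)
    have heg' : ⁅e, g⁻¹⁆ = 1 := by rw [brinv, heg, inv_one]
    rcases hzcyc ⁅g, pp⁆ (commutator_mem_commutator (mem_top _) (mem_top _)) ⁅e, pp⁆
      (commutator_mem_commutator (mem_top _) (mem_top _)) hgp hep with hv | hv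
    · have hnz : ⁅e, pp⁆ * ⁅g, pp⁆ ≠ 1 := fun h0 => hgp (by
        have h3 : ⁅g, pp⁆ ^ 3 = 1 := hzq g pp
        rw [hv] at h0
        rw [pow_succ, pow_two, h0, one_mul] at h3
        exact h3)
      have h1 := hdec hgE heg hgp hnz (Or.inr trivial)
      refine ⟨op e g⁻¹, opinv heE.1 (hEinv hgE).1, h2P _ ?_, Or.inr rfl, by rw [copl, blinv, hv, mul_inv_cancel]⟩
      rw [← h1.2, add_comm]; exact hsum2
    · have hnz : ⁅e, pp⁆ * ⁅g⁻¹, pp⁆ ≠ 1 := fun h0 => hgp' (by
        have h3 : ⁅g⁻¹, pp⁆ ^ 3 = 1 := hzq g⁻¹ pp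
        rw [hv, ← blinv] at h0
        rw [pow_succ, pow_two, h0, one_mul] at h3
        exact h3)
      have h1 := hdec (hEinv hgE) heg' hgp' hnz (Or.inr trivial)
      refine ⟨op e g, opinv heE.1 hgE.1, h2P _ ?_, Or.inl rfl, by rw [copl, hv, inv_mul_cancel]⟩
      rw [← h1.2]; exact hsum2
  have hdL : d ≠ 1 := fun hd1 => hkL (by
    have key : ∀ {w : X}, op e w = 1 → w ∈ L := fun {w} hw => by
      have h1 : w = (e ^ h)⁻¹ * op e w * (e ^ h)⁻¹ := by show _ = _ * (e ^ h * w * e ^ h) * _; group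
      rw [h1, hw, mul_one]
      exact L.mul_mem (L.inv_mem (L.pow_mem heL h)) (L.inv_mem (L.pow_mem heL h))
    rcases hdg with hd | hd
    · exact key (hd ▸ hd1)
    · exact inv_inv g ▸ L.inv_mem (key (hd ▸ hd1)))
  obtain ⟨i, hdt⟩ : ∃ i : ℕ, ⁅d, (σ ^ i) e0⁆ ≠ 1 := by
    by_contra hall
    push Not at hall
    have hdc : ∀ y, Commute d y := fun y => by
      have hy : y ∈ orb σ e0 := horb ▸ mem_top y
      induction hy using closure_induction with
      | mem y hy => obtain ⟨i, rfl⟩ := hy; exact commutatorElement_eq_one_iff_commute.mp (hall i)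
      | one => exact Commute.one_right d
      | mul _ _ _ _ h1 h2 => exact h1.mul_right h2
      | inv _ _ h1 => exact h1.inv_right
    have hctop : Subgroup.center X ≠ ⊤ := fun e' =>
      hnab fun u w => (Subgroup.mem_center_iff.mp (e' ▸ mem_top w : w ∈ Subgroup.center X) u)
    have hfix := F.fixed_of_proper Inv.center Inv.center hctop d
      (Subgroup.mem_center_iff.mpr fun y => (hdc y).eq.symm)
    exact hdL (huniq hdi (by rw [map_one, inv_one])
      (by rw [mul_one]; exact Z.inv_mem (fixed_mem_commutator F.aut.pow F.aut.cop F.aut.gen hfix)))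
  set t := (σ ^ i) e0 with ht
  have htE : E t := hEorb i
  have h2d : Commute ((2 : ℕ) : R) P := Nat.cast_commute 2 P
  obtain ⟨hY1, hY2⟩ := split hdi htE.1 hdt (by
    rw [hKd, htE.2, mul_neg, neg_mul, mul_assoc, hPP, ← mul_assoc, ← h2d.eq, mul_assoc, hPP])
  rw [hKd, htE.2, mul_neg, mul_assoc, hPP, hs _ (hηmem _ _) (hηne hdt), neg_one_mul, neg_inj] at hY2
  have fixP : ∀ u : X, K u = (2 : ℕ) * P → ρ u * P = P := fun u hu => by
    have h1 : (ρ u - 1) * (ρ u - 1) * P = 0 := by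
      calc (ρ u - 1) * (ρ u - 1) * P = ρ u * ((ρ u + ρ u⁻¹) * P - (2 : ℕ) * P) := by
            have e1 : ρ u * ρ u⁻¹ = 1 := by rw [← map_mul, mul_inv_cancel, map_one]
            rw [← sub_mul, ← mul_assoc, mul_sub (ρ u), mul_add, e1]
            push_cast
            noncomm_ring
        _ = 0 := by rw [show (ρ u + ρ u⁻¹) * P = K u from rfl, hu, sub_self, mul_zero]
    have e3 : ρ u * ρ u * ρ u = 1 := by rw [← map_mul, ← map_mul, ← pow_two, ← pow_succ, hexp, map_one]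
    have h3 : ((3 : ℕ) : R) * ((ρ u - 1) * P) = 0 := by
      calc ((3 : ℕ) : R) * ((ρ u - 1) * P)
          = (ρ u * ρ u * ρ u - 1) * P - (ρ u + 2) * ((ρ u - 1) * (ρ u - 1) * P) := by push_cast; noncomm_ring
        _ = 0 := by rw [e3, sub_self, zero_mul, h1, mul_zero, sub_zero]
    have h4 := F.lin.qunit.mul_right_eq_zero.mp h3
    rw [sub_mul, one_mul, sub_eq_zero] at h4
    exact h4
  have hdfix : ∀ n : ℕ, ρ (d ^ n) * P = P := fun n => by
    induction n with
    | zero => rw [pow_zero, map_one, one_mul]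
    | succ n ih => rw [pow_succ, map_mul, mul_assoc, fixP d hKd, ih]
  have hopfix := fixP (op d t) hY2.symm
  have ht1 : ρ t * P = P := by
    have h1 : ρ (d ^ h) * (ρ t * P) = P := by
      calc ρ (d ^ h) * (ρ t * P) = ρ (d ^ h) * (ρ t * (ρ (d ^ h) * P)) := by rw [hdfix h]
        _ = ρ (op d t) * P := by
          show _ = ρ (d ^ h * t * d ^ h) * P
          simp only [map_mul, mul_assoc]
        _ = P := hopfix
    have hcan : ρ ((d ^ h)⁻¹) * P = P := by
      have : (d ^ h)⁻¹ = d ^ (h * 2) := inv_eq_of_mul_eq_one_right (by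
        rw [← pow_add, show h + h * 2 = 3 * h by ring, pow_mul, hexp, one_pow])
      rw [this]; exact hdfix _
    calc ρ t * P = ρ ((d ^ h)⁻¹) * (ρ (d ^ h) * (ρ t * P)) := by
          rw [← mul_assoc, ← map_mul, inv_mul_cancel, map_one, one_mul]
      _ = P := by rw [h1, hcan]
  have htinv : ρ t⁻¹ * P = P := by
    conv_lhs => rw [← ht1, ← mul_assoc, ← map_mul, inv_mul_cancel, map_one, one_mul]
  have h6 : K t = (2 : ℕ) * P := by
    show cs ρ t * P = _
    rw [cs, add_mul, ht1, htinv, Nat.cast_ofNat, two_mul]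
  rw [htE.2] at h6
  have h7 : ((3 : ℕ) : R) * P = 0 := by
    calc ((3 : ℕ) : R) * P = ((2 : ℕ) : R) * P + P := by push_cast; noncomm_ring
      _ = 0 := by rw [← h6, neg_add_cancel]
  exact hP0 (F.lin.qunit.mul_right_eq_zero.mp h7)

theorem Faithful.trivial (hq2 : q ≠ 2) (hp2 : p ≠ 2) (d : X) : d = 1 := by
  by_contra hd
  have hX : Nontrivial X := ⟨⟨d, 1, hd⟩⟩
  by_cases hab : ∀ u w : X, Commute u w
  · exact F.false_of_abelian hq2 hp2 hX hab
  · exact F.false_of_class_two hq2 hp2 hX hab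

omit F in
/-- The main statement on representations. -/
theorem triv (hq2 : q ≠ 2) (hp2 : p ≠ 2) (X : Type u) [Group X] [Finite X] : Triv.{u, v} p q X :=
  trivial_of_faithful hq2 (fun X _ _ σ ξ R _ ρ x a F d => F.trivial hq2 hp2 d) _ X rfl

end CfsgLib.CoprimeInvCent
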