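import Cfsg.Agent.Lib.CoprimeInvCent.Geometry
import Cfsg.Agent.Lib.TwoFusion.StrongEmb

/-!
Counting adjacent pairs, and the conclusion that there are none.
-/

set_option autoImplicit false
set_option linter.unusedSectionVars false
set_option linter.style.haveILetI false

namespace CfsgLib.CoprimeInvCent

open Subgroup CfsgLib.FixGen
open CfsgLib.Involutions (mul_self_eq_one_of_orderOf inv_eq_self_of_orderOf orderOf_conj orderOf_eq_two_iff')
open scoped commutatorElement IsMulCommutative

universe u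

variable {G : Type u} [Group G] [Finite G] {p : ℕ} [Fact p.Prime] {α : MulAut G}

/-- The base point. -/
noncomputable def bp (α : MulAut G) : G ⧸ fx α := ((1 : G) : G ⧸ fx α)

theorem smul_bp_eq {g : G} : g • bp α = (g : G ⧸ fx α) :=
  (MulAction.Quotient.smul_coe (fx α) g 1).trans (by rw [smul_eq_mul, mul_one])

theorem bp_fixed_iff {g : G} : g • bp α = bp α ↔ α g = g := fixes_base

theorem card_filter_product {A B : Type*} [DecidableEq A] [DecidableEq B] (S : Finset A) (T : Finset B)
    (q : A × B → Prop) [DecidablePred q] :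
    ((S ×ˢ T).filter q).card = ∑ a ∈ S, (T.filter fun b => q (a, b)).card := by
  simp only [Finset.card_filter]
  rw [Finset.sum_product]

variable (K : Ctx p α)
include K

theorem Ctx.tat_unique {ω ω' : G ⧸ fx α} {y : G} (h : IsTat α ω y) (h' : IsTat α ω' y) : ω' = ω :=
  K.centre_unique h (K.fixes_centre h')

theorem Ctx.fixed_iff {ω z : G ⧸ fx α} {y : G} (h : IsTat α ω y) : y • z = z ↔ z = ω :=
  ⟨K.centre_unique h, fun e => e ▸ K.fixes_centre h⟩

omit K in
theorem card_tat (ω : G ⧸ fx α) : Nat.card {y : G // IsTat α ω y} = Nat.card {t : G // IsT α t} := by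
  induction ω using QuotientGroup.induction_on with
  | _ g =>
    refine (Nat.card_congr (Equiv.subtypeEquiv (MulAut.conj g).toEquiv fun t => ?_)).symm
    show IsT α t ↔ IsTat α (g : G ⧸ fx α) (g * t * g⁻¹)
    refine ⟨fun h => ⟨g, rfl, by rwa [show g⁻¹ * (g * t * g⁻¹) * g = t by group]⟩, fun h => ?_⟩
    have h1 := h.smul g⁻¹
    rw [show g⁻¹ * (g * t * g⁻¹) * g⁻¹⁻¹ = t by group, MulAction.Quotient.smul_coe, smul_eq_mul, inv_mul_cancel] at h1
    exact h1.base

theorem Ctx.card_tcl :
    Nat.card {y : G // ∃ ω, IsTat α ω y} = Nat.card (G ⧸ fx α) * Nat.card {t : G // IsT α t} := by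
  haveI := Fintype.ofFinite (G ⧸ fx α)
  let f : (Σ ω : G ⧸ fx α, {y : G // IsTat α ω y}) → {y : G // ∃ ω, IsTat α ω y} := fun z => ⟨z.2, z.1, z.2.2⟩
  have hf : Function.Bijective f := ⟨by
    rintro ⟨a, y, hy⟩ ⟨b, y', hy'⟩ e
    obtain rfl : y = y' := congrArg Subtype.val e
    obtain rfl : b = a := K.tat_unique hy hy'
    rfl, fun ⟨y, ω, h⟩ => ⟨⟨ω, y, h⟩, rfl⟩⟩
  rw [← Nat.card_eq_of_bijective f hf, Nat.card_sigma, Finset.sum_congr rfl fun ω _ => card_tat ω,
    Finset.sum_const, Finset.card_univ, smul_eq_mul, Nat.card_eq_fintype_card (α := G ⧸ fx α)]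

/-- A point adjacent to the base has, for every special involution, a commuting witness. -/
theorem Ctx.adj_witness {t : G} (ht : IsT α t) {ω : G ⧸ fx α} (hω : Adj α (bp α) ω) :
    ∃ e : G, orderOf e = 2 ∧ Commute e t ∧ e • ω = ω := by
  classical
  haveI := Fintype.ofFinite G
  haveI := Fintype.ofFinite (G ⧸ fx α)
  set S : Finset G := Finset.univ.filter fun y => ∃ ω, IsTat α ω y with hS
  set N := Nat.card {t : G // IsT α t} with hN
  set m := Fintype.card (G ⧸ fx α) with hm
  have hScard : S.card = m * N := by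
    rw [hS, ← Fintype.card_subtype, ← Nat.card_eq_fintype_card, K.card_tcl, Nat.card_eq_fintype_card]
  -- moved pairs
  set P := (S ×ˢ (Finset.univ : Finset (G ⧸ fx α))).filter fun z => z.2 ≠ z.1 • z.2 with hP
  have hPcard : P.card = m * N * (m - 1) := by
    rw [hP, card_filter_product, Finset.sum_congr rfl fun y hy => ?_, Finset.sum_const, smul_eq_mul, hScard]
    obtain ⟨c, hc⟩ := (Finset.mem_filter.mp hy).2
    have : (Finset.univ.filter fun z : G ⧸ fx α => z ≠ y • z) = Finset.univ.erase c := by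
      ext z
      simp [eq_comm (a := z) (b := y • z), K.fixed_iff hc]
    rw [this, Finset.card_erase_of_mem (Finset.mem_univ c), Finset.card_univ]
  set O := ((Finset.univ : Finset (G ⧸ fx α)) ×ˢ (Finset.univ : Finset (G ⧸ fx α))).filter fun z => z.1 ≠ z.2 with hO
  have hOcard : O.card = m * (m - 1) := by
    rw [hO, card_filter_product, Finset.sum_congr rfl fun a _ => ?_, Finset.sum_const, smul_eq_mul, Finset.card_univ]
    have : (Finset.univ.filter fun b : G ⧸ fx α => a ≠ b) = Finset.univ.erase a := by ext b; simp [eq_comm]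
    rw [this, Finset.card_erase_of_mem (Finset.mem_univ a), Finset.card_univ]
  -- far pairs
  set F := O.filter fun z => ¬ Adj α z.1 z.2 with hF
  set PF := P.filter fun z => ¬ Adj α z.2 (z.1 • z.2) with hPF
  have hPFcard : PF.card = F.card * N := by
    rw [Finset.card_eq_sum_card_fiberwise (f := fun z : G × (G ⧸ fx α) => (z.2, z.1 • z.2)) (t := F) fun z hz => ?_,
      Finset.sum_congr rfl fun ab hab => ?_, Finset.sum_const, smul_eq_mul]
    · obtain ⟨a, b⟩ := ab
      simp only [hF, hO, Finset.mem_filter, Finset.mem_product, Finset.mem_univ, true_and] at hab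
      have hf : Far α a b := hab
      rw [← card_tat (α := α) b] at hN
      rw [hN, ← K.card_swap hf, Nat.card_eq_fintype_card, Fintype.card_subtype]
      refine Finset.card_nbij' (fun z => z.1) (fun y => (y, a)) ?_ ?_ ?_ ?_
      · intro z hz
        simp only [hPF, hP, hS, Finset.mem_coe, Finset.mem_filter, Finset.mem_product, Finset.mem_univ, true_and, and_true,
          Prod.mk.injEq] at hz
        obtain ⟨⟨⟨⟨c, hc⟩, -⟩, -⟩, rfl, h2⟩ := hz
        simp only [Finset.mem_coe, Finset.mem_filter, Finset.mem_univ, true_and]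
        exact ⟨hc.order, h2⟩
      · intro y hy
        simp only [Finset.mem_coe, Finset.mem_filter, Finset.mem_univ, true_and] at hy
        simp only [hPF, hP, hS, Finset.mem_coe, Finset.mem_filter, Finset.mem_product, Finset.mem_univ, true_and, and_true,
          Prod.mk.injEq]
        exact ⟨⟨⟨K.swap_tat hf hy.1 hy.2, hy.2.symm ▸ hf.1⟩, hy.2.symm ▸ hf.2⟩, hy.2⟩
      · intro z hz
        simp only [Finset.mem_coe, Finset.mem_filter, Prod.mk.injEq] at hz
        exact Prod.ext rfl hz.2.1.symm
      · intro y _; rfl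
    · simp only [hPF, hP, Finset.mem_coe, Finset.mem_filter, Finset.mem_product, Finset.mem_univ, and_true] at hz
      simp only [hF, hO, Finset.mem_coe, Finset.mem_filter, Finset.mem_product, Finset.mem_univ, true_and]
      exact ⟨hz.1.2, hz.2⟩
  -- adjacent pairs
  set OA := O.filter fun z => Adj α z.1 z.2 with hOA
  set PA := P.filter fun z => Adj α z.2 (z.1 • z.2) with hPA
  set A := Finset.univ.filter fun b : G ⧸ fx α => Adj α (bp α) b with hA
  have hsplit1 : OA.card + F.card = O.card := Finset.card_filter_add_card_filter_not _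
  have hsplit2 : PA.card + PF.card = P.card := Finset.card_filter_add_card_filter_not _
  have hOAcard : OA.card = m * A.card := by
    have e : OA = ((Finset.univ : Finset (G ⧸ fx α)) ×ˢ (Finset.univ : Finset (G ⧸ fx α))).filter fun z => Adj α z.1 z.2 := by
      rw [hOA, hO, Finset.filter_filter]
      exact Finset.filter_congr fun z _ => ⟨And.right, fun h => ⟨h.1, h⟩⟩
    rw [e, card_filter_product, Finset.sum_congr rfl fun a _ => ?_, Finset.sum_const, smul_eq_mul, Finset.card_univ]
    induction a using QuotientGroup.induction_on with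
    | _ g =>
      refine Finset.card_nbij' (fun b => g⁻¹ • b) (fun b => g • b) ?_ ?_ ?_ ?_
      · intro b hb
        simp only [hA, Finset.mem_coe, Finset.mem_filter, Finset.mem_univ, true_and] at hb ⊢
        have := hb.smul g⁻¹
        rwa [← smul_bp_eq, inv_smul_smul] at this
      · intro b hb
        simp only [hA, Finset.mem_coe, Finset.mem_filter, Finset.mem_univ, true_and] at hb ⊢
        have := hb.smul g
        rwa [smul_bp_eq] at this
      · intro b _; simp
      · intro b _; simp
  set M : G → Finset (G ⧸ fx α) := fun y => Finset.univ.filter fun z => Adj α z (y • z) with hM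
  have hMconj : ∀ g y : G, (M (g * y * g⁻¹)).card = (M y).card := fun g y => by
    refine Finset.card_nbij' (fun b => g⁻¹ • b) (fun b => g • b) ?_ ?_ ?_ ?_
    · intro b hb
      simp only [hM, Finset.mem_coe, Finset.mem_filter, Finset.mem_univ, true_and] at hb ⊢
      have := hb.smul g⁻¹
      rwa [← mul_smul g⁻¹, show g⁻¹ * (g * y * g⁻¹) = y * g⁻¹ by group, mul_smul] at this
    · intro b hb
      simp only [hM, Finset.mem_coe, Finset.mem_filter, Finset.mem_univ, true_and] at hb ⊢
      have := hb.smul g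
      rwa [← mul_smul g y, show g * y = g * y * g⁻¹ * g by group, mul_smul] at this
    · intro b _; simp
    · intro b _; simp
  have hPAcard : PA.card = m * N * (M t).card := by
    have e : PA = (S ×ˢ (Finset.univ : Finset (G ⧸ fx α))).filter fun z => Adj α z.2 (z.1 • z.2) := by
      rw [hPA, hP, Finset.filter_filter]
      exact Finset.filter_congr fun z _ => ⟨And.right, fun h => ⟨h.1, h⟩⟩
    rw [e, card_filter_product, Finset.sum_congr rfl fun y hy => ?_, Finset.sum_const, smul_eq_mul, hScard]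
    obtain ⟨c, hc⟩ := (Finset.mem_filter.mp hy).2
    obtain ⟨s, hs, hsy⟩ := hc.isConj
    obtain ⟨g, hg⟩ := isConj_iff.mp ((K.all_isConj ht hs).trans hsy)
    rw [← hg]
    exact hMconj g t
  have hNpos : 0 < m * N := by
    haveI : Nonempty {t : G // IsT α t} := ⟨⟨t, ht⟩⟩
    exact Nat.mul_pos Fintype.card_pos Nat.card_pos
  have hMA : (M t).card = A.card := by
    refine Nat.eq_of_mul_eq_mul_left hNpos ?_
    have h1 : N * (OA.card + F.card) = PA.card + PF.card := by rw [hsplit1, hsplit2, hOcard, hPcard]; ring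
    rw [hOAcard, hPAcard, hPFcard, mul_add, mul_comm F.card N] at h1
    have := Nat.add_right_cancel h1
    rw [← this]; ring
  have hsub : M t ⊆ A := fun z hz => by
    simp only [hM, hA, Finset.mem_filter, Finset.mem_univ, true_and] at hz ⊢
    obtain ⟨e, he, hec, hez⟩ := exists_commuting_witness ht.1 hz
    exact ⟨fun eq => hz.1 (eq ▸ (bp_fixed_iff.mpr ht.fixed).symm), e, he, bp_fixed_iff.mpr (ht.2 e hec.symm), hez⟩
  have hmem : ω ∈ M t := Finset.eq_of_subset_of_card_le hsub hMA.ge ▸ Finset.mem_filter.mpr ⟨Finset.mem_univ ω, hω⟩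
  exact exists_commuting_witness ht.1 (Finset.mem_filter.mp hmem).2

/-- No involution fixes two points. -/
theorem Ctx.fix_unique {z : G} (hz : orderOf z = 2) {a b : G ⧸ fx α} (ha : z • a = a) (hb : z • b = b) : a = b := by
  classical
  by_contra hab
  obtain ⟨t, ht⟩ := K.exT
  obtain ⟨t', ht', hne, hc⟩ := K.exists_partner ht
  set u := t * t' with hudef
  have hu : orderOf u = 2 := by
    refine orderOf_eq_two_iff'.mpr ⟨?_, fun e => hne ?_⟩
    · rw [hudef, show t * t' * (t * t') = t * (t' * t) * t' by group, ← hc.eq,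
        show t * (t * t') * t' = (t * t) * (t' * t') by group, ht.sq, ht'.sq, one_mul]
    · rw [eq_inv_of_mul_eq_one_right e, inv_eq_self_of_orderOf ht.1]
  have huf : α u = u := by rw [hudef, map_mul, ht.fixed, ht'.fixed]
  have htu : Commute t u := (Commute.refl t).mul_right hc
  -- the component of the base
  set L : Set (G ⧸ fx α) := {ω | u • ω = ω} with hL
  have hL0 : bp α ∈ L := bp_fixed_iff.mpr huf
  have hLadj : ∀ {r r' : G ⧸ fx α}, r ∈ L → r' ∈ L → r ≠ r' → Adj α r r' := fun h h' hne => ⟨hne, u, hu, h, h'⟩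
  have hLA : ∀ {ω}, Adj α (bp α) ω → ω ∈ L := fun {ω} hω => by
    obtain ⟨e, he, hec, hee⟩ := K.adj_witness ht hω
    obtain ⟨e', he', hec', hee'⟩ := K.adj_witness ht' hω
    exact K.line_meet ht ht' hc he he' hec hec' hee hee'
  have hclosed : ∀ {r x : G ⧸ fx α}, r ∈ L → Adj α r x → x ∈ L := fun {r x} hr hrx => by
    induction r using QuotientGroup.induction_on with
    | _ g =>
      obtain ⟨k, hk, hkf⟩ := K.fusion huf (fixes_iff.mp hr)
      have hkg : k • bp α = (g : G ⧸ fx α) := by
        rw [smul_bp_eq]; exact eq_of_fixed_left hkf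
      have h1 := hrx.smul k⁻¹
      rw [← hkg, inv_smul_smul] at h1
      have h2 : u • (k⁻¹ • x) = k⁻¹ • x := hLA h1
      rw [← mul_smul, hk.symm.inv_right.eq, mul_smul] at h2
      exact smul_left_cancel k⁻¹ h2
  have hclass : ∀ {r ω : G ⧸ fx α}, r ∈ L → (ω ∈ L ↔ ω = r ∨ Adj α r ω) := fun {r ω} hr =>
    ⟨fun h => by
      by_cases e : ω = r
      · exact Or.inl e
      · exact Or.inr (hLadj hr h (Ne.symm e)),
      fun h => h.elim (fun e => e ▸ hr) (hclosed hr)⟩
  -- the stabiliser of the component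
  let H : Subgroup G :=
    { carrier := {g | ∀ ω, ω ∈ L ↔ g • ω ∈ L}
      one_mem' := fun ω => by rw [one_smul]
      mul_mem' := fun {x y} hx hy ω => by rw [mul_smul]; exact (hy ω).trans (hx _)
      inv_mem' := fun {x} hx ω => by
        have := hx (x⁻¹ • ω)
        rw [smul_inv_smul] at this
        exact this.symm }
  have hmemH : ∀ {g : G} {r}, r ∈ L → g • r ∈ L → g ∈ H := fun {g r} hr hgr ω => by
    rw [hclass hr, hclass hgr, smul_left_cancel_iff]
    exact or_congr_right ⟨fun h => h.smul g, fun h => by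
      have := h.smul g⁻¹
      rwa [inv_smul_smul, inv_smul_smul] at this⟩
  have hfxH : ∀ {c : G}, α c = c → c ∈ H := fun hc => hmemH hL0 ((bp_fixed_iff.mpr hc).symm ▸ hL0)
  obtain ⟨c0, hc0L, hc0⟩ : ∃ c0 ∈ L, c0 ≠ bp α := by
    induction a using QuotientGroup.induction_on with
    | _ g =>
      have h1 : Adj α ((g : G ⧸ fx α)) b := ⟨hab, z, hz, ha, hb⟩
      have h2 := h1.smul g⁻¹
      rw [← smul_bp_eq, inv_smul_smul] at h2
      exact ⟨_, hLA h2, h2.1.symm⟩
  have hLnat : Odd (Nat.card L) := by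
    haveI : Fintype L := Fintype.ofFinite L
    haveI : Fact (Nat.Prime 2) := ⟨Nat.prime_two⟩
    rw [← Nat.not_even_iff_odd, even_iff_two_dvd, Nat.card_eq_fintype_card]
    intro hd
    let f : L → L := fun ω => ⟨t • (ω : G ⧸ fx α), (hfxH ht.fixed _).mp ω.2⟩
    have hf : Function.Involutive f := fun ω => Subtype.ext (by
      show t • t • (ω : G ⧸ fx α) = ω
      rw [← mul_smul, ht.sq, one_smul])
    obtain ⟨x, hx, hxne⟩ := Equiv.Perm.exists_fixed_point_of_prime' (σ := hf.toPerm f) (n := 1) hd
      (by rw [pow_one, pow_two]; ext ω; exact congrArg Subtype.val (hf ω))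
      (a := (⟨bp α, hL0⟩ : L)) (Subtype.ext (bp_fixed_iff.mpr ht.fixed))
    exact hxne (Subtype.ext (K.centre_unique (isTat_base ht) (congrArg Subtype.val hx)))
  have hSE : Cfsg.IsStronglyEmbedded H := by
    refine ⟨fun htop => ?_, ?_, fun g hg => ?_⟩
    · obtain ⟨x, y, hxy⟩ := K.exists_far
      have hall : ∀ ω, ω ∈ L := fun ω => by
        induction ω using QuotientGroup.induction_on with
        | _ g => rw [← smul_bp_eq]; exact ((htop ▸ mem_top g : g ∈ H) _).mp hL0
      exact hxy.2 (hLadj (hall x) (hall y) hxy.1)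
    · rw [even_iff_two_dvd, ← ht.1]
      exact Subgroup.orderOf_dvd_natCard H (hfxH ht.fixed)
    · rw [← Nat.not_even_iff_odd]
      intro he
      haveI : Fact (Nat.Prime 2) := ⟨Nat.prime_two⟩
      obtain ⟨x, hx2⟩ := exists_prime_orderOf_dvd_card' _ he.two_dvd
      rw [← Subgroup.orderOf_coe] at hx2
      obtain ⟨i, hi1, j, hj, hij⟩ := x
      have hi2 : orderOf i = 2 := hx2
      have hi' := mul_self_eq_one_of_orderOf hi2
      have hij' : g * j * g⁻¹ = i := hij
      have hfix : ∀ {i : G}, orderOf i = 2 → i ∈ H → ∃ r ∈ L, i • r = r := fun {i} hi2 hi1 => by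
        haveI : Fintype L := Fintype.ofFinite L
        let f : L → L := fun ω => ⟨i • (ω : G ⧸ fx α), (hi1 _).mp ω.2⟩
        have hf : Function.Involutive f := fun ω => Subtype.ext (by
          show i • i • (ω : G ⧸ fx α) = ω
          rw [← mul_smul, mul_self_eq_one_of_orderOf hi2, one_smul])
        obtain ⟨x, hx⟩ := Equiv.Perm.exists_fixed_point_of_prime (σ := hf.toPerm f) (n := 1)
          (by rw [← Nat.card_eq_fintype_card]; exact fun hd => Nat.not_even_iff_odd.mpr hLnat (even_iff_two_dvd.mpr hd))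
          (by rw [pow_one, pow_two]; ext ω; exact congrArg Subtype.val (hf ω))
        exact ⟨x, x.2, congrArg Subtype.val hx⟩
      obtain ⟨r, hr, hir⟩ := hfix hi2 hi1
      obtain ⟨r', hr', hjr⟩ := hfix (i := j) (by rw [← hi2, ← hij', orderOf_conj]) hj
      refine hg (hmemH hr' ?_)
      by_cases e : g • r' = r
      · exact e ▸ hr
      refine hclosed hr ⟨Ne.symm e, i, hi2, hir, ?_⟩
      rw [← hij', mul_smul, mul_smul, inv_smul_smul, hjr]
  obtain ⟨g, hg⟩ := isConj_iff.mp (CfsgLib.StrongEmb.all_isConj hSE ht.1 hu)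
  have htat := (isTat_base ht).smul g
  rw [hg] at htat
  exact hc0 ((K.centre_unique htat hc0L).trans (K.centre_unique htat hL0).symm)

theorem Ctx.far {a b : G ⧸ fx α} (h : a ≠ b) : Far α a b :=
  ⟨h, fun ⟨_, _, he, ha, hb⟩ => h (K.fix_unique he ha hb)⟩

theorem Ctx.isT_of_fixed {e : G} (he : orderOf e = 2) (hef : α e = e) : IsT α e := by
  refine ⟨he, fun g hg => bp_fixed_iff.mp (K.fix_unique he (b := bp α) ?_ (bp_fixed_iff.mpr hef))⟩
  rw [← mul_smul, hg.eq, mul_smul, bp_fixed_iff.mpr hef]

end CfsgLib.CoprimeInvCent
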