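import Cfsg.Agent.Lib.CoprimeInvCent.Count

/-!
The fixed subgroup is strongly embedded, and this is contradictory.
-/

set_option autoImplicit false
set_option linter.unusedSectionVars false
set_option linter.style.haveILetI false

namespace CfsgLib.CoprimeInvCent

open Subgroup CfsgLib.FixGen
open CfsgLib.Involutions (mul_self_eq_one_of_orderOf inv_eq_self_of_orderOf orderOf_conj orderOf_eq_two_iff')
open scoped commutatorElement IsMulCommutative

universe u

variable {G : Type u} [Group G] [Finite G] {p : ℕ} [Fact p.Prime] {α : MulAut G}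

/-- The fixed elements fixing a further point. -/
noncomputable def twoPt (α : MulAut G) (c : G ⧸ fx α) : Subgroup G :=
  MulAction.stabilizer G (bp α) ⊓ MulAction.stabilizer G c

theorem mem_twoPt {c : G ⧸ fx α} {d : G} : d ∈ twoPt α c ↔ α d = d ∧ d • c = c := and_congr bp_fixed_iff Iff.rfl

variable (K : Ctx p α)
include K

theorem Ctx.fx_ne_top : fx α ≠ ⊤ := fun h => K.ne (MulEquiv.ext fun g => mem_fx.mp (h ▸ mem_top g))

theorem Ctx.stronglyEmbedded : Cfsg.IsStronglyEmbedded (fx α) := by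
  obtain ⟨t, ht⟩ := K.exT
  refine ⟨K.fx_ne_top, ?_, fun g hg => ?_⟩
  · rw [even_iff_two_dvd, ← ht.1]
    exact Subgroup.orderOf_dvd_natCard _ (mem_fx.mpr ht.fixed)
  · rw [← Nat.not_even_iff_odd]
    intro he
    haveI : Fact (Nat.Prime 2) := ⟨Nat.prime_two⟩
    obtain ⟨x, hx2⟩ := exists_prime_orderOf_dvd_card' _ he.two_dvd
    rw [← Subgroup.orderOf_coe] at hx2
    obtain ⟨i, hi1, j, hj, hij⟩ := x
    have hi2 : orderOf i = 2 := hx2
    have hij' : g * j * g⁻¹ = i := hij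
    have h1 : i • (g • bp α) = g • bp α := by
      rw [← hij', mul_smul, mul_smul, inv_smul_smul, bp_fixed_iff.mpr hj]
    exact hg (bp_fixed_iff.mp (K.fix_unique hi2 (bp_fixed_iff.mpr hi1) h1).symm)

theorem Ctx.exists_swap {c : G ⧸ fx α} (hc : c ≠ bp α) :
    ∃ u : G, orderOf u = 2 ∧ u • bp α = c ∧ u • c = bp α ∧ u ∉ fx α := by
  obtain ⟨t, ht⟩ := K.exT
  obtain ⟨y, hy⟩ := exists_tat ht c
  obtain ⟨u, hu, hub, -⟩ := K.mid (K.far hc.symm) (isTat_base ht) hy
  refine ⟨u, hu, hub, ?_, fun h => hc (hub.symm.trans (bp_fixed_iff.mpr (mem_fx.mp h)))⟩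
  change u • bp α = c at hub
  rw [← hub, ← mul_smul, mul_self_eq_one_of_orderOf hu, one_smul]

theorem Ctx.trans_base {c : G ⧸ fx α} (hc : c ≠ bp α) {s t : G} (hs : orderOf s = 2) (hsf : α s = s)
    (ht : orderOf t = 2) (htf : α t = t) : ∃ d ∈ twoPt α c, d * s * d⁻¹ = t := by
  obtain ⟨u, hu, hub, -, huC⟩ := K.exists_swap hc
  obtain ⟨d, ⟨hd, d', hd', e⟩, he⟩ := CfsgLib.StrongEmb.exists_conj_in_inter K.stronglyEmbedded hu huC
    (mem_fx.mpr hsf) hs (mem_fx.mpr htf) ht
  refine ⟨d, mem_twoPt.mpr ⟨mem_fx.mp hd, ?_⟩, he⟩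
  have e' : u * d' * u⁻¹ = d := e
  rw [← hub, ← e', mul_smul, mul_smul, inv_smul_smul, bp_fixed_iff.mpr (mem_fx.mp hd')]

theorem Ctx.trans_point {c : G ⧸ fx α} (hc : c ≠ bp α) {s t : G} (hs : orderOf s = 2) (hsc : s • c = c)
    (ht : orderOf t = 2) (htc : t • c = c) : ∃ d ∈ twoPt α c, d * s * d⁻¹ = t := by
  obtain ⟨u, hu, hub, huc, -⟩ := K.exists_swap hc
  have hu' := inv_eq_self_of_orderOf hu
  have hfix : ∀ {i : G}, i • c = c → α (u * i * u⁻¹) = u * i * u⁻¹ := fun {i} h => by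
    rw [← bp_fixed_iff, hu', mul_smul, mul_smul, hub, h, huc]
  obtain ⟨d, hd, he⟩ := K.trans_base hc (s := u * s * u⁻¹) (t := u * t * u⁻¹) (by rw [orderOf_conj, hs]) (hfix hsc)
    (by rw [orderOf_conj, ht]) (hfix htc)
  obtain ⟨hdf, hdc⟩ := mem_twoPt.mp hd
  refine ⟨u * d * u⁻¹, ⟨?_, ?_⟩, ?_⟩
  · show (u * d * u⁻¹) • bp α = bp α
    rw [hu', mul_smul, mul_smul, hub, hdc, huc]
  · show (u * d * u⁻¹) • c = c
    rw [hu', mul_smul, mul_smul, huc, bp_fixed_iff.mpr hdf, hub]
  · rw [hu'] at he ⊢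
    have huu := mul_self_eq_one_of_orderOf hu
    calc u * d * u * s * (u * d * u)⁻¹ = u * (d * (u * s * u) * d⁻¹) * u := by
          rw [mul_inv_rev, mul_inv_rev, hu']; simp only [mul_assoc]
      _ = u * (u * t * u) * u := by rw [he]
      _ = (u * u) * t * (u * u) := by simp only [mul_assoc]
      _ = t := by rw [huu, one_mul, mul_one]

theorem Ctx.false : False := by
  classical
  obtain ⟨t, ht⟩ := K.exT
  obtain ⟨t', ht', hne, htc⟩ := K.exists_partner ht
  -- a further point with the largest two-point stabiliser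
  obtain ⟨g0, hg0⟩ : ∃ g : G, g ∉ fx α := by
    by_contra h
    push Not at h
    exact K.fx_ne_top ((Subgroup.eq_top_iff' _).mpr h)
  haveI : Nonempty {c : G ⧸ fx α // c ≠ bp α} :=
    ⟨⟨g0 • bp α, fun e => hg0 (mem_fx.mpr (bp_fixed_iff.mp e))⟩⟩
  obtain ⟨⟨c0, hc0⟩, hmax⟩ := Finite.exists_max fun c : {c : G ⧸ fx α // c ≠ bp α} => Nat.card (twoPt α c.1)
  set D := twoPt α c0 with hDdef
  have hmax' : ∀ c, c ≠ bp α → D ≤ twoPt α c → twoPt α c = D := fun c hc hle =>
    (Subgroup.eq_of_le_of_card_ge hle (hmax ⟨c, hc⟩)).symm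
  have hDf : ∀ d ∈ D, α d = d := fun d hd => (mem_twoPt.mp hd).1
  -- the centraliser of it
  set L := centralizer (D : Set G) with hL
  have hLi : Inv α L := fun x hx => mem_centralizer_iff.mpr fun d hd => by
    conv_lhs => rw [← hDf d hd, ← map_mul, mem_centralizer_iff.mp hx d hd, map_mul, hDf d hd]
  obtain ⟨g, hg⟩ := QuotientGroup.mk_surjective c0
  have hδ : α g * g⁻¹ ∈ L := mem_centralizer_iff.mpr fun d hd => by
    obtain ⟨hdf, hdc⟩ := mem_twoPt.mp hd
    rw [← hg] at hdc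
    have h1 := fixes_iff.mp hdc
    rw [map_mul, map_mul, map_inv, hdf] at h1
    calc d * (α g * g⁻¹) = α g * ((α g)⁻¹ * d * α g) * g⁻¹ := by group
      _ = α g * (g⁻¹ * d * g) * g⁻¹ := by rw [h1]
      _ = _ := by group
  obtain ⟨n, hn, hnf⟩ := exists_fixed_coset K.pow K.cop hLi (g := g⁻¹) (by
    rw [inv_inv, map_inv, show g * (α g)⁻¹ = (α g * g⁻¹)⁻¹ by group]
    exact L.inv_mem hδ)
  have hnc : n • bp α = c0 := by
    rw [smul_bp_eq, ← hg]
    have h1 := (fx α).inv_mem hnf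
    rw [mul_inv_rev, inv_inv] at h1
    exact eq_of_fixed_left h1
  have hnoinv : ∀ z ∈ L, orderOf z ≠ 2 := fun z hzL hz => by
    have hcz : ∀ d ∈ D, d * z * d⁻¹ = z := fun d hd => by
      rw [mem_centralizer_iff.mp hzL d hd, mul_inv_cancel_right]
    by_cases hzb : z • bp α = bp α
    · obtain ⟨d, hd, he⟩ := K.trans_base hc0 hz (bp_fixed_iff.mp hzb) ht.1 ht.fixed
      obtain ⟨d', hd', he'⟩ := K.trans_base hc0 hz (bp_fixed_iff.mp hzb) ht'.1 ht'.fixed
      exact hne (by rw [← he, ← he', hcz d hd, hcz d' hd'])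
    haveI : Fintype (G ⧸ fx α) := Fintype.ofFinite _
    haveI : Fact (Nat.Prime 2) := ⟨Nat.prime_two⟩
    obtain ⟨c1, hc1⟩ := Equiv.Perm.exists_fixed_point_of_prime (σ := MulAction.toPerm z) (n := 1)
      (α := G ⧸ fx α) (by
        rw [← Nat.card_eq_fintype_card]
        exact fun hd => Nat.not_even_iff_odd.mpr K.index_odd (even_iff_two_dvd.mpr hd))
      (by rw [pow_one, pow_two]; ext ω; exact (mul_smul z z ω).symm.trans (by rw [mul_self_eq_one_of_orderOf hz, one_smul]; rfl))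
    have hzc : z • c1 = c1 := hc1
    have hc1b : c1 ≠ bp α := fun e => hzb (e ▸ hzc)
    have hle : D ≤ twoPt α c1 := fun d hd => mem_twoPt.mpr ⟨hDf d hd, by
      refine K.fix_unique hz ?_ hzc
      rw [← mul_smul, ← mem_centralizer_iff.mp hzL d hd, mul_smul, hzc]⟩
    have hDeq := hmax' c1 hc1b hle
    obtain ⟨u, hu, hub, huc, -⟩ := K.exists_swap hc1b
    have hu' := inv_eq_self_of_orderOf hu
    have hconj : ∀ {s : G}, IsT α s → u * s * u⁻¹ = z := fun {s} hs => by
      obtain ⟨d, hd, he⟩ := K.trans_point hc1b hz hzc (t := u * s * u⁻¹) (by rw [orderOf_conj, hs.1])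
        (by rw [hu', mul_smul, mul_smul, huc, bp_fixed_iff.mpr hs.fixed, hub])
      rw [← he, hcz d (hDeq ▸ hd)]
    exact hne (mul_left_cancel (mul_right_cancel ((hconj ht').trans (hconj ht).symm)))
  have hLodd : Odd (Nat.card L) := by
    rw [← Nat.not_even_iff_odd]
    intro he
    haveI : Fact (Nat.Prime 2) := ⟨Nat.prime_two⟩
    obtain ⟨z, hz⟩ := exists_prime_orderOf_dvd_card' _ he.two_dvd
    exact hnoinv z z.2 (by rwa [Subgroup.orderOf_coe])
  -- an involution exchanging the two points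
  obtain ⟨u, hu, hub, huc, huC⟩ := K.exists_swap hc0
  have hu' := inv_eq_self_of_orderOf hu
  have huu := mul_self_eq_one_of_orderOf hu
  have huD : ∀ d ∈ D, u * d * u ∈ D := fun d hd => by
    obtain ⟨hdf, hdc⟩ := mem_twoPt.mp hd
    refine ⟨?_, ?_⟩
    · show (u * d * u) • bp α = bp α
      rw [mul_smul, mul_smul, hub, hdc, huc]
    · show (u * d * u) • c0 = c0
      rw [mul_smul, mul_smul, huc, bp_fixed_iff.mpr hdf, hub]
  have huL : ∀ l ∈ L, u * l * u ∈ L := fun l hl => mem_centralizer_iff.mpr fun d hd => by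
    have h1 := mem_centralizer_iff.mp hl _ (huD d hd)
    calc d * (u * l * u) = (u * u) * d * (u * l * u) := by rw [huu, one_mul]
      _ = u * ((u * d * u) * l) * u := by simp only [mul_assoc]
      _ = u * (l * (u * d * u)) * u := by rw [h1]
      _ = (u * l * u) * d * (u * u) := by simp only [mul_assoc]
      _ = u * l * u * d := by rw [huu, mul_one]
  let O : Set (G ⧸ fx α) := MulAction.orbit L (bp α)
  have hOodd : Odd (Nat.card O) := by
    refine hLodd.of_dvd_nat ?_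
    have e : Nat.card O = Nat.card (L ⧸ MulAction.stabilizer L (bp α)) :=
      Nat.card_congr (MulAction.orbitEquivQuotientStabilizer L (bp α))
    rw [e]
    exact card_quotient_dvd_card _
  have huO : ∀ ω ∈ O, u • ω ∈ O := by
    rintro _ ⟨l, rfl⟩
    refine ⟨⟨u * (l : G) * u * n, L.mul_mem (huL l l.2) hn⟩, ?_⟩
    show (u * (l : G) * u * n) • bp α = u • (l : G) • bp α
    rw [mul_smul, hnc, mul_smul, mul_smul, huc]
  obtain ⟨k, hkL, hkfix⟩ : ∃ k ∈ L, u • (k • bp α) = k • bp α := by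
    haveI : Fintype O := Fintype.ofFinite O
    haveI : Fact (Nat.Prime 2) := ⟨Nat.prime_two⟩
    let f : O → O := fun ω => ⟨u • (ω : G ⧸ fx α), huO _ ω.2⟩
    have hf : Function.Involutive f := fun ω => Subtype.ext (by
      show u • u • (ω : G ⧸ fx α) = ω
      rw [← mul_smul, huu, one_smul])
    obtain ⟨x, hx⟩ := Equiv.Perm.exists_fixed_point_of_prime (σ := hf.toPerm f) (n := 1)
      (by rw [← Nat.card_eq_fintype_card]; exact fun hd => Nat.not_even_iff_odd.mpr hOodd (even_iff_two_dvd.mpr hd))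
      (by rw [pow_one, pow_two]; ext ω; exact congrArg Subtype.val (hf ω))
    obtain ⟨l, hl⟩ := x.2
    refine ⟨l, l.2, ?_⟩
    have h1 : u • (x : G ⧸ fx α) = x := congrArg Subtype.val hx
    rw [← hl] at h1
    exact h1
  set c := k • bp α with hcdef
  have hcb : c ≠ bp α := fun e => huC (mem_fx.mpr (bp_fixed_iff.mp (e ▸ hkfix)))
  have hDc : twoPt α c = D := hmax' c hcb fun d hd => mem_twoPt.mpr ⟨hDf d hd, by
    rw [hcdef, ← mul_smul, mem_centralizer_iff.mp hkL d hd, mul_smul, bp_fixed_iff.mpr (hDf d hd)]⟩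
  -- the normaliser
  set H := Subgroup.normalizer (D : Set G) with hHdef
  have huH : u ∈ H := mem_normalizer_iff.mpr fun d => by
    rw [hu']
    refine ⟨huD d, fun h => ?_⟩
    have := huD _ h
    rwa [show u * (u * d * u) * u = (u * u) * d * (u * u) by simp only [mul_assoc], huu, one_mul, mul_one] at this
  have hkH : k ∈ H := Subgroup.centralizer_le_normalizer _ hkL
  have htH : ∀ {s : G}, IsT α s → s ∈ H := fun {s} hs => by
    obtain ⟨d, hd, he⟩ := K.trans_point hcb hu hkfix (t := k * s * k⁻¹) (by rw [orderOf_conj, hs.1])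
      (by rw [hcdef, mul_smul, mul_smul, inv_smul_smul, bp_fixed_iff.mpr hs.fixed])
    have hdH : d ∈ H := Subgroup.le_normalizer (hDc ▸ hd)
    rw [show s = k⁻¹ * (d * u * d⁻¹) * k by rw [he]; group]
    exact mul_mem (mul_mem (inv_mem hkH) (mul_mem (mul_mem hdH huH) (inv_mem hdH))) hkH
  have hHi : Inv α H := fun x hx => mem_normalizer_iff.mpr fun d => by
    have h1 : ∀ e ∈ D, ∀ y : G, y * e * y⁻¹ ∈ D → α y * e * (α y)⁻¹ = y * e * y⁻¹ := fun e he y hy => by
      have := hDf _ hy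
      rwa [map_mul, map_mul, map_inv, hDf e he] at this
    refine ⟨fun hd => ?_, fun hd => ?_⟩
    · rw [h1 d hd x ((mem_normalizer_iff.mp hx d).mp hd)]
      exact (mem_normalizer_iff.mp hx d).mp hd
    · -- the inverse image is fixed
      set e := α x * d * (α x)⁻¹ with hedef
      have he2 : x⁻¹ * e * x⁻¹⁻¹ ∈ D := (mem_normalizer_iff.mp (H.inv_mem hx) e).mp hd
      have := h1 e hd x⁻¹ he2
      rw [← this] at he2
      rwa [hedef, map_inv, show (α x)⁻¹ * (α x * d * (α x)⁻¹) * (α x)⁻¹⁻¹ = d by group] at he2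
  have hDodd : Odd (Nat.card D) := by
    rw [← Nat.not_even_iff_odd]
    intro he
    haveI : Fact (Nat.Prime 2) := ⟨Nat.prime_two⟩
    obtain ⟨z, hz⟩ := exists_prime_orderOf_dvd_card' _ he.two_dvd
    obtain ⟨h1, h2⟩ := mem_twoPt.mp z.2
    exact hc0 (K.fix_unique (z := (z : G)) (by rwa [Subgroup.orderOf_coe]) h2 (bp_fixed_iff.mpr h1))
  have hHne : H ≠ ⊤ := fun e => by
    haveI : D.Normal := Subgroup.normalizer_eq_top_iff.mp e
    obtain ⟨d, hd, hde⟩ := K.trans_base hc0 ht.1 ht.fixed ht'.1 ht'.fixed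
    rw [K.not_odd_normal hDodd] at hDdef
    rw [← hDdef, mem_bot] at hd
    exact hne (by rw [← hde, hd]; group)
  set u0 := t * t' with hu0
  have hu02 : orderOf u0 = 2 := by
    refine orderOf_eq_two_iff'.mpr ⟨?_, fun e => hne ?_⟩
    · rw [hu0, show t * t' * (t * t') = t * (t' * t) * t' by group, ← htc.eq,
        show t * (t * t') * t' = (t * t) * (t' * t') by group, ht.sq, ht'.sq, one_mul]
    · rw [eq_inv_of_mul_eq_one_right e, inv_eq_self_of_orderOf ht.1]
  have hu0T : IsT α u0 := K.isT_of_fixed hu02 (by rw [hu0, map_mul, ht.fixed, ht'.fixed])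
  have hW : ∀ w ∈ brk α (H : Set G), α w = w := fun w hw =>
    hu0T.2 w (K.commute_pair hHi hHne (htH ht) ht (htH ht') ht' htc hw)
  have hWbot : brk α (H : Set G) = ⊥ := by
    rw [← brk_brk K.pow K.cop hHi, eq_bot_iff]
    exact (closure_le _).mpr fun _ ⟨w, hw, i, e⟩ => by
      rw [e, fx_pow (x := α) (hW w hw) i, inv_mul_cancel]; exact one_mem _
  have h1 := mem_brk (x := α) (P := (H : Set G)) huH 1
  rw [hWbot, mem_bot, pow_one, inv_mul_eq_one] at h1
  exact huC (mem_fx.mpr h1.symm)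

end CfsgLib.CoprimeInvCent
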