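import Cfsg.Agent.Lib.CoprimeInvCent.Setup

/-!
Points, lines and far pairs.
-/

set_option autoImplicit false
set_option linter.unusedSectionVars false
set_option linter.style.haveILetI false

namespace CfsgLib.CoprimeInvCent

open Subgroup CfsgLib.FixGen
open CfsgLib.Involutions (mul_self_eq_one_of_orderOf inv_eq_self_of_orderOf orderOf_conj orderOf_eq_two_iff')
open scoped commutatorElement IsMulCommutative

universe u

variable {G : Type u} [Group G] [Finite G] {p : ℕ} [Fact p.Prime] {α : MulAut G}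

theorem dlt_eq {a b : G} (h : (a : G ⧸ fx α) = b) : α a * a⁻¹ = α b * b⁻¹ := by
  rw [QuotientGroup.eq, mem_fx, map_mul, map_inv] at h
  calc α a * a⁻¹ = α a * (a⁻¹ * b) * b⁻¹ := by group
    _ = α a * ((α a)⁻¹ * α b) * b⁻¹ := by rw [h]
    _ = _ := by group

theorem eq_of_fixed_left {a b : G} (h : α (a⁻¹ * b) = a⁻¹ * b) : (a : G ⧸ fx α) = b := QuotientGroup.eq.mpr h

variable (K : Ctx p α)
include K

/-- The orbit span of `(α w) w⁻¹` is invariant under the special involutions, and contains a representative. -/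
theorem Ctx.line_point {H : Subgroup G} (hH : Inv α H) (hne : H ≠ ⊤) {t : G} (htH : t ∈ H) (ht : IsT α t)
    {w : G} (hw : w ∈ brk α (H : Set G)) :
    Inv (MulAut.conj t) (orb α (α w * w⁻¹)) ∧
      ∃ n ∈ orb α (α w * w⁻¹), (n : G ⧸ fx α) = w := by
  obtain ⟨hti, hpair⟩ := K.pair hH hne htH ht
  set W := brk α (H : Set G)
  set δ := α w * w⁻¹ with hδ
  set B := orb α δ
  have hWi : Inv α W := inv_brk _
  have hBW : B ≤ W := orb_le hWi (W.mul_mem (hWi w hw) (W.inv_mem hw))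
  obtain ⟨⟨v, hvW⟩, hv, hf⟩ := exists_inverted_rep hpair.odd hpair.invol (⟨w, hw⟩ : W)
  have hv' : t * v * t⁻¹ = v⁻¹ := congrArg Subtype.val hv
  have hf' : t * (v⁻¹ * w) * t⁻¹ = v⁻¹ * w := congrArg Subtype.val hf
  have hvw : (v : G ⧸ fx α) = w := eq_of_fixed_left (ht.2 _ (mul_inv_eq_iff_eq_mul.mp hf'))
  have hdv : α v * v⁻¹ = δ := dlt_eq hvw
  have hc : ∀ i : ℕ, (α ^ i) v * v⁻¹ ∈ B := fun i => by
    induction i with
    | zero => simp
    | succ i ih =>
      rw [show (α ^ (i + 1)) v * v⁻¹ = (α ^ i) δ * ((α ^ i) v * v⁻¹) by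
        rw [← hdv, map_mul, map_inv, pow_succ, MulAut.mul_apply]; group]
      exact mul_mem (mem_orb δ i) ih
  have htα : ∀ (i : ℕ) (g : G), t * (α ^ i) g * t⁻¹ = (α ^ i) (t * g * t⁻¹) := fun i g => by
    rw [map_mul, map_mul, map_inv, fx_pow (x := α) ht.fixed i]
  have hmove : ∀ b ∈ B, v * (t * b * t⁻¹) * v⁻¹ ∈ B := fun b hb => by
    have : B ≤ B.comap ((MulAut.conj v * MulAut.conj t).toMonoidHom) := (closure_le _).mpr fun s ⟨i, e⟩ => by
      show v * (t * s * t⁻¹) * v⁻¹ ∈ B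
      subst e
      show v * (t * (α ^ i) δ * t⁻¹) * v⁻¹ ∈ B
      have h1 : t * δ * t⁻¹ = v⁻¹ * δ⁻¹ * v := by
        rw [← hdv, show t * (α v * v⁻¹) * t⁻¹ = t * α v * t⁻¹ * (t * v * t⁻¹)⁻¹ by group]
        have := htα 1 v
        rw [pow_one] at this
        rw [this, hv', map_inv]; group
      rw [htα, h1, map_mul, map_mul, map_inv, map_inv,
        show v * (((α ^ i) v)⁻¹ * ((α ^ i) δ)⁻¹ * (α ^ i) v) * v⁻¹ =
          ((α ^ i) v * v⁻¹)⁻¹ * ((α ^ i) δ)⁻¹ * ((α ^ i) v * v⁻¹) by group]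
      exact mul_mem (mul_mem (inv_mem (hc i)) (inv_mem (mem_orb δ i))) (hc i)
    exact this hb
  obtain ⟨n, hn, hfn⟩ := exists_fixed_coset K.pow K.cop (inv_orb δ) (g := v⁻¹) (by
    rw [inv_inv, map_inv, show v * (α v)⁻¹ = (α v * v⁻¹)⁻¹ by group, hdv]
    exact inv_mem (self_mem_orb δ))
  set c := n⁻¹ * v with hcdef
  have hcf : α c = c := by
    have := (fx α).inv_mem hfn
    rwa [mul_inv_rev, inv_inv] at this
  have hvc : v = n * c := by rw [hcdef]; group
  have hcW : c ∈ W := W.mul_mem (W.inv_mem (hBW hn)) hvW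
  have htc : Commute t c := K.commute_fixed hH hne htH ht hcW hcf
  have h1 : ∀ b ∈ B, c * (t * b * t⁻¹) * c⁻¹ ∈ B := fun b hb => by
    rw [show c * (t * b * t⁻¹) * c⁻¹ = n⁻¹ * (v * (t * b * t⁻¹) * v⁻¹) * n by rw [hvc]; group]
    exact mul_mem (mul_mem (inv_mem hn) (hmove b hb)) hn
  have h2 : ∀ b ∈ B, (c * c) * b * (c * c)⁻¹ ∈ B := fun b hb => by
    have := h1 _ (h1 b hb)
    rw [show c * (t * (c * (t * b * t⁻¹) * c⁻¹) * t⁻¹) * c⁻¹ = c * (t * c) * t * b * (c * (t * c) * t)⁻¹ by group,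
      htc.eq, show c * (c * t) * t = c * c * (t * t) by group, ht.sq, mul_one] at this
    exact this
  have h3 : ∀ (j : ℕ), ∀ b ∈ B, (c * c) ^ j * b * ((c * c) ^ j)⁻¹ ∈ B := by
    intro j
    induction j with
    | zero => intro b hb; simpa using hb
    | succ j ih =>
      intro b hb
      rw [pow_succ', show c * c * (c * c) ^ j * b * (c * c * (c * c) ^ j)⁻¹
        = c * c * ((c * c) ^ j * b * ((c * c) ^ j)⁻¹) * (c * c)⁻¹ by simp only [mul_inv_rev, mul_assoc]]
      exact h2 _ (ih b hb)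
  obtain ⟨k, hk⟩ := hpair.odd
  have hck : (c * c) ^ k = c⁻¹ := by
    have h4 : (⟨c, hcW⟩ : W) ^ (2 * k + 1) = 1 := by rw [← hk]; exact pow_card_eq_one'
    have h5 : c ^ (2 * k + 1) = 1 := congrArg Subtype.val h4
    rw [← pow_two, ← pow_mul, eq_inv_iff_mul_eq_one, ← pow_succ]
    exact h5
  refine ⟨fun b hb => ?_, n, hn, ?_⟩
  · have h4 := h3 k _ (h1 b hb)
    rw [hck] at h4
    show t * b * t⁻¹ ∈ B
    rwa [show c⁻¹ * (c * (t * b * t⁻¹) * c⁻¹) * c⁻¹⁻¹ = t * b * t⁻¹ by group] at h4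
  · rw [← hvw, QuotientGroup.eq]
    exact hcf

/-- A point fixed by an involution has a representative in the bracket of the centraliser. -/
theorem Ctx.point_in {e : G} (he : α e = e) {ω : G ⧸ fx α} (h : e • ω = ω) :
    ∃ w ∈ brk α (centralizer ({e} : Set G) : Set G), (w : G ⧸ fx α) = ω := by
  induction ω using QuotientGroup.induction_on with
  | _ g =>
    obtain ⟨k, hk, hkf⟩ := K.fusion he (fixes_iff.mp h)
    obtain ⟨f, hfH, b, hb, hff, rfl⟩ := exists_fixed_mul K.pow K.cop (inv_centralizer he) (mem_cent.mpr hk)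
    refine ⟨f * b * f⁻¹, ?_, (eq_of_fixed_left ?_).trans (eq_of_fixed_left hkf)⟩
    · have := brk_conj (inv_centralizer he) (inv_mem hfH) hb
      rwa [inv_inv] at this
    · rw [show (f * b * f⁻¹)⁻¹ * (f * b) = f by group]
      exact hff

/-- If witnesses commuting with two commuting special involutions fix a point then so does their product. -/
theorem Ctx.line_meet {t t' : G} (ht : IsT α t) (ht' : IsT α t') (hc : Commute t t')
    {e e' : G} (he : orderOf e = 2) (he' : orderOf e' = 2) (h1 : Commute e t) (h2 : Commute e' t')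
    {ω : G ⧸ fx α} (hω : e • ω = ω) (hω' : e' • ω = ω) : (t * t') • ω = ω := by
  have hef : α e = e := ht.2 e h1.symm
  have hef' : α e' = e' := ht'.2 e' h2.symm
  obtain ⟨w, hw, hwω⟩ := K.point_in hef hω
  obtain ⟨w', hw', hwω'⟩ := K.point_in hef' hω'
  have htH : t ∈ centralizer ({e} : Set G) := mem_cent.mpr h1.symm
  obtain ⟨hi, n, hn, hnω⟩ := K.line_point (inv_centralizer hef) (K.cent_ne_top he hef) htH ht hw
  obtain ⟨hi', -⟩ := K.line_point (inv_centralizer hef') (K.cent_ne_top he' hef') (mem_cent.mpr h2.symm) ht' hw'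
  have hd : α w' * w'⁻¹ = α w * w⁻¹ := dlt_eq (hwω'.trans hwω.symm)
  rw [hd] at hi'
  have hodd := K.ih _ (inv_centralizer hef) (K.cent_ne_top he hef) ⟨t, htH, ht⟩
  set δ := α w * w⁻¹ with hδ
  set B := orb α δ with hB
  have hBW : B ≤ brk α (centralizer ({e} : Set G) : Set G) :=
    orb_le (inv_brk _) (mul_mem (inv_brk _ w hw) (inv_mem hw))
  have hBodd : Odd (Nat.card B) := hodd.of_dvd_nat (Subgroup.card_dvd_of_le hBW)
  have hgen : brk (res (inv_orb (x := α) δ)) ((⊤ : Subgroup B) : Set B) = ⊤ := by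
    apply Subgroup.map_injective B.subtype_injective
    rw [brk_res, ← MonoidHom.range_eq_map, Subgroup.range_subtype]
    refine le_antisymm (brk_le_self (inv_orb δ)) (orb_le (inv_brk _) ?_)
    have hm := mem_brk (x := α) (P := (B : Set G)) (B.inv_mem hn) 1
    rw [pow_one, inv_inv, map_inv] at hm
    have he2 : δ = (n * (α n)⁻¹)⁻¹ := by rw [mul_inv_rev, inv_inv, hδ, dlt_eq hnω]
    rw [he2]
    exact inv_mem hm
  have hpair : ∀ {s : G}, IsT α s → ∀ hs : Inv (MulAut.conj s) B,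
      OddPair p (res (inv_orb (x := α) δ)) (res hs) := fun {s} hs hsi =>
    ⟨hBodd, K.cop.coprime_dvd_left (card_subgroup_dvd_card _), res_pow_prime K.pow _,
      fun d => Subtype.ext (by
        show s * (s * (d : G) * s⁻¹) * s⁻¹ = d
        rw [show s * (s * (d : G) * s⁻¹) * s⁻¹ = (s * s) * d * (s * s)⁻¹ by group, hs.sq, one_mul, inv_one, mul_one]),
      fun d => Subtype.ext (by
        show s * α (d : G) * s⁻¹ = α (s * d * s⁻¹)
        rw [map_mul, map_mul, map_inv, hs.fixed]),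
      fun d hd => Subtype.ext (hs.2 _ (mul_inv_eq_iff_eq_mul.mp (congrArg Subtype.val hd))), hgen⟩
  have h3 := (hpair ht hi).mul_eq_one (hpair ht' hi') K.hp2 (fun d => Subtype.ext (by
    show t * (t' * (d : G) * t'⁻¹) * t⁻¹ = t' * (t * d * t⁻¹) * t'⁻¹
    rw [show t * (t' * (d : G) * t'⁻¹) * t⁻¹ = (t * t') * d * (t * t')⁻¹ by group, hc.eq]; group)) ⟨n, hn⟩
  have h4 : t * (t' * n * t'⁻¹) * t⁻¹ = n := congrArg Subtype.val h3
  have h5 : t * t' * n = n * (t * t') := by
    rw [show t * (t' * n * t'⁻¹) * t⁻¹ = (t * t') * n * (t * t')⁻¹ by group] at h4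
    exact mul_inv_eq_iff_eq_mul.mp h4
  rw [← hwω, ← hnω]
  refine fixes_iff.mpr ?_
  rw [mul_assoc n⁻¹, h5, inv_mul_cancel_left, map_mul, ht.fixed, ht'.fixed]

theorem Ctx.exists_moved {t u : G} (ht : IsT α t) (hu : orderOf u = 2) (hc : Commute t u) :
    ∃ ω : G ⧸ fx α, u • ω ≠ ω := by
  by_contra hall
  push Not at hall
  have huf : α u = u := ht.2 u hc
  have hN : u ∈ (fx α).normalCore := fun b => by
    have h1 := fixes_iff.mp (hall ((b⁻¹ : G) : G ⧸ fx α))
    rw [inv_inv] at h1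
    exact h1
  set H := centralizer ({u} : Set G) with hHdef
  have hle : brk α ((⊤ : Subgroup G) : Set G) ≤ H := fun g hg =>
    mem_cent.mpr (commute_brk (N := (fx α).normalCore) (fun n hn => mem_fx.mp ((fx α).normalCore_le hn)) hN hg).symm
  have hodd := K.ih H (inv_centralizer huf) (K.cent_ne_top hu huf) ⟨t, mem_cent.mpr hc, ht⟩
  haveI := brk_normal (x := α)
  refine K.brk_top_ne (K.not_odd_normal (hodd.of_dvd_nat (Subgroup.card_dvd_of_le ?_)))
  calc brk α ((⊤ : Subgroup G) : Set G) = brk α (brk α ((⊤ : Subgroup G) : Set G) : Set G) :=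
        (brk_brk K.pow K.cop Inv.top).symm
    _ ≤ brk α (H : Set G) := brk_mono hle

omit K in
/-- Two points with no common fixing involution. -/
def Far (α : MulAut G) (a b : G ⧸ fx α) : Prop := a ≠ b ∧ ¬ Adj α a b

theorem Ctx.exists_far : ∃ a b, Far α a b := by
  obtain ⟨t, ht⟩ := K.exT
  obtain ⟨t', ht', hne, hc⟩ := K.exists_partner ht
  have hu : orderOf (t * t') = 2 := by
    refine orderOf_eq_two_iff'.mpr ⟨?_, fun e => hne ?_⟩
    · rw [show t * t' * (t * t') = t * (t' * t) * t' by group, ← hc.eq, show t * (t * t') * t' = (t * t) * (t' * t') by group,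
        ht.sq, ht'.sq, one_mul]
    · rw [eq_inv_of_mul_eq_one_right e, inv_eq_self_of_orderOf ht.1]
  have huf : α (t * t') = t * t' := by rw [map_mul, ht.fixed, ht'.fixed]
  obtain ⟨ω, hω⟩ := K.exists_moved ht hu ((Commute.refl t).mul_right hc)
  have hmv : ∀ {s : G}, IsT α s → ω ≠ s • ω := fun {s} hs e => hω (by
    induction ω using QuotientGroup.induction_on with
    | _ g => rw [K.eq_base_of_T hs e.symm]; exact fixes_base.mpr huf)
  by_contra hnf
  push Not at hnf
  have hadj : ∀ {a b}, a ≠ b → Adj α a b := fun {a b} h => by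
    by_contra h1
    exact hnf a b ⟨h, h1⟩
  obtain ⟨e, he, hec, hee⟩ := exists_commuting_witness ht.1 (hadj (hmv ht))
  obtain ⟨e', he', hec', hee'⟩ := exists_commuting_witness ht'.1 (hadj (hmv ht'))
  exact hω (K.line_meet ht ht' hc he he' hec hec' hee hee')

/-! ### Far pairs -/

omit K in
theorem exists_tat {t : G} (ht : IsT α t) (ω : G ⧸ fx α) : ∃ y, IsTat α ω y := by
  induction ω using QuotientGroup.induction_on with
  | _ g =>
    refine ⟨g * t * g⁻¹, g, rfl, ?_⟩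
    rwa [show g⁻¹ * (g * t * g⁻¹) * g = t by group]

omit K in
theorem IsTat.isConj {ω : G ⧸ fx α} {y : G} (h : IsTat α ω y) : ∃ t, IsT α t ∧ IsConj t y := by
  obtain ⟨k, -, hy⟩ := h
  exact ⟨_, hy, isConj_iff.mpr ⟨k, by group⟩⟩

theorem Ctx.odd_of_far {a b : G ⧸ fx α} (hf : Far α a b) {x y : G} (hx : IsTat α a x) (hy : IsTat α b y) :
    Odd (orderOf (x * y)) := by
  rw [← Nat.not_even_iff_odd]
  intro he
  obtain ⟨c1, c2⟩ := Involutions.central_half (mul_self_eq_one_of_orderOf hx.order) (mul_self_eq_one_of_orderOf hy.order) he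
  exact hf.2 ⟨hf.1, _, Involutions.orderOf_half he, K.fixes_of_commute hx c1.symm, K.fixes_of_commute hy c2.symm⟩

theorem Ctx.all_isConj {t s : G} (ht : IsT α t) (hs : IsT α s) : IsConj t s := by
  obtain ⟨a, b, hf⟩ := K.exists_far
  induction a using QuotientGroup.induction_on with
  | _ g =>
    induction b using QuotientGroup.induction_on with
    | _ h =>
      have hx : IsTat α (g : G ⧸ fx α) (g * t * g⁻¹) :=
        ⟨g, rfl, by rwa [show g⁻¹ * (g * t * g⁻¹) * g = t by group]⟩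
      have hy : IsTat α (h : G ⧸ fx α) (h * s * h⁻¹) :=
        ⟨h, rfl, by rwa [show h⁻¹ * (h * s * h⁻¹) * h = s by group]⟩
      obtain ⟨d, -, hd⟩ := Involutions.exists_conj_eq_of_odd (mul_self_eq_one_of_orderOf hx.order)
        (mul_self_eq_one_of_orderOf hy.order) (K.odd_of_far hf hx hy)
      exact isConj_iff.mpr ⟨h⁻¹ * d * g, by
        calc h⁻¹ * d * g * t * (h⁻¹ * d * g)⁻¹ = h⁻¹ * (d * (g * t * g⁻¹) * d⁻¹) * h := by group
          _ = h⁻¹ * (h * s * h⁻¹) * h := by rw [hd]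
          _ = s := by group⟩

theorem Ctx.mid {a b : G ⧸ fx α} (hf : Far α a b) {x y : G} (hx : IsTat α a x) (hy : IsTat α b y) :
    ∃ r : G, orderOf r = 2 ∧ r • a = b ∧ r * x * r⁻¹ = y ∧ r ∈ closure ({x, y} : Set G) ∧ IsConj x r := by
  have hx' := mul_self_eq_one_of_orderOf hx.order
  have hy' := mul_self_eq_one_of_orderOf hy.order
  have hodd := K.odd_of_far hf hx hy
  have hne : x ≠ y := fun e => hf.1 (K.centre_unique (e ▸ hy : IsTat α b x) (K.fixes_centre hx))
  have hxm : x ∈ closure ({x, y} : Set G) := subset_closure (Or.inl rfl)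
  obtain ⟨d, hd, he⟩ := Involutions.exists_conj_eq_of_odd hx' hy' hodd
  have hfin : ∀ (r : G) (k : ℤ), r * r = 1 → r * x * r⁻¹ = y → r ∈ closure ({x, y} : Set G) →
      (x * r = (x * y) ^ k) → ∃ r : G, orderOf r = 2 ∧ r • a = b ∧ r * x * r⁻¹ = y ∧
        r ∈ closure ({x, y} : Set G) ∧ IsConj x r := fun r k hr he' hm hk => by
    refine ⟨r, orderOf_eq_two_iff'.mpr ⟨hr, fun e => hne (by rw [← he', e]; group)⟩, ?_, he', hm, ?_⟩
    · have h1 := hx.smul r
      rw [he'] at h1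
      exact (K.centre_unique h1 (K.fixes_centre hy)).symm
    · obtain ⟨c, -, hc⟩ := Involutions.exists_conj_eq_of_odd hx' hr
        (hodd.of_dvd_nat (hk ▸ orderOf_dvd_of_mem_zpowers (zpow_mem_zpowers (x * y) k)))
      exact isConj_iff.mpr ⟨c, hc⟩
  obtain ⟨k, h | h⟩ := Involutions.mem_closure_pair hx' hy' hd
  · refine hfin (d * x) (-k) ?_ ?_ (mul_mem hd hxm) ?_
    · rw [h, show (x * y) ^ k * x * ((x * y) ^ k * x) = (x * y) ^ k * (x * (x * y) ^ k * x⁻¹) by
        rw [inv_eq_of_mul_eq_one_right hx']; group, Involutions.conj_zpow_eq_inv hx' hy' k, ← zpow_add, add_neg_cancel, zpow_zero]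
    · rw [mul_inv_rev, ← he]; group
    · rw [h, ← Involutions.conj_zpow_eq_inv hx' hy' k, inv_eq_of_mul_eq_one_right hx', mul_assoc]
  · refine hfin d k ?_ he hd ?_
    · rw [h, show x * (x * y) ^ k * (x * (x * y) ^ k) = x * (x * y) ^ k * x⁻¹ * (x * y) ^ k by
        rw [inv_eq_of_mul_eq_one_right hx']; group, Involutions.conj_zpow_eq_inv hx' hy' k, ← zpow_add, neg_add_cancel, zpow_zero]
    · rw [h, ← mul_assoc, hx', one_mul]

theorem Ctx.swap_unique {a b : G ⧸ fx α} (hf : Far α a b) {x z : G} (hx : IsTat α a x) (hz : IsTat α b z)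
    {y0 y : G} (hy0 : orderOf y0 = 2) (hm : y0 ∈ closure ({x, z} : Set G))
    (he0 : y0 * x * y0⁻¹ = z) (hy : orderOf y = 2) (he : y * x * y⁻¹ = z) : y = y0 := by
  have h0' := inv_eq_self_of_orderOf hy0
  have hy' := inv_eq_self_of_orderOf hy
  have hyy := mul_self_eq_one_of_orderOf hy
  have h00 := mul_self_eq_one_of_orderOf hy0
  set d := y0 * y with hd
  have hdx : Commute d x := by
    refine mul_inv_eq_iff_eq_mul.mp ?_
    rw [hd, show y0 * y * x * (y0 * y)⁻¹ = y0 * (y * x * y⁻¹) * y0⁻¹ by group, he, ← he0,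
      show y0 * (y0 * x * y0⁻¹) * y0⁻¹ = (y0 * y0) * x * (y0 * y0)⁻¹ by group, h00, one_mul, inv_one, mul_one]
  have hdz : Commute d z := by
    refine mul_inv_eq_iff_eq_mul.mp ?_
    rw [hd, show y0 * y * z * (y0 * y)⁻¹ = y0 * (y * z * y⁻¹) * y0⁻¹ by group]
    nth_rewrite 1 [← he]
    rw [show y * (y * x * y⁻¹) * y⁻¹ = (y * y) * x * (y * y)⁻¹ by group, hyy, one_mul, inv_one, mul_one, he0]
  have hdy : Commute d y0 := by
    have hle : closure ({x, z} : Set G) ≤ centralizer ({d} : Set G) := (closure_le _).mpr (by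
      rintro s (rfl | rfl)
      · exact mem_cent.mpr hdx.symm
      · exact mem_cent.mpr hdz.symm)
    exact (mem_cent.mp (hle hm)).symm
  have hd1 : d * d = 1 := by
    have hyd : y = y0 * d := by rw [hd, ← mul_assoc, h00, one_mul]
    calc d * d = y0 * (y0 * d) * d := by rw [← mul_assoc y0, h00, one_mul]
      _ = y0 * (d * y0) * d := by rw [hdy.eq]
      _ = (y0 * d) * (y0 * d) := by group
      _ = 1 := by rw [← hyd, hyy]
  by_cases hd0 : d = 1
  · rw [hd] at hd0
    rw [← h0', eq_inv_of_mul_eq_one_right hd0]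
  exact absurd ⟨hf.1, d, orderOf_eq_two_iff'.mpr ⟨hd1, hd0⟩,
    K.fixes_of_commute hx hdx.symm, K.fixes_of_commute hz hdz.symm⟩ hf.2

/-- For a far pair the exchanging involutions correspond to the special involutions at one of the points. -/
theorem Ctx.card_swap {a b : G ⧸ fx α} (hf : Far α a b) :
    Nat.card {y : G // orderOf y = 2 ∧ y • a = b} = Nat.card {y : G // IsTat α b y} := by
  obtain ⟨t, ht⟩ := K.exT
  obtain ⟨x, hx⟩ := exists_tat ht a
  let f : {y : G // orderOf y = 2 ∧ y • a = b} → {y : G // IsTat α b y} := fun y =>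
    ⟨(y : G) * x * (y : G)⁻¹, by
      have := hx.smul (y : G)
      rwa [y.2.2] at this⟩
  refine Nat.card_eq_of_bijective f ⟨fun y y' e => ?_, fun z => ?_⟩
  · have e' : (y : G) * x * (y : G)⁻¹ = (y' : G) * x * (y' : G)⁻¹ := congrArg Subtype.val e
    obtain ⟨r, h1, h2, h3, h4, -⟩ := K.mid hf hx (f y).2
    exact Subtype.ext ((K.swap_unique hf hx (f y).2 h1 h4 h3 y.2.1 rfl).trans
      (K.swap_unique hf hx (f y).2 h1 h4 h3 y'.2.1 e'.symm).symm)
  · obtain ⟨r, h1, h2, h3, -, -⟩ := K.mid hf hx z.2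
    exact ⟨⟨r, h1, h2⟩, Subtype.ext h3⟩

/-- An involution exchanging a far pair is a conjugate of a special one. -/
theorem Ctx.swap_tat {a b : G ⧸ fx α} (hf : Far α a b) {y : G} (hy : orderOf y = 2) (hab : y • a = b) :
    ∃ ω, IsTat α ω y := by
  obtain ⟨t, ht⟩ := K.exT
  obtain ⟨x, hx⟩ := exists_tat ht a
  have hz : IsTat α b (y * x * y⁻¹) := hab ▸ hx.smul y
  obtain ⟨r, h1, h2, h3, h4, h5⟩ := K.mid hf hx hz
  rw [K.swap_unique hf hx hz h1 h4 h3 hy rfl]
  obtain ⟨g, hg⟩ := isConj_iff.mp h5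
  exact ⟨_, hg ▸ hx.smul g⟩

end CfsgLib.CoprimeInvCent
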