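import Cfsg.Agent.Lib.CoprimeInvCent.Endgame
import Mathlib.GroupTheory.SchurZassenhaus

/-!
A coprime automorphism of prime order that fixes the centraliser of an involution acts trivially modulo the odd core.
-/

set_option autoImplicit false
set_option linter.unusedSectionVars false
set_option linter.style.haveILetI false

namespace CfsgLib.CoprimeInvCent

open Subgroup CfsgLib.FixGen
open CfsgLib.Involutions (mul_self_eq_one_of_orderOf orderOf_eq_two_iff')
open scoped commutatorElement IsMulCommutative

universe u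

variable {p : ℕ} [Fact p.Prime]

theorem fixed_of_diff_coprime {G : Type u} [Group G] [Finite G] {α : MulAut G} (hα : α ^ p = 1)
    (hcop : (Nat.card G).Coprime p) {g : G} (h : α (g⁻¹ * α g) = g⁻¹ * α g) : α g = g := by
  set d := g⁻¹ * α g with hd
  have hi : ∀ i : ℕ, (α ^ i) g = g * d ^ i := fun i => by
    induction i with
    | zero => simp
    | succ i ih => rw [← pow_apply_comm, ih, map_mul, map_pow, h, show α g = g * d by rw [hd]; group, mul_assoc, ← pow_succ']
  have h1 := hi p
  rw [hα, MulAut.one_apply, left_eq_mul] at h1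
  have h2 : d = 1 := mem_bot.mp (mem_of_pow (p := p) (S := (⊥ : Subgroup G)) hcop (v := d) (mem_bot.mpr h1))
  rw [hd, inv_mul_eq_one] at h2
  exact h2.symm

theorem main_aux : ∀ (n : ℕ) (G : Type u) [Group G] [Finite G], Nat.card G = n → ∀ α : MulAut G, α ^ p = 1 →
    (Nat.card G).Coprime p → (∃ t, IsT α t) →
      brk α ((⊤ : Subgroup G) : Set G) ≤ Cfsg.pPrimeCore 2 G := by
  intro n
  induction n using Nat.strong_induction_on with
  | _ n ih =>
  intro G _ _ hn α hα hcop hT
  subst hn
  classical
  obtain ⟨t, ht⟩ := hT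
  have hp2 : p ≠ 2 := by
    intro e
    have h1 : 2 ∣ Nat.card G := ht.1 ▸ orderOf_dvd_natCard t
    rw [e] at hcop
    exact absurd (hcop ▸ Nat.dvd_gcd h1 dvd_rfl) (by norm_num)
  set O := Cfsg.pPrimeCore 2 G with hOdef
  have hOodd : Odd (Nat.card O) := CfsgLib.odd_card_oddCore
  have hiO : Inv α O := fun g hg => (CfsgLib.pPrimeCore_map_equiv 2 α).le ⟨g, hg, rfl⟩
  by_cases hO : O ≠ ⊥
  · -- divide by the odd core
    let Q := G ⧸ O
    let β : MulAut Q := QuotientGroup.congr O O α hiO.map_eq
    have hβ : ∀ g : G, β (g : Q) = ((α g : G) : Q) := fun _ => rfl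
    have hβi : ∀ (i : ℕ) (g : G), (β ^ i) (g : Q) = (((α ^ i) g : G) : Q) := by
      intro i
      induction i with
      | zero => intro g; rfl
      | succ i ih => intro g; rw [← pow_apply_comm, ih, hβ, pow_apply_comm]
    have hβp : β ^ p = 1 := by
      ext q
      induction q using QuotientGroup.induction_on with
      | _ g => rw [hβi, hα]; rfl
    have htO : t ∉ O := fun h => by
      have := (Subgroup.orderOf_dvd_natCard O h)
      rw [ht.1] at this
      exact Nat.not_even_iff_odd.mpr hOodd (even_iff_two_dvd.mpr this)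
    have hTQ : IsT β (t : Q) := by
      refine ⟨orderOf_eq_two_iff'.mpr ⟨?_, fun e => htO ((QuotientGroup.eq_one_iff t).mp e)⟩, fun q hq => ?_⟩
      · rw [← QuotientGroup.mk_mul, ht.sq]; rfl
      · induction q using QuotientGroup.induction_on with
        | _ g =>
          set d := g⁻¹ * (t * g * t⁻¹) with hd
          have hdO : d ∈ O := by
            have h1 : ((t * g : G) : Q) = ((g * t : G) : Q) := hq.eq
            rw [QuotientGroup.eq] at h1
            have h2 := (inferInstance : O.Normal).conj_mem _ (O.inv_mem h1) t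
            rwa [show t * ((t * g)⁻¹ * (g * t))⁻¹ * t⁻¹ = g⁻¹ * (t * g * t⁻¹) * 1 by group, mul_one, ← hd] at h2
          obtain ⟨k, hk⟩ := hOodd
          set w := d ^ (k + 1) with hw
          have hw2 : w * w = d := by
            have h1 : (⟨d, hdO⟩ : O) ^ (2 * k + 1) = 1 := by rw [← hk]; exact pow_card_eq_one'
            have h2 : d ^ (2 * k + 1) = 1 := congrArg Subtype.val h1
            rw [hw, ← pow_add, show k + 1 + (k + 1) = 2 * k + 1 + 1 by omega, pow_succ, h2, one_mul]
          have hdinv : t * d * t⁻¹ = d⁻¹ := by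
            rw [hd, show t * (g⁻¹ * (t * g * t⁻¹)) * t⁻¹ = t * g⁻¹ * t⁻¹ * ((t * t) * g * (t * t)⁻¹) by group, ht.sq]
            group
          have hwinv : t * w * t⁻¹ = w⁻¹ := by rw [hw, ← conj_pow, hdinv, inv_pow]
          have hfix : Commute t (g * w) := mul_inv_eq_iff_eq_mul.mp (by
            rw [show t * (g * w) * t⁻¹ = g * (g⁻¹ * (t * g * t⁻¹)) * (t * w * t⁻¹) by group, ← hd, hwinv, ← hw2]
            group)
          rw [← QuotientGroup.mk_mul_of_mem g (O.pow_mem hdO (k + 1)), hβ, ← hw, ht.2 _ hfix]
    have hlt : Nat.card Q < Nat.card G := by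
      haveI : Nontrivial O := (Subgroup.nontrivial_iff_ne_bot O).mpr hO
      rw [card_eq_card_quotient_mul_card_subgroup O]
      exact lt_mul_of_one_lt_right Nat.card_pos Finite.one_lt_card
    have h1 := ih _ hlt Q rfl β hβp (hcop.coprime_dvd_left (card_quotient_dvd_card O)) ⟨_, hTQ⟩
    -- the core of the quotient is trivial
    have hQ : Cfsg.pPrimeCore 2 Q = ⊥ := by
      let f : G →* Q := QuotientGroup.mk' O
      set R := (Cfsg.pPrimeCore 2 Q).comap f with hR
      let φ : R →* Cfsg.pPrimeCore 2 Q := MonoidHom.subgroupComap f _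
      have hker : φ.ker = O.subgroupOf R := by
        ext r
        rw [MonoidHom.mem_ker, Subgroup.mem_subgroupOf]
        exact Subtype.ext_iff.trans (QuotientGroup.eq_one_iff (r : G))
      have hle : O ≤ R := fun x hx => by
        show f x ∈ Cfsg.pPrimeCore 2 Q
        rw [show f x = 1 from (QuotientGroup.eq_one_iff x).mpr hx]
        exact one_mem _
      have hodd : Odd (Nat.card R) := by
        rw [card_eq_card_quotient_mul_card_subgroup (φ.ker)]
        refine Odd.mul (Odd.of_dvd_nat (CfsgLib.odd_card_oddCore (G := Q)) ?_) ?_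
        · rw [← Subgroup.index, Subgroup.index_ker]; exact card_subgroup_dvd_card _
        · rw [hker, Nat.card_congr (Subgroup.subgroupOfEquivOfLe hle).toEquiv]; exact hOodd
      haveI : R.Normal := Subgroup.Normal.comap inferInstance f
      have hRO : R ≤ O := CfsgLib.le_oddCore hodd
      refine eq_bot_iff.mpr fun q hq => ?_
      induction q using QuotientGroup.induction_on with
      | _ g => exact mem_bot.mpr ((QuotientGroup.eq_one_iff g).mpr (hRO hq))
    rw [hQ] at h1
    refine (closure_le _).mpr fun _ ⟨g, _, i, e⟩ => ?_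
    have h2 := h1 (mem_brk (P := ((⊤ : Subgroup Q) : Set Q)) (mem_top (g : Q)) i)
    rw [mem_bot, hβi, ← QuotientGroup.mk_inv, ← QuotientGroup.mk_mul, QuotientGroup.eq_one_iff] at h2
    exact e ▸ h2
  push Not at hO
  by_cases hα1 : α = 1
  · refine (closure_le _).mpr fun _ ⟨g, _, i, e⟩ => ?_
    rw [e, hα1, one_pow, MulAut.one_apply, inv_mul_cancel]
    exact one_mem _
  by_cases hz : ∃ z : G, orderOf z = 2 ∧ α z = z ∧ ∀ g, Commute z g
  · obtain ⟨z, hz2, hzf, hzc⟩ := hz
    set N := zpowers z with hN
    have hzz := mul_self_eq_one_of_orderOf hz2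
    have hmemN : ∀ x ∈ N, x = 1 ∨ x = z := by
      rintro _ ⟨j, rfl⟩
      show z ^ j = 1 ∨ z ^ j = z
      rcases Int.even_or_odd' j with ⟨a, rfl | rfl⟩
      · exact Or.inl (by rw [zpow_mul, zpow_two, hzz, one_zpow])
      · exact Or.inr (by rw [zpow_add_one, zpow_mul, zpow_two, hzz, one_zpow, one_mul])
    haveI hNn : N.Normal := ⟨fun x hx g => by
      rcases hmemN x hx with rfl | rfl
      · simp
      · rw [← (hzc g).eq, mul_inv_cancel_right]; exact hx⟩
    have hiN : Inv α N := fun x hx => by
      rcases hmemN x hx with rfl | rfl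
      · rw [map_one]; exact one_mem _
      · rw [hzf]; exact hx
    let Q := G ⧸ N
    let β : MulAut Q := QuotientGroup.congr N N α hiN.map_eq
    have hβ : ∀ g : G, β (g : Q) = ((α g : G) : Q) := fun _ => rfl
    have hβi : ∀ (i : ℕ) (g : G), (β ^ i) (g : Q) = (((α ^ i) g : G) : Q) := by
      intro i
      induction i with
      | zero => intro g; rfl
      | succ i ih => intro g; rw [← pow_apply_comm, ih, hβ, pow_apply_comm]
    have hβp : β ^ p = 1 := by
      ext q
      induction q using QuotientGroup.induction_on with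
      | _ g => rw [hβi, hα]; rfl
    have htN : t ∉ N := fun h => by
      rcases hmemN t h with e | e
      · have := ht.1; rw [e, orderOf_one] at this; exact absurd this (by norm_num)
      · exact hα1 (MulEquiv.ext fun g => ht.2 g (e ▸ hzc g))
    have hTQ : IsT β (t : Q) := by
      refine ⟨orderOf_eq_two_iff'.mpr ⟨?_, fun e => htN ((QuotientGroup.eq_one_iff t).mp e)⟩, fun q hq => ?_⟩
      · rw [← QuotientGroup.mk_mul, ht.sq]; rfl
      · induction q using QuotientGroup.induction_on with
        | _ g =>
          have h1 : ((g * t : G) : Q) = ((t * g : G) : Q) := hq.symm.eq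
          rw [QuotientGroup.eq] at h1
          rw [hβ]
          refine congrArg _ ?_
          rcases hmemN _ h1 with e | e
          · exact ht.2 g (inv_mul_eq_one.mp e).symm
          · have hg : t * g = g * t * z := by rw [← e]; group
            refine fixed_of_diff_coprime hα hcop (ht.2 _ ?_)
            have hg' : t * α g = α g * t * z := by
              have := congrArg α hg
              rwa [map_mul, map_mul, map_mul, ht.fixed, hzf] at this
            show t * (g⁻¹ * α g) = g⁻¹ * α g * t
            have h3 : t * g⁻¹ = z * g⁻¹ * t := by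
              calc t * g⁻¹ = g⁻¹ * (g * t * z) * z⁻¹ * g⁻¹ := by group
                _ = g⁻¹ * (t * g) * z⁻¹ * g⁻¹ := by rw [hg]
                _ = g⁻¹ * t * (g * z⁻¹) * g⁻¹ := by group
                _ = g⁻¹ * t * (z⁻¹ * g) * g⁻¹ := by rw [(hzc g).inv_left.eq]
                _ = (g⁻¹ * t) * z⁻¹ := by group
                _ = z⁻¹ * (g⁻¹ * t) := ((hzc _).inv_left.eq).symm
                _ = z * g⁻¹ * t := by rw [inv_eq_of_mul_eq_one_right hzz, mul_assoc]
            calc t * (g⁻¹ * α g) = z * g⁻¹ * t * α g := by rw [← mul_assoc, h3]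
              _ = z * g⁻¹ * (t * α g) := by rw [mul_assoc]
              _ = z * g⁻¹ * (α g * t * z) := by rw [hg']
              _ = z * (g⁻¹ * α g * t) * z := by group
              _ = (g⁻¹ * α g * t) * (z * z) := by rw [(hzc _).eq, mul_assoc]
              _ = _ := by rw [hzz, mul_one]
    haveI hNnt : Nontrivial N := ⟨⟨z, mem_zpowers z⟩, 1, fun e => by
      rw [show z = 1 from congrArg Subtype.val e, orderOf_one] at hz2
      exact absurd hz2 (by norm_num)⟩
    have hlt : Nat.card Q < Nat.card G := by
      rw [card_eq_card_quotient_mul_card_subgroup N]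
      exact lt_mul_of_one_lt_right Nat.card_pos Finite.one_lt_card
    have h1 := ih _ hlt Q rfl β hβp (hcop.coprime_dvd_left (card_quotient_dvd_card N)) ⟨_, hTQ⟩
    -- the core of the quotient is trivial
    have hQ : Cfsg.pPrimeCore 2 Q = ⊥ := by
      let f : G →* Q := QuotientGroup.mk' N
      set R := (Cfsg.pPrimeCore 2 Q).comap f with hR
      let φ : R →* Cfsg.pPrimeCore 2 Q := MonoidHom.subgroupComap f _
      have hker : φ.ker = N.subgroupOf R := by
        ext r
        rw [MonoidHom.mem_ker, Subgroup.mem_subgroupOf]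
        exact Subtype.ext_iff.trans (QuotientGroup.eq_one_iff (r : G))
      have hle : N ≤ R := fun x hx => by
        show f x ∈ Cfsg.pPrimeCore 2 Q
        rw [show f x = 1 from (QuotientGroup.eq_one_iff x).mpr hx]
        exact one_mem _
      have hindex : Odd φ.ker.index := by
        rw [Subgroup.index_ker]
        exact Odd.of_dvd_nat CfsgLib.odd_card_oddCore (card_subgroup_dvd_card _)
      have hcard : Nat.card φ.ker = 2 := by
        rw [hker, Nat.card_congr (Subgroup.subgroupOfEquivOfLe hle).toEquiv, hN, Nat.card_zpowers, hz2]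
      obtain ⟨C, hC⟩ := Subgroup.exists_right_complement'_of_coprime (N := φ.ker) (by
        rw [hcard]; exact Nat.coprime_two_left.mpr hindex)
      have hCodd : Odd (Nat.card C) := by
        have h2 := hC.card_mul_card
        have h3 := card_eq_card_quotient_mul_card_subgroup φ.ker
        rw [← Subgroup.index] at h3
        rw [h3, mul_comm φ.ker.index] at h2
        rwa [Nat.eq_of_mul_eq_mul_left Nat.card_pos h2]
      -- the squares
      let S : Set G := {x | ∃ r ∈ R, r * r = x}
      haveI : R.Normal := Subgroup.Normal.comap inferInstance f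
      haveI hSn : (closure S).Normal := ⟨fun x hx g => by
        have hsub : closure S ≤ (closure S).comap (MulAut.conj g).toMonoidHom := (closure_le _).mpr fun y ⟨r, hr, e⟩ =>
          subset_closure ⟨g * r * g⁻¹, (inferInstance : R.Normal).conj_mem r hr g, by
            show g * r * g⁻¹ * (g * r * g⁻¹) = g * y * g⁻¹
            rw [← e]; group⟩
        exact hsub hx⟩
      have hSodd : Odd (Nat.card (closure S)) := by
        have hsub : closure S ≤ C.map R.subtype := (closure_le _).mpr fun y ⟨r, hr, e⟩ => by
          obtain ⟨⟨a, c⟩, hac⟩ := hC.existsUnique ⟨r, hr⟩ |>.exists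
          have hac' : ((a : R) : G) * ((c : R) : G) = r := congrArg Subtype.val hac
          have haN : ((a : R) : G) ∈ N := by
            have ha : (a : R) ∈ N.subgroupOf R := hker.le a.2
            exact ha
          refine ⟨(c : R) * (c : R), mul_mem c.2 c.2, ?_⟩
          show ((c : R) : G) * ((c : R) : G) = y
          rw [← e, ← hac']
          rcases hmemN _ haN with ea | ea
          · rw [ea, one_mul]
          · rw [ea, ← mul_assoc (z * ((c : R) : G)), mul_assoc z, ← (hzc ((c : R) : G)).eq, ← mul_assoc, hzz, one_mul]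
        exact (Subgroup.card_map_of_injective R.subtype_injective ▸ hCodd).of_dvd_nat (Subgroup.card_dvd_of_le hsub)
      have hS : closure S = ⊥ := eq_bot_iff.mpr ((CfsgLib.le_oddCore hSodd).trans hO.le)
      refine eq_bot_iff.mpr fun q hq => ?_
      induction q using QuotientGroup.induction_on with
      | _ g =>
        have h2 : g * g ∈ closure S := subset_closure ⟨g, hq, rfl⟩
        rw [hS, mem_bot] at h2
        have h3 : (g : Q) * (g : Q) = 1 := by rw [← QuotientGroup.mk_mul, h2]; rfl
        by_contra hne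
        have h4 := Subgroup.orderOf_dvd_natCard (Cfsg.pPrimeCore 2 Q) hq
        rw [orderOf_eq_two_iff'.mpr ⟨h3, fun e => hne (mem_bot.mpr e)⟩] at h4
        exact Nat.not_even_iff_odd.mpr CfsgLib.odd_card_oddCore (even_iff_two_dvd.mpr h4)
    rw [hQ] at h1
    have hW : ∀ w ∈ brk α ((⊤ : Subgroup G) : Set G), α w = w := fun w hw => by
      have hle : brk α ((⊤ : Subgroup G) : Set G) ≤ N := (closure_le _).mpr fun _ ⟨g, _, i, e⟩ => by
        have h2 := h1 (mem_brk (P := ((⊤ : Subgroup Q) : Set Q)) (mem_top (g : Q)) i)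
        rw [mem_bot, hβi, ← QuotientGroup.mk_inv, ← QuotientGroup.mk_mul, QuotientGroup.eq_one_iff] at h2
        exact e ▸ h2
      rcases hmemN w (hle hw) with rfl | rfl
      · exact map_one α
      · exact hzf
    rw [← brk_brk hα hcop Inv.top]
    exact (closure_le _).mpr fun _ ⟨w, hw, i, e⟩ => by
      rw [e, fx_pow (x := α) (hW w hw) i, inv_mul_cancel]; exact one_mem _
  push Not at hz
  refine False.elim (Ctx.false (p := p) (α := α) ⟨hp2, hcop, hα, hO, hα1, ⟨t, ht⟩, fun z h1 h2 h3 => ?_, fun H hH hne hT => ?_⟩)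
  · obtain ⟨g, hg⟩ := hz z h1 h2
    exact hg (h3 g)
  · obtain ⟨s, hsH, hs⟩ := hT
    have hlt : Nat.card H < Nat.card G := by
      refine lt_of_le_of_ne (Nat.le_of_dvd Nat.card_pos (card_subgroup_dvd_card H)) fun e => hne ?_
      exact eq_top_of_card_eq _ e
    have h1 := ih _ hlt H rfl (res hH) (res_pow_prime hα hH) (hcop.coprime_dvd_left (card_subgroup_dvd_card H))
      ⟨⟨s, hsH⟩, by rw [Subgroup.orderOf_mk]; exact hs.1, fun c hc => Subtype.ext (hs.2 c (congrArg Subtype.val hc.eq))⟩
    rw [← brk_res hH, Subgroup.card_map_of_injective H.subtype_injective]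
    exact CfsgLib.odd_card_oddCore.of_dvd_nat (Subgroup.card_dvd_of_le h1)

/-- A coprime automorphism of prime order fixing the centraliser of an involution acts trivially modulo the odd core. -/
theorem brk_le_oddCore {G : Type u} [Group G] [Finite G] {α : MulAut G} (hα : α ^ p = 1)
    (hcop : (Nat.card G).Coprime p) {t : G} (ht : orderOf t = 2) (hfix : ∀ c, Commute t c → α c = c) :
    brk α ((⊤ : Subgroup G) : Set G) ≤ Cfsg.pPrimeCore 2 G :=
  main_aux _ G rfl α hα hcop ⟨t, ht, hfix⟩

end CfsgLib.CoprimeInvCent
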