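import Cfsg.Agent.Lib.CoprimeInvCent.Core
import Cfsg.Agent.S0205

/-!
An odd group `W = [W, α]` with a commuting involutory automorphism `x` such that `C_W(x) ≤ C_W(α)` is
nilpotent, and then `C_W(x) = C_W(α)`.
-/

set_option autoImplicit false
set_option linter.unusedSectionVars false
set_option linter.style.haveILetI false

namespace CfsgLib.CoprimeInvCent

open Subgroup CfsgLib.FixGen
open scoped commutatorElement IsMulCommutative

universe u

variable {p : ℕ} [Fact p.Prime]

/-- An odd group with the two automorphisms. -/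
structure OddPair (p : ℕ) {W : Type u} [Group W] (α x : MulAut W) : Prop where
  odd : Odd (Nat.card W)
  cop : (Nat.card W).Coprime p
  pow : α ^ p = 1
  invol : ∀ w, x (x w) = w
  comm : ∀ w, x (α w) = α (x w)
  fix : ∀ w, x w = w → α w = w
  gen : brk α ((⊤ : Subgroup W) : Set W) = ⊤

variable {W : Type u} [Group W] [Finite W] {α x : MulAut W}

theorem OddPair.quot (h : OddPair p α x) (N : Subgroup W) [N.Normal] (h1 : Inv α N) (h2 : Inv x N) :
    OddPair p (QuotientGroup.congr N N α h1.map_eq) (QuotientGroup.congr N N x h2.map_eq) := by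
  have e1 : ∀ d : W, QuotientGroup.congr N N α h1.map_eq (d : W ⧸ N) = ((α d : W) : W ⧸ N) := fun _ => rfl
  have e2 : ∀ d : W, QuotientGroup.congr N N x h2.map_eq (d : W ⧸ N) = ((x d : W) : W ⧸ N) := fun _ => rfl
  have ei : ∀ (i : ℕ) (d : W), ((QuotientGroup.congr N N α h1.map_eq : MulAut (W ⧸ N)) ^ i) (d : W ⧸ N)
      = (((α ^ i) d : W) : W ⧸ N) := by
    intro i
    induction i with
    | zero => intro d; rfl
    | succ i ih => intro d; rw [← pow_apply_comm, ih, e1, pow_apply_comm]
  refine ⟨h.odd.of_dvd_nat (card_quotient_dvd_card N), h.cop.coprime_dvd_left (card_quotient_dvd_card N),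
    ?_, ?_, ?_, ?_, ?_⟩
  · ext d
    induction d using QuotientGroup.induction_on with
    | _ d => rw [ei, h.pow]; rfl
  · intro d
    induction d using QuotientGroup.induction_on with
    | _ d => rw [e2, e2, h.invol]
  · intro d
    induction d using QuotientGroup.induction_on with
    | _ d => rw [e1, e2, e2, e1, h.comm]
  · intro d
    induction d using QuotientGroup.induction_on with
    | _ d =>
      intro hd
      haveI : Fact (Nat.Prime 2) := ⟨Nat.prime_two⟩
      have hd' : d⁻¹ * x d ∈ N := QuotientGroup.eq.mp (hd.symm.trans (e2 d))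
      obtain ⟨n, hn, hf⟩ := exists_fixed_coset (x := x) (p := 2)
        (by ext g; rw [pow_two, MulAut.mul_apply]; exact h.invol g) (Nat.coprime_two_right.mpr h.odd) h2 hd'
      rw [← QuotientGroup.mk_mul_of_mem d hn, e1, h.fix _ (mem_fx.mp hf)]
  · refine eq_top_iff.mpr fun d _ => ?_
    induction d using QuotientGroup.induction_on with
    | _ d =>
      have hle : brk α ((⊤ : Subgroup W) : Set W) ≤
          (brk (QuotientGroup.congr N N α h1.map_eq) ((⊤ : Subgroup (W ⧸ N)) : Set (W ⧸ N))).comap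
            (QuotientGroup.mk' N) := (closure_le _).mpr fun _ ⟨k, _, i, e⟩ => by
        show ((_ : W) : W ⧸ N) ∈ brk _ _
        rw [e, QuotientGroup.mk_mul, QuotientGroup.mk_inv, ← ei]
        exact mem_brk (mem_top _) i
      exact hle (h.gen.symm ▸ mem_top d)

theorem inv_of_characteristic (τ : MulAut W) (N : Subgroup W) [N.Characteristic] : Inv τ N := fun d hd => by
  have := Subgroup.characteristic_iff_map_eq.mp (inferInstance : N.Characteristic) τ
  exact this ▸ ⟨d, hd, rfl⟩

/-- Conjugation on an abelian normal subgroup. -/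
noncomputable def conjEnd (N : Subgroup W) [N.Normal] : W →* AddMonoid.End (Additive N) where
  toFun w := (MulEquiv.toAdditive (MulAut.conjNormal (H := N) w)).toAddMonoidHom
  map_one' := by rw [map_one]; rfl
  map_mul' a b := by rw [map_mul]; rfl

/-- An automorphism on an invariant subgroup as an endomorphism. -/
noncomputable def autEnd {N : Subgroup W} {τ : MulAut W} (h : Inv τ N) : AddMonoid.End (Additive N) :=
  (MulEquiv.toAdditive (res h)).toAddMonoidHom

theorem conjEnd_apply (N : Subgroup W) [N.Normal] (w : W) (n : Additive N) :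
    ((Additive.toMul (conjEnd N w n) : N) : W) = w * (Additive.toMul n : N) * w⁻¹ := rfl

theorem autEnd_apply {N : Subgroup W} {τ : MulAut W} (h : Inv τ N) (n : Additive N) :
    ((Additive.toMul (autEnd h n) : N) : W) = τ ((Additive.toMul n : N) : W) := rfl

theorem nilpotent_aux (hp2 : p ≠ 2) :
    ∀ (n : ℕ) (W : Type u) [Group W] [Finite W], Nat.card W = n → ∀ α x : MulAut W, OddPair p α x →
      Group.IsNilpotent W := by
  intro n
  induction n using Nat.strong_induction_on with
  | _ n ih =>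
  intro W _ _ hn α x h
  subst hn
  classical
  rcases subsingleton_or_nontrivial W with hW | hW
  · infer_instance
  haveI hsol : Group.IsSolvable W := Cfsg.Agent.S0205.result h.odd
  -- an abelian characteristic subgroup
  obtain ⟨k, hk, hk0⟩ : ∃ k, derivedSeries W (k + 1) = ⊥ ∧ derivedSeries W k ≠ ⊥ := by
    obtain ⟨m, hm⟩ := Group.isSolvable_def (G := W) |>.mp hsol
    have hex : ∃ m, derivedSeries W m = ⊥ := ⟨m, hm⟩
    have h0 : Nat.find hex ≠ 0 := fun e => by
      have := Nat.find_spec hex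
      rw [e, derivedSeries_zero] at this
      exact top_ne_bot this
    obtain ⟨j, hj⟩ := Nat.exists_eq_succ_of_ne_zero h0
    exact ⟨j, by rw [← Nat.succ_eq_add_one, ← hj]; exact Nat.find_spec hex, Nat.find_min hex (by omega)⟩
  haveI : (derivedSeries W k).Characteristic := derivedSeries_characteristic W k
  have hAab : ∀ a ∈ derivedSeries W k, ∀ b ∈ derivedSeries W k, a * b = b * a := fun a ha b hb => by
    have h1 : ⁅a, b⁆ ∈ derivedSeries W (k + 1) := by
      rw [derivedSeries_succ]; exact commutator_mem_commutator ha hb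
    rw [hk, mem_bot] at h1
    exact commutatorElement_eq_one_iff_mul_comm.mp h1
  -- a minimal invariant normal subgroup in it
  let P : Subgroup W → Prop := fun N => N ≠ ⊥ ∧ N ≤ derivedSeries W k ∧ N.Normal ∧ Inv α N ∧ Inv x N
  have hPne : P (derivedSeries W k) :=
    ⟨hk0, le_rfl, inferInstance, inv_of_characteristic α _, inv_of_characteristic x _⟩
  obtain ⟨N, ⟨hN0, hNA, hNn, hNα, hNx⟩, hmin⟩ := wellFounded_lt.has_min (setOf P) ⟨_, hPne⟩
  haveI := hNn
  haveI : IsMulCommutative N := ⟨⟨fun a b => Subtype.ext (hAab _ (hNA a.2) _ (hNA b.2))⟩⟩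
  -- prime exponent
  haveI : Nontrivial N := (Subgroup.nontrivial_iff_ne_bot N).mpr hN0
  obtain ⟨l, hl, hlN⟩ := Nat.exists_prime_and_dvd (Finite.one_lt_card (α := N)).ne'
  haveI : Fact l.Prime := ⟨hl⟩
  have hexp : ∀ m ∈ N, m ^ l = 1 := by
    let N1 : Subgroup W :=
      { carrier := {m | m ∈ N ∧ m ^ l = 1}
        one_mem' := ⟨one_mem N, one_pow l⟩
        mul_mem' := fun {a b} ha hb => ⟨N.mul_mem ha.1 hb.1, by
          rw [(show Commute a b from hAab a (hNA ha.1) b (hNA hb.1)).mul_pow, ha.2, hb.2, one_mul]⟩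
        inv_mem' := fun {a} ha => ⟨N.inv_mem ha.1, by rw [inv_pow, ha.2, inv_one]⟩ }
    have hP1 : P N1 := by
      refine ⟨fun e => ?_, fun m hm => hNA hm.1, ⟨fun m hm g => ⟨hNn.conj_mem m hm.1 g, by rw [conj_pow, hm.2, mul_one, mul_inv_cancel]⟩⟩,
        fun m hm => ⟨hNα m hm.1, by rw [← map_pow, hm.2, map_one]⟩,
        fun m hm => ⟨hNx m hm.1, by rw [← map_pow, hm.2, map_one]⟩⟩
      obtain ⟨m, hm⟩ := exists_prime_orderOf_dvd_card' (G := N) l hlN
      have : (m : W) ∈ N1 := ⟨m.2, by rw [← hm, ← Subgroup.coe_pow, pow_orderOf_eq_one]; rfl⟩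
      rw [e, mem_bot] at this
      rw [show m = 1 from Subtype.ext this, orderOf_one] at hm
      exact hl.ne_one hm.symm
    intro m hm
    by_contra hne
    exact hmin N1 hP1 (lt_of_le_of_ne (fun a ha => ha.1) fun e => hne (e.symm ▸ hm : m ∈ N1).2)
  -- the representation
  set ρ := conjEnd N with hρ
  have hkα : ∀ w, ρ w = 1 → ρ (α w) = 1 := fun w hw => by
    refine AddMonoidHom.ext fun m => Additive.toMul.injective (Subtype.ext ?_)
    show _ = ((Additive.toMul m : N) : W)
    show α w * ((Additive.toMul m : N) : W) * (α w)⁻¹ = _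
    obtain ⟨m', hm'⟩ : ∃ m' : N, α (m' : W) = ((Additive.toMul m : N) : W) := ⟨(res hNα).symm (Additive.toMul m), by
      rw [← res_apply hNα, MulEquiv.apply_symm_apply]⟩
    have h1 : w * (m' : W) * w⁻¹ = (m' : W) :=
      congrArg (fun f : AddMonoid.End (Additive N) => ((Additive.toMul (f (Additive.ofMul m')) : N) : W)) hw
    rw [← hm', ← map_inv, ← map_mul, ← map_mul, h1]
  have hkx : ∀ w, ρ w = 1 → ρ (x w) = 1 := fun w hw => by
    refine AddMonoidHom.ext fun m => Additive.toMul.injective (Subtype.ext ?_)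
    show _ = ((Additive.toMul m : N) : W)
    show x w * ((Additive.toMul m : N) : W) * (x w)⁻¹ = _
    obtain ⟨m', hm'⟩ : ∃ m' : N, x (m' : W) = ((Additive.toMul m : N) : W) := ⟨(res hNx).symm (Additive.toMul m), by
      rw [← res_apply hNx, MulEquiv.apply_symm_apply]⟩
    have h1 : w * (m' : W) * w⁻¹ = (m' : W) :=
      congrArg (fun f : AddMonoid.End (Additive N) => ((Additive.toMul (f (Additive.ofMul m')) : N) : W)) hw
    rw [← hm', ← map_inv, ← map_mul, ← map_mul, h1]
  have hiα : Inv α ρ.ker := hkα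
  have hix : Inv x ρ.ker := hkx
  have hNker : N ≤ ρ.ker := fun m hm => AddMonoidHom.ext fun m' => Additive.toMul.injective (Subtype.ext (by
    show _ = ((Additive.toMul m' : N) : W)
    show m * ((Additive.toMul m' : N) : W) * m⁻¹ = _
    rw [hAab m (hNA hm) _ (hNA (Additive.toMul m').2), mul_inv_cancel_right]))
  haveI hLn : Group.IsNilpotent (W ⧸ ρ.ker) := by
    have hlt : Nat.card (W ⧸ N) < Nat.card W := by
      rw [card_eq_card_quotient_mul_card_subgroup N]
      exact lt_mul_of_one_lt_right Nat.card_pos Finite.one_lt_card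
    haveI := ih _ hlt (W ⧸ N) rfl _ _ (h.quot N hNα hNx)
    exact Group.nilpotent_of_surjective (QuotientGroup.map N ρ.ker (MonoidHom.id W) (fun m hm => hNker hm))
      (fun y => by
        induction y using QuotientGroup.induction_on with
        | _ w => exact ⟨(w : W ⧸ N), rfl⟩)
  have hL := h.quot ρ.ker hiα hix
  set σ := QuotientGroup.congr ρ.ker ρ.ker α hiα.map_eq with hσ
  set ξ := QuotientGroup.congr ρ.ker ρ.ker x hix.map_eq with hξ
  let ρL : W ⧸ ρ.ker →* AddMonoid.End (Additive N) := QuotientGroup.lift ρ.ker ρ le_rfl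
  have hinjL : ∀ y, ρL y = 1 → y = 1 := fun y => by
    induction y using QuotientGroup.induction_on with
    | _ w => exact fun hy => (QuotientGroup.eq_one_iff w).mpr hy
  -- units
  have hunit : ∀ m : ℕ, m.Coprime l → IsUnit (m : AddMonoid.End (Additive N)) := by
    intro m hm
    obtain ⟨j, -, hj⟩ := Nat.exists_mul_mod_eq_one_of_coprime hm hl.one_lt
    have h1 : ((m * j : ℕ) : AddMonoid.End (Additive N)) = 1 := by
      refine AddMonoidHom.ext fun a => ?_
      rw [← nsmul_one (m * j)]
      show (m * j) • a = a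
      have hl0 : l • a = 0 := Additive.toMul.injective (Subtype.ext (by
        show (((Additive.toMul a : N) ^ l : N) : W) = 1
        rw [Subgroup.coe_pow]; exact hexp _ (Additive.toMul a).2))
      rw [← Nat.mod_add_div (m * j) l, hj, add_nsmul, one_nsmul, mul_nsmul, hl0, nsmul_zero, add_zero]
    rw [Nat.cast_mul] at h1
    exact ⟨⟨_, _, h1, by rw [(Nat.cast_commute j ((m : AddMonoid.End (Additive N)))).eq, h1]⟩, rfl⟩
  have hlW : l ∣ Nat.card W := hlN.trans (card_subgroup_dvd_card N)
  have hl2 : l ≠ 2 := fun e => (Nat.not_even_iff_odd.mpr h.odd) (even_iff_two_dvd.mpr (e ▸ hlW))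
  -- every Sylow subgroup of the image is fixed
  have hsyl : ∀ q : ℕ, q.Prime → ∀ Q : Sylow q (W ⧸ ρ.ker), ∀ y ∈ (Q : Subgroup (W ⧸ ρ.ker)), σ y = y := by
    intro q hq Q y hy
    haveI : Fact q.Prime := ⟨hq⟩
    have hsn : ∀ (q : ℕ) (_ : Fact q.Prime) (P : Sylow q (W ⧸ ρ.ker)), (P : Subgroup (W ⧸ ρ.ker)).Normal :=
      ((Group.isNilpotent_of_finite_tfae (G := W ⧸ ρ.ker)).out 0 3 rfl rfl).mp hLn
    haveI : (Q : Subgroup (W ⧸ ρ.ker)).Normal := hsn q ⟨hq⟩ Q
    haveI : (Q : Subgroup (W ⧸ ρ.ker)).Characteristic := Sylow.characteristic_of_normal Q inferInstance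
    by_cases hqL : q ∣ Nat.card (W ⧸ ρ.ker)
    swap
    · have hQ1 : (Q : Subgroup (W ⧸ ρ.ker)) = ⊥ := by
        obtain ⟨j, hj⟩ := IsPGroup.iff_card.mp Q.2
        rcases j with _ | j
        · exact eq_bot_of_card_eq _ (by rw [hj, pow_zero])
        · exact absurd ((dvd_pow_self q j.succ_ne_zero).trans (hj ▸ card_subgroup_dvd_card _)) hqL
      rw [hQ1, mem_bot] at hy
      rw [hy, map_one]
    have hqW : q ∣ Nat.card W := hqL.trans (card_quotient_dvd_card ρ.ker)
    have hq2 : q ≠ 2 := fun e => (Nat.not_even_iff_odd.mpr h.odd) (even_iff_two_dvd.mpr (e ▸ hqW))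
    have hiσ := inv_of_characteristic σ (Q : Subgroup (W ⧸ ρ.ker))
    have hiξ := inv_of_characteristic ξ (Q : Subgroup (W ⧸ ρ.ker))
    by_cases hql : q = l
    · -- a `l`-subgroup acts trivially
      subst hql
      let N2 : Subgroup W :=
        { carrier := {m | m ∈ N ∧ ∀ w : W, (w : W ⧸ ρ.ker) ∈ (Q : Subgroup (W ⧸ ρ.ker)) → w * m * w⁻¹ = m}
          one_mem' := ⟨one_mem N, fun w _ => by group⟩
          mul_mem' := fun {a b} ha hb => ⟨N.mul_mem ha.1 hb.1, fun w hw => by
            calc w * (a * b) * w⁻¹ = (w * a * w⁻¹) * (w * b * w⁻¹) := by group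
              _ = a * b := by rw [ha.2 w hw, hb.2 w hw]⟩
          inv_mem' := fun {a} ha => ⟨N.inv_mem ha.1, fun w hw => by
            calc w * a⁻¹ * w⁻¹ = (w * a * w⁻¹)⁻¹ := by group
              _ = a⁻¹ := by rw [ha.2 w hw]⟩ }
      have hP2 : P N2 := by
        refine ⟨fun e => ?_, fun m hm => hNA hm.1, ⟨fun m hm g => ⟨hNn.conj_mem m hm.1 g, fun w hw => ?_⟩⟩,
          fun m hm => ⟨hNα m hm.1, fun w hw => ?_⟩, fun m hm => ⟨hNx m hm.1, fun w hw => ?_⟩⟩
        · -- fixed points of a `q`-group on a `q`-group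
          let Q' := (Q : Subgroup (W ⧸ ρ.ker)).comap (QuotientGroup.mk' ρ.ker)
          let f : Q →* MulAut N :=
            { toFun := fun y =>
                MulEquiv.toAdditive.symm
                  { toFun := ρL (y : W ⧸ ρ.ker)
                    invFun := ρL (y : W ⧸ ρ.ker)⁻¹
                    left_inv := fun a => by
                      show (ρL (y : W ⧸ ρ.ker)⁻¹ * ρL (y : W ⧸ ρ.ker)) a = a
                      rw [← map_mul, inv_mul_cancel, map_one]; rfl
                    right_inv := fun a => by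
                      show (ρL (y : W ⧸ ρ.ker) * ρL (y : W ⧸ ρ.ker)⁻¹) a = a
                      rw [← map_mul, mul_inv_cancel, map_one]; rfl
                    map_add' := map_add _ }
              map_one' := MulEquiv.ext fun a => by
                show Additive.toMul (ρL ((1 : Q) : W ⧸ ρ.ker) (Additive.ofMul a)) = a
                rw [OneMemClass.coe_one, map_one]; rfl
              map_mul' := fun y z => MulEquiv.ext fun a => by
                show Additive.toMul (ρL ((y * z : Q) : W ⧸ ρ.ker) (Additive.ofMul a)) = _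
                rw [Subgroup.coe_mul, map_mul]; rfl }
          letI : MulAction Q N := MulAction.compHom N f
          have hf : ∀ (w : W) (hw : (w : W ⧸ ρ.ker) ∈ (Q : Subgroup (W ⧸ ρ.ker))) (a : N),
              (((⟨(w : W ⧸ ρ.ker), hw⟩ : Q) • a : N) : W) = w * a * w⁻¹ := fun w hw a => rfl
          have h1 : (1 : N) ∈ MulAction.fixedPoints Q N := fun y => map_one (f y)
          obtain ⟨b, hb, hb1⟩ := Q.2.exists_fixed_point_of_prime_dvd_card_of_fixed_point N hlN h1
          have hbN2 : (b : W) ∈ N2 := ⟨b.2, fun w hw => by rw [← hf w hw b, hb]⟩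
          rw [e, mem_bot] at hbN2
          exact hb1 (Subtype.ext hbN2.symm)
        · have hg : ((g⁻¹ * w * g : W) : W ⧸ ρ.ker) ∈ (Q : Subgroup (W ⧸ ρ.ker)) := by
            have := (inferInstance : (Q : Subgroup (W ⧸ ρ.ker)).Normal).conj_mem _ hw ((g : W ⧸ ρ.ker))⁻¹
            simpa using this
          calc w * (g * m * g⁻¹) * w⁻¹ = g * ((g⁻¹ * w * g) * m * (g⁻¹ * w * g)⁻¹) * g⁻¹ := by group
            _ = g * m * g⁻¹ := by rw [hm.2 _ hg]
        · obtain ⟨w', rfl⟩ := α.surjective w
          have hw' : (w' : W ⧸ ρ.ker) ∈ (Q : Subgroup (W ⧸ ρ.ker)) := by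
            obtain ⟨y', hy', he⟩ := (hiσ.map_eq.symm ▸ hw : ((α w' : W) : W ⧸ ρ.ker) ∈ (Q : Subgroup _).map (σ : (W ⧸ ρ.ker) →* (W ⧸ ρ.ker)))
            exact σ.injective (he.trans rfl : σ y' = σ (w' : W ⧸ ρ.ker)) ▸ hy'
          rw [← map_mul, ← map_inv, ← map_mul, hm.2 _ hw']
        · obtain ⟨w', rfl⟩ := x.surjective w
          have hw' : (w' : W ⧸ ρ.ker) ∈ (Q : Subgroup (W ⧸ ρ.ker)) := by
            obtain ⟨y', hy', he⟩ := (hiξ.map_eq.symm ▸ hw : ((x w' : W) : W ⧸ ρ.ker) ∈ (Q : Subgroup _).map (ξ : (W ⧸ ρ.ker) →* (W ⧸ ρ.ker)))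
            exact ξ.injective (he.trans rfl : ξ y' = ξ (w' : W ⧸ ρ.ker)) ▸ hy'
          rw [← map_mul, ← map_inv, ← map_mul, hm.2 _ hw']
      have hall : N2 = N := by
        by_contra hne
        exact hmin N2 hP2 (lt_of_le_of_ne (fun a ha => ha.1) hne)
      induction y using QuotientGroup.induction_on with
      | _ w =>
        have hw1 : (w : W ⧸ ρ.ker) = 1 := (QuotientGroup.eq_one_iff w).mpr
          (AddMonoidHom.ext fun a => Additive.toMul.injective (Subtype.ext (by
            show w * ((Additive.toMul a : N) : W) * w⁻¹ = ((Additive.toMul a : N) : W)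
            exact (hall.symm ▸ (Additive.toMul a).2 : ((Additive.toMul a : N) : W) ∈ N2).2 w hy)))
        rw [hw1, map_one]
    · -- the theorem on representations
      have hA : Aut2 p q (res (inv_brk (x := σ) (Q : Set (W ⧸ ρ.ker)))) (res (brk_invariant hL.comm hiξ)) := by
        refine ⟨Q.2.to_le (brk_le_self hiσ), hL.cop.coprime_dvd_left (card_subgroup_dvd_card _),
          res_pow_prime hL.pow _, ?_, ?_, ?_, brk_res_top hL.pow hL.cop hiσ⟩
        · intro d; apply Subtype.ext; rw [res_apply, res_apply, hL.invol]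
        · intro d; apply Subtype.ext; rw [res_apply, res_apply, res_apply, res_apply, hL.comm]
        · intro d hd
          apply Subtype.ext
          rw [res_apply]
          exact hL.fix _ (by rw [← res_apply (brk_invariant hL.comm hiξ), hd])
      have hα' : ∀ (w : W) (m : Additive N), autEnd hNα (ρ w m) = ρ (α w) (autEnd hNα m) := fun w m =>
        Additive.toMul.injective (Subtype.ext (by
          show α (w * ((Additive.toMul m : N) : W) * w⁻¹) = α w * α ((Additive.toMul m : N) : W) * (α w)⁻¹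
          rw [map_mul, map_mul, map_inv]))
      have hx' : ∀ (w : W) (m : Additive N), autEnd hNx (ρ w m) = ρ (x w) (autEnd hNx m) := fun w m =>
        Additive.toMul.injective (Subtype.ext (by
          show x (w * ((Additive.toMul m : N) : W) * w⁻¹) = x w * x ((Additive.toMul m : N) : W) * (x w)⁻¹
          rw [map_mul, map_mul, map_inv]))
      have hlin : Lin q (res (inv_brk (x := σ) (Q : Set (W ⧸ ρ.ker)))) (res (brk_invariant hL.comm hiξ))
          (ρL.comp (brk σ (Q : Set (W ⧸ ρ.ker))).subtype) (autEnd hNx) (autEnd hNα) := by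
        refine ⟨hunit 2 ((Nat.coprime_primes Nat.prime_two hl).mpr (Ne.symm hl2)),
          hunit q ((Nat.coprime_primes hq hl).mpr hql), ?_, ?_, ?_, ?_, ?_⟩
        · exact AddMonoidHom.ext fun m => Additive.toMul.injective (Subtype.ext (h.invol _))
        · refine ⟨⟨autEnd hNα, (MulEquiv.toAdditive (res hNα).symm).toAddMonoidHom,
            AddMonoidHom.ext fun m => ?_, AddMonoidHom.ext fun m => ?_⟩, rfl⟩
          · exact congrArg Additive.ofMul ((res hNα).apply_symm_apply (Additive.toMul m))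
          · exact congrArg Additive.ofMul ((res hNα).symm_apply_apply (Additive.toMul m))
        · refine AddMonoidHom.ext fun m => ?_
          show autEnd hNα (m + autEnd hNx m) = m + autEnd hNx m
          refine Additive.toMul.injective (Subtype.ext ?_)
          rw [autEnd_apply]
          refine h.fix _ ?_
          show x (((Additive.toMul m : N) : W) * x ((Additive.toMul m : N) : W)) = _
          rw [map_mul, h.invol]
          exact hAab _ (hNA (hNx _ (Additive.toMul m).2)) _ (hNA (Additive.toMul m).2)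
        · rintro ⟨y', hy'⟩
          induction y' using QuotientGroup.induction_on with
          | _ w => exact AddMonoidHom.ext (hx' w)
        · rintro ⟨y', hy'⟩
          induction y' using QuotientGroup.induction_on with
          | _ w => exact AddMonoidHom.ext (hα' w)
      have ht := triv hq2 hp2 _ _ _ hA _ _ _ _ hlin
      have hm : y⁻¹ * (σ ^ 1) y ∈ brk σ (Q : Set (W ⧸ ρ.ker)) := mem_brk hy 1
      have h1 : y⁻¹ * σ y = 1 := by simpa only [Subgroup.coe_subtype, pow_one] using hinjL _ (ht ⟨_, hm⟩)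
      rw [inv_mul_eq_one] at h1
      exact h1.symm
  have hfx : fx σ = ⊤ := by
    refine eq_top_of_card_eq _ (Nat.dvd_antisymm (card_subgroup_dvd_card _) ?_)
    rw [Nat.dvd_iff_prime_pow_dvd_dvd]
    intro q j hq hqj
    haveI : Fact q.Prime := ⟨hq⟩
    obtain ⟨Q⟩ : Nonempty (Sylow q (W ⧸ ρ.ker)) := inferInstance
    exact (Q.pow_dvd_card_of_pow_dvd_card hqj).trans (Subgroup.card_dvd_of_le fun y hy => hsyl q hq Q y hy)
  have hker : ρ.ker = ⊤ := by
    refine eq_top_iff.mpr fun w _ => ?_
    have h1 : brk σ ((⊤ : Subgroup (W ⧸ ρ.ker)) : Set (W ⧸ ρ.ker)) ≤ ⊥ :=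
      brk_le fun y _ => (closure_le _).mpr fun _ ⟨i, e⟩ => by
        rw [e, fx_pow (x := σ) (hfx ▸ mem_top y), inv_mul_cancel]; exact one_mem _
    rw [hL.gen] at h1
    exact (QuotientGroup.eq_one_iff w).mp (mem_bot.mp (h1 (mem_top (w : W ⧸ ρ.ker))))
  have hlt : Nat.card (W ⧸ N) < Nat.card W := by
    rw [card_eq_card_quotient_mul_card_subgroup N]
    exact lt_mul_of_one_lt_right Nat.card_pos Finite.one_lt_card
  haveI := ih _ hlt (W ⧸ N) rfl _ _ (h.quot N hNα hNx)
  refine Subgroup.isNilpotent_of_ker_le_center (QuotientGroup.mk' N) ?_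
  rw [QuotientGroup.ker_mk']
  intro m hm
  refine Subgroup.mem_center_iff.mpr fun w => ?_
  have h1 : w * m * w⁻¹ = m := congrArg (fun f : AddMonoid.End (Additive N) =>
    ((Additive.toMul (f (Additive.ofMul (⟨m, hm⟩ : N))) : N) : W)) (show ρ w = 1 from (hker ▸ mem_top w : w ∈ ρ.ker))
  exact mul_inv_eq_iff_eq_mul.mp h1

theorem OddPair.nilpotent (h : OddPair p α x) (hp2 : p ≠ 2) : Group.IsNilpotent W :=
  nilpotent_aux hp2 _ W rfl α x h

theorem fixed_aux (hp2 : p ≠ 2) :
    ∀ (n : ℕ) (W : Type u) [Group W] [Finite W], Nat.card W = n → ∀ α x : MulAut W, OddPair p α x →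
      ∀ w, α w = w → x w = w := by
  intro n
  induction n using Nat.strong_induction_on with
  | _ n ih =>
  intro W _ _ hn α x h w hw
  subst hn
  classical
  haveI := h.nilpotent hp2
  have hwc := fixed_mem_commutator h.pow h.cop h.gen hw
  by_cases hw1 : w = 1
  · rw [hw1, map_one]
  obtain ⟨c, hc⟩ : ∃ c, (⊤ : Subgroup W).lowerCentralSeries (c + 1 + 1) = ⊥ ∧ (⊤ : Subgroup W).lowerCentralSeries (c + 1) ≠ ⊥ := by
    obtain ⟨m, hm⟩ := Subgroup.nilpotent_iff_lowerCentralSeries.mp (inferInstance : Group.IsNilpotent W)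
    have hex : ∃ m, (⊤ : Subgroup W).lowerCentralSeries m = ⊥ := ⟨m, hm⟩
    have hc1 : (⊤ : Subgroup W).lowerCentralSeries 1 ≠ ⊥ := fun e => hw1 (by
      rw [Subgroup.top_lowerCentralSeries_one] at e
      rw [e, mem_bot] at hwc
      exact hwc)
    have h2 : 2 ≤ Nat.find hex := by
      by_contra hlt
      have := Nat.find_spec hex
      exact hc1 (eq_bot_iff.mpr (this ▸ Subgroup.lowerCentralSeries_antitone _ (by omega)))
    obtain ⟨c, hc⟩ := Nat.exists_eq_add_of_le h2
    refine ⟨c, by rw [show c + 1 + 1 = Nat.find hex by omega]; exact Nat.find_spec hex, Nat.find_min hex (by omega)⟩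
  set Y := (⊤ : Subgroup W).lowerCentralSeries c with hY
  set Z := (⊤ : Subgroup W).lowerCentralSeries (c + 1) with hZ
  haveI : Y.Characteristic := Subgroup.lowerCentralSeries_characteristic _ c
  haveI : Z.Characteristic := Subgroup.lowerCentralSeries_characteristic _ (c + 1)
  have hiZα := inv_of_characteristic α Z
  have hiZx := inv_of_characteristic x Z
  have hiYx := inv_of_characteristic x Y
  have hZc : ∀ z ∈ Z, ∀ g : W, Commute z g := fun z hz g => by
    have h1 : ⁅z, g⁆ ∈ (⊤ : Subgroup W).lowerCentralSeries (c + 1 + 1) := commutator_mem_commutator hz (mem_top g)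
    rw [hc.1, mem_bot] at h1
    exact commutatorElement_eq_one_iff_commute.mp h1
  have hYZ : ∀ g ∈ Y, ∀ d : W, ⁅g, d⁆ ∈ Z := fun g hg d => commutator_mem_commutator hg (mem_top d)
  haveI : IsMulCommutative Z := ⟨⟨fun a b => Subtype.ext (hZc a a.2 b).eq⟩⟩
  have hlin : ∀ g ∈ Y, ∀ d e : W, ⁅g, d * e⁆ = ⁅g, d⁆ * ⁅g, e⁆ := fun g hg d e => by
    calc ⁅g, d * e⁆ = ⁅g, d⁆ * (d * ⁅g, e⁆ * d⁻¹) := by simp only [commutatorElement_def]; group
      _ = ⁅g, d⁆ * ⁅g, e⁆ := by rw [← (hZc _ (hYZ g hg e) d).eq, mul_inv_cancel_right]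
  have hlinl : ∀ g ∈ Y, ∀ f ∈ Y, ∀ d : W, ⁅g * f, d⁆ = ⁅g, d⁆ * ⁅f, d⁆ := fun g hg f hf d => by
    calc ⁅g * f, d⁆ = g * ⁅f, d⁆ * g⁻¹ * ⁅g, d⁆ := by simp only [commutatorElement_def]; group
      _ = ⁅f, d⁆ * ⁅g, d⁆ := by rw [← (hZc _ (hYZ f hf d) g).eq, mul_inv_cancel_right]
      _ = ⁅g, d⁆ * ⁅f, d⁆ := (hZc _ (hYZ f hf d) _).eq
  have hcomm_zero : ∀ g ∈ Y, ∀ d ∈ commutator W, ⁅g, d⁆ = 1 := fun g hg d hd => by
    let φ : W →* Z :=
      { toFun := fun d => ⟨⁅g, d⁆, hYZ g hg d⟩
        map_one' := Subtype.ext (commutatorElement_one_right g)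
        map_mul' := fun a b => Subtype.ext (hlin g hg a b) }
    have h1 : commutator W ≤ φ.ker := by
      rw [_root_.commutator_def, commutator_le]
      intro a _ b _
      rw [MonoidHom.mem_ker, map_commutatorElement, commutatorElement_eq_one_iff_commute]
      exact mul_comm' _ _
    exact congrArg Subtype.val (h1 hd)
  have hrev := exists_inverted_rep h.odd h.invol
  have key : Z ≤ fx x ⊔ brk α (Z : Set W) := by
    rw [hZ]
    show ⁅Y, (⊤ : Subgroup W)⁆ ≤ _
    rw [commutator_le]
    intro g hg d _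
    obtain ⟨v, hv, hf⟩ := hrev g
    have hvY : v ∈ Y := by
      have hxg : v⁻¹ * v⁻¹ = x g * g⁻¹ := by
        have e : x g = v⁻¹ * (v⁻¹ * g) := by
          conv_lhs => rw [show g = v * (v⁻¹ * g) by group, map_mul, hv, hf]
        rw [e]; group
      have hmem : v⁻¹ * v⁻¹ ∈ Y := hxg ▸ Y.mul_mem (hiYx g hg) (Y.inv_mem hg)
      obtain ⟨k, hk⟩ := h.odd
      have : (v⁻¹ * v⁻¹) ^ (k + 1) = v⁻¹ := by
        rw [← pow_two, ← pow_mul, show 2 * (k + 1) = Nat.card W + 1 by omega, pow_succ, pow_card_eq_one', one_mul]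
      exact inv_inv v ▸ Y.inv_mem (this ▸ Y.pow_mem hmem _)
    have hfY : v⁻¹ * g ∈ Y := Y.mul_mem (Y.inv_mem hvY) hg
    obtain ⟨d0, hd0, hd1⟩ := hrev d
    have hdv : ⁅v, d⁆ = ⁅v, d0⁆ := by
      have := hlin v hvY d0 (d0⁻¹ * d)
      rwa [mul_inv_cancel_left, hcomm_zero v hvY _ (fixed_mem_commutator h.pow h.cop h.gen (h.fix _ hd1)),
        mul_one] at this
    rw [show g = v * (v⁻¹ * g) by group, hlinl v hvY _ hfY, hdv]
    refine mul_mem (mem_sup_left (mem_fx.mpr ?_)) (mem_sup_right ?_)
    · have e1 : ⁅v⁻¹, d0⁻¹⁆ = ⁅v, d0⁆ := by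
        have a1 := hlinl v⁻¹ (Y.inv_mem hvY) v hvY d0⁻¹
        rw [inv_mul_cancel, commutatorElement_one_left] at a1
        have a2 := hlin v hvY d0⁻¹ d0
        rw [inv_mul_cancel, commutatorElement_one_right] at a2
        rw [eq_inv_of_mul_eq_one_left a1.symm, eq_inv_of_mul_eq_one_left a2.symm, inv_inv]
      rw [map_commutatorElement, hv, hd0, e1]
    · set f := v⁻¹ * g
      have hαf : α f = f := h.fix f hf
      have hall : ∀ d ∈ brk α ((⊤ : Subgroup W) : Set W), ⁅f, d⁆ ∈ brk α (Z : Set W) := fun d hd => by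
        induction hd using closure_induction with
        | mem d hd =>
          obtain ⟨k, -, i, rfl⟩ := hd
          have hki : ⁅f, k⁻¹⁆ = ⁅f, k⁆⁻¹ := by
            have := hlin f hfY k⁻¹ k
            rw [inv_mul_cancel, commutatorElement_one_right] at this
            exact eq_inv_of_mul_eq_one_left this.symm
          rw [hlin f hfY, hki, show ⁅f, (α ^ i) k⁆ = (α ^ i) ⁅f, k⁆ by rw [map_commutatorElement, fx_pow (x := α) hαf]]
          exact mem_brk (hYZ f hfY k) i
        | one => rw [commutatorElement_one_right]; exact one_mem _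
        | mul a b _ _ ha hb => rw [hlin f hfY]; exact mul_mem ha hb
        | inv a _ ha =>
          have := hlin f hfY a⁻¹ a
          rw [inv_mul_cancel, commutatorElement_one_right] at this
          rw [eq_inv_of_mul_eq_one_left this.symm]
          exact inv_mem ha
      exact hall d (h.gen.symm ▸ mem_top d)
  -- pass to the quotient
  haveI : Nontrivial Z := (Subgroup.nontrivial_iff_ne_bot Z).mpr hc.2
  have hlt : Nat.card (W ⧸ Z) < Nat.card W := by
    rw [card_eq_card_quotient_mul_card_subgroup Z]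
    exact lt_mul_of_one_lt_right Nat.card_pos Finite.one_lt_card
  have hq := ih _ hlt (W ⧸ Z) rfl _ _ (h.quot Z hiZα hiZx) (w : W ⧸ Z)
    (congrArg (fun z : W => (z : W ⧸ Z)) hw)
  have hs : w⁻¹ * x w ∈ Z := QuotientGroup.eq.mp hq.symm
  set s := w⁻¹ * x w with hsdef
  have hxs : x s = s⁻¹ := by rw [hsdef, map_mul, map_inv, h.invol, mul_inv_rev, inv_inv]
  have hαs : α s = s := by rw [hsdef, map_mul, map_inv, hw, ← h.comm, hw]
  haveI : (brk α (Z : Set W)).Normal := ⟨fun b hb g => by
    rw [← (hZc b (brk_le_self hiZα hb) g).eq, mul_inv_cancel_right]; exact hb⟩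
  obtain ⟨a, ha, b, hb, hab⟩ : ∃ a ∈ fx x, ∃ b ∈ brk α (Z : Set W), a * b = s := by
    have := key hs
    rw [← SetLike.mem_coe, Subgroup.mul_normal] at this
    obtain ⟨a, ha, b, hb, e⟩ := this
    exact ⟨a, ha, b, hb, e⟩
  have hsb : s ∈ brk α (Z : Set W) := by
    have hxb := brk_invariant h.comm hiZx b hb
    have e1 : a * x b = (a * b)⁻¹ := by
      rw [hab, ← hxs, ← hab, map_mul, mem_fx.mp ha]
    have hca : Commute (x b) a := hZc _ (brk_le_self hiZα hxb) a
    have e2 : a * a = (x b)⁻¹ * b⁻¹ := by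
      calc a * a = a * (a * x b) * (x b)⁻¹ := by group
        _ = a * (b⁻¹ * a⁻¹) * (x b)⁻¹ := by rw [e1, mul_inv_rev]
        _ = b⁻¹ * (x b)⁻¹ := by
          rw [← mul_assoc a, (hZc b⁻¹ (Z.inv_mem (brk_le_self hiZα hb)) a).symm.eq, mul_inv_cancel_right]
        _ = (x b)⁻¹ * b⁻¹ := (hZc b⁻¹ (Z.inv_mem (brk_le_self hiZα hb)) _).eq
    have hmem : a * a ∈ brk α (Z : Set W) := e2 ▸ mul_mem (inv_mem hxb) (inv_mem hb)
    obtain ⟨k, hk⟩ := h.odd
    have : (a * a) ^ (k + 1) = a := by
      rw [← pow_two, ← pow_mul, show 2 * (k + 1) = Nat.card W + 1 by omega, pow_succ, pow_card_eq_one', one_mul]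
    exact hab ▸ mul_mem (this ▸ pow_mem hmem _) hb
  have h1 := fixed_eq_one h.pow h.cop hiZα hsb (mem_fx.mpr hαs)
  exact (inv_mul_eq_one.mp h1).symm

theorem OddPair.fixed (h : OddPair p α x) (hp2 : p ≠ 2) {w : W} (hw : α w = w) : x w = w :=
  fixed_aux hp2 _ W rfl α x h w hw

/-- An involutory automorphism inverts modulo the Frattini subgroup, so two of them differ trivially. -/
theorem OddPair.mul_eq_one {y : MulAut W} (h : OddPair p α x) (h' : OddPair p α y) (hp2 : p ≠ 2)
    (hxy : ∀ w, x (y w) = y (x w)) (w : W) : x (y w) = w := by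
  haveI := h.nilpotent hp2
  haveI : Fact (Nat.Prime 2) := ⟨Nat.prime_two⟩
  let u : MulAut W := x * y
  have hu2 : u ^ 2 = 1 := by
    ext g
    show x (y (x (y g))) = g
    rw [hxy g, h'.invol, h.invol]
  have hW : fx u = ⊤ := by
    by_contra hne
    obtain hh | ⟨M, hM, hle⟩ := eq_top_or_exists_le_coatom (fx u)
    · exact hne hh
    haveI : M.Normal := NormalizerCondition.normal_of_coatom M Group.normalizerCondition_of_isNilpotent hM
    have hcyc : ∀ a b : W, ⁅a, b⁆ ∈ M := by
      have h1 : Group.IsNilpotent (W ⧸ M) := inferInstance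
      have hne1 : Nontrivial (W ⧸ M) := (QuotientGroup.nontrivial_iff).mpr hM.1
      haveI : IsSimpleGroup (W ⧸ M) := ⟨fun H _ => by
        have hMH : M ≤ H.comap (QuotientGroup.mk' M) := fun m hm => by
          show (m : W ⧸ M) ∈ H
          rw [(QuotientGroup.eq_one_iff m).mpr hm]; exact one_mem H
        rcases hM.le_iff.mp hMH with e | e
        · refine Or.inr (eq_top_iff.mpr fun q _ => ?_)
          induction q using QuotientGroup.induction_on with
          | _ q =>
            have : q ∈ H.comap (QuotientGroup.mk' M) := by rw [e]; exact mem_top q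
            exact this
        · refine Or.inl (eq_bot_iff.mpr fun q hq => ?_)
          induction q using QuotientGroup.induction_on with
          | _ q =>
            have : q ∈ H.comap (QuotientGroup.mk' M) := hq
            rw [e] at this
            exact mem_bot.mpr ((QuotientGroup.eq_one_iff q).mpr this)⟩
      have hcomm : ∀ a b : W ⧸ M, a * b = b * a := fun a b =>
        (IsSimpleGroup.comm_iff_isSolvable.mpr inferInstance) a b
      intro a b
      rw [← QuotientGroup.eq_one_iff, ← QuotientGroup.mk'_apply, map_commutatorElement,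
        commutatorElement_eq_one_iff_mul_comm]
      exact hcomm _ _
    have hWM : commutator W ≤ M := by rw [_root_.commutator_def, commutator_le]; exact fun a _ b _ => hcyc a b
    refine hM.1 (eq_top_iff.mpr fun g _ => ?_)
    -- a fixed element in the coset of `g` modulo the derived group
    have hg : g⁻¹ * u g ∈ commutator W := by
      show g⁻¹ * x (y g) ∈ commutator W
      have h1 := mul_mem_commutator h.odd h.pow h.cop h.gen h.invol h.fix (y g)
      have h2 := mul_mem_commutator h'.odd h'.pow h'.cop h'.gen h'.invol h'.fix g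
      rw [show g⁻¹ * x (y g) = g⁻¹ * (x (y g) * y g) * g * (y g * g)⁻¹ by group]
      refine mul_mem ?_ (inv_mem h2)
      have := (inferInstance : (commutator W).Normal).conj_mem _ h1 g⁻¹
      rwa [inv_inv] at this
    obtain ⟨n, hn, hf⟩ := exists_fixed_coset (p := 2) hu2 (Nat.coprime_two_right.mpr h.odd)
      (fun a ha => map_commutator_le u ha) hg
    have := M.mul_mem (hle hf) (M.inv_mem (hWM hn))
    rwa [mul_inv_cancel_right] at this
  exact mem_fx.mp (hW ▸ mem_top w : w ∈ fx u)

end CfsgLib.CoprimeInvCent
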