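import Cfsg.Agent.Lib.CoprimeInvCent.Basic

/-!
Tools for a finite group acting through a ring: idempotents and averages.
-/

set_option autoImplicit false
set_option linter.unusedSectionVars false
set_option linter.style.haveILetI false

namespace CfsgLib.CoprimeInvCent

open Subgroup CfsgLib.FixGen
open scoped commutatorElement

universe u v

variable {X : Type u} [Group X] {R : Type v} [Ring R]

/-- The symmetrised image of an element. -/
def cs (ρ : X →* R) (d : X) : R := ρ d + ρ d⁻¹

theorem cs_inv (ρ : X →* R) (d : X) : cs ρ d⁻¹ = cs ρ d := by rw [cs, cs, inv_inv, add_comm]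

theorem cs_mul_cs (ρ : X →* R) {u v w w' η : X} (h1 : u * v = η * w) (h2 : u⁻¹ * v⁻¹ = η * w⁻¹)
    (h3 : u * v⁻¹ = η⁻¹ * w') (h4 : u⁻¹ * v = η⁻¹ * w'⁻¹) :
    cs ρ u * cs ρ v = ρ η * cs ρ w + ρ η⁻¹ * cs ρ w' := by
  simp only [cs, add_mul, mul_add, ← map_mul, h1, h2, h3, h4]
  abel

theorem cs_commute (ρ : X →* R) {u : X} {x : R} (h : x * ρ u = ρ u⁻¹ * x) (h' : x * ρ u⁻¹ = ρ u * x) :
    Commute x (cs ρ u) := by
  show x * cs ρ u = cs ρ u * x
  rw [cs, mul_add, add_mul, h, h', add_comm]

theorem commute_cs (ρ : X →* R) {r : R} {u : X} (h : ∀ d, Commute r (ρ d)) : Commute r (cs ρ u) :=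
  (h u).add_right (h u⁻¹)

theorem cut_mul_cut {f : R} (hf : IsIdempotentElem f) {r s : R} (hr : Commute f r) :
    f * r * (f * s) = f * (r * s) := by
  rw [mul_assoc f r, ← mul_assoc r f, ← hr.eq, ← mul_assoc f, ← mul_assoc f f, hf.eq, mul_assoc]

/-- The representation cut by an idempotent commuting with it. -/
def cutHom {f : R} (hf : IsIdempotentElem f) (ρ : X →* R) (hc : ∀ d, Commute f (ρ d)) : X →* hf.Corner where
  toFun d := ⟨f * ρ d, (Subsemigroup.mem_corner_iff hf).mpr
    ⟨by rw [← mul_assoc, hf.eq], by rw [mul_assoc, ← (hc d).eq, ← mul_assoc, hf.eq]⟩⟩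
  map_one' := Subtype.ext (show f * ρ 1 = f by rw [map_one, mul_one])
  map_mul' a b := Subtype.ext (show f * ρ (a * b) = f * ρ a * (f * ρ b) by
    rw [map_mul, cut_mul_cut hf (hc a)])

theorem cutHom_val {f : R} (hf : IsIdempotentElem f) (ρ : X →* R) (hc : ∀ d, Commute f (ρ d)) (d : X) :
    (cutHom hf ρ hc d).1 = f * ρ d := rfl

/-- An element of the corner. -/
def cutElem {f : R} (hf : IsIdempotentElem f) {r : R} (hc : Commute f r) : hf.Corner :=
  ⟨f * r, (Subsemigroup.mem_corner_iff hf).mpr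
    ⟨by rw [← mul_assoc, hf.eq], by rw [mul_assoc, ← hc.eq, ← mul_assoc, hf.eq]⟩⟩

theorem cutElem_val {f : R} (hf : IsIdempotentElem f) {r : R} (hc : Commute f r) :
    (cutElem hf hc).1 = f * r := rfl

theorem cutElem_isUnit {f : R} (hf : IsIdempotentElem f) {r : R} (hc : Commute f r) (hr : IsUnit r) :
    IsUnit (cutElem hf hc) := by
  obtain ⟨U, rfl⟩ := hr
  have hc' : Commute f (↑U⁻¹ : R) := hc.units_inv_right
  refine ⟨⟨cutElem hf hc, cutElem hf hc', Subtype.ext ?_, Subtype.ext ?_⟩, rfl⟩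
  · show f * (U : R) * (f * (↑U⁻¹ : R)) = f
    rw [cut_mul_cut hf hc, Units.mul_inv, mul_one]
  · show f * (↑U⁻¹ : R) * (f * (U : R)) = f
    rw [cut_mul_cut hf hc', Units.inv_mul, mul_one]

theorem corner_natCast_val {f : R} (hf : IsIdempotentElem f) (n : ℕ) :
    ((n : hf.Corner)).1 = f * n := by
  induction n with
  | zero => rw [Nat.cast_zero, Nat.cast_zero, mul_zero]; rfl
  | succ n ih =>
    rw [Nat.cast_succ, Nat.cast_succ, mul_add, mul_one, ← ih]
    rfl

theorem corner_isUnit_natCast {f : R} (hf : IsIdempotentElem f) {n : ℕ} (hn : IsUnit (n : R)) :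
    IsUnit (n : hf.Corner) := by
  have hc : Commute f (n : R) := (Nat.commute_cast f n)
  have e : (n : hf.Corner) = cutElem hf hc := Subtype.ext (corner_natCast_val hf n)
  rw [e]
  exact cutElem_isUnit hf hc hn

/-- The sum over a finite group. -/
noncomputable def total [Finite X] (ρ : X →* R) : R :=
  letI := Fintype.ofFinite X
  ∑ d : X, ρ d

variable [Finite X] (ρ : X →* R)

theorem total_mul (g : X) : total ρ * ρ g = total ρ := by
  letI := Fintype.ofFinite X
  rw [total, Finset.sum_mul]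
  exact Fintype.sum_equiv (Equiv.mulRight g) _ _ fun d => (map_mul ρ d g).symm

theorem mul_total (g : X) : ρ g * total ρ = total ρ := by
  letI := Fintype.ofFinite X
  rw [total, Finset.mul_sum]
  exact Fintype.sum_equiv (Equiv.mulLeft g) _ _ fun d => (map_mul ρ g d).symm

theorem total_commute (g : X) : Commute (total ρ) (ρ g) := (total_mul ρ g).trans (mul_total ρ g).symm

theorem total_mul_total : total ρ * total ρ = (Nat.card X : R) * total ρ := by
  letI := Fintype.ofFinite X
  conv_lhs => arg 1; rw [total]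
  rw [Finset.sum_mul, Finset.sum_congr rfl fun g _ => mul_total ρ g, Finset.sum_const, Finset.card_univ,
    Nat.card_eq_fintype_card, nsmul_eq_mul]

theorem commute_total {r : R} (e : X ≃* X) (h : ∀ d, r * ρ d = ρ (e d) * r) : Commute r (total ρ) := by
  letI := Fintype.ofFinite X
  show r * total ρ = total ρ * r
  rw [total, Finset.mul_sum, Finset.sum_congr rfl fun d _ => h d, ← Finset.sum_mul]
  congr 1
  exact Fintype.sum_equiv e.toEquiv _ _ fun d => rfl

theorem total_subgroup_mem (H : Subgroup X) (h : X) (hh : h ∈ H) :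
    total (ρ.comp H.subtype) * ρ h = total (ρ.comp H.subtype) :=
  total_mul (ρ.comp H.subtype) ⟨h, hh⟩

omit [Finite X] in
/-- The inverse of `z - 1` when the powers of `z` add up to zero. -/
theorem isUnit_sub_one {z : R} {q : ℕ} (hz : z ^ q = 1) (hs : ∑ i ∈ Finset.range q, z ^ i = 0)
    (hu : IsUnit (q : R)) : IsUnit (z - 1) := by
  set T : R := ∑ i ∈ Finset.range q, (i : R) * z ^ i with hT
  have h1 : (z - 1) * T = (q : R) := by
    have key : ∀ n : ℕ, (z - 1) * (∑ i ∈ Finset.range n, (i : R) * z ^ i) =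
        (n : R) * z ^ n - ∑ i ∈ Finset.range n, z ^ (i + 1) := by
      intro n
      induction n with
      | zero => simp
      | succ n ih =>
        rw [Finset.sum_range_succ, mul_add, ih, Finset.sum_range_succ, sub_mul, one_mul, ← mul_assoc z,
          (Nat.cast_commute n z).eq.symm, mul_assoc, ← pow_succ' z n, Nat.cast_succ, add_mul, one_mul]
        abel
    have h2 : ∑ i ∈ Finset.range q, z ^ (i + 1) = 0 := by
      rw [Finset.sum_congr rfl fun i _ => pow_succ' z i, ← Finset.mul_sum, hs, mul_zero]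
    rw [key q, hz, h2, mul_one, sub_zero]
  have hc : Commute (z - 1) T := (Commute.sum_right _ _ _ fun i _ =>
    (Nat.commute_cast z i).mul_right ((Commute.refl z).pow_right i)).sub_left (Commute.one_left T)
  obtain ⟨U, hU⟩ := hu
  exact (hc.isUnit_mul_iff.mp (by rw [h1, ← hU]; exact U.isUnit)).1

omit [Finite X] in
theorem isUnit_pow_sub_one {z : R} {q n : ℕ} (hz : z ^ q = 1) (hn : n.Coprime q) (hq1 : 1 < q)
    (h : IsUnit (z - 1)) : IsUnit (z ^ n - 1) := by
  obtain ⟨j, -, hj⟩ := Nat.exists_mul_mod_eq_one_of_coprime hn hq1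
  have hzz : z ^ (n * j) = z := by
    rw [← Nat.mod_add_div (n * j) q, hj, pow_add, pow_mul, hz, one_pow, mul_one, pow_one]
  have h1 : (z ^ n - 1) * (∑ i ∈ Finset.range j, (z ^ n) ^ i) = z - 1 := by
    rw [mul_geom_sum, ← pow_mul, hzz]
  have hc : Commute (z ^ n - 1) (∑ i ∈ Finset.range j, (z ^ n) ^ i) :=
    (Commute.sum_right _ _ _ fun i _ => (Commute.refl (z ^ n)).pow_right i).sub_left (Commute.one_left _)
  exact (hc.isUnit_mul_iff.mp (by rw [h1]; exact h)).1

omit [Finite X] in
/-- Three lines of a plane: `3 = 0`. -/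
theorem three_eq_zero {z w : R} (hc : Commute z w) (hz : 1 + z + z * z = 0) (hw : 1 + w + w * w = 0)
    (h1 : 1 + z * w + z * w * (z * w) = 0) (h2 : 1 + z * (w * w) + z * (w * w) * (z * (w * w)) = 0)
    (hw3 : w * w * w = 1) : (3 : R) = 0 := by
  have e1 : z * w * (z * w) = z * z * (w * w) := hc.symm.mul_mul_mul_comm z w
  have e2 : z * (w * w) * (z * (w * w)) = z * z * w := by
    rw [(hc.mul_right hc).symm.mul_mul_mul_comm z (w * w), show w * w * (w * w) = w * w * w * w by noncomm_ring, hw3,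
      one_mul]
  rw [e1] at h1
  rw [e2] at h2
  calc (3 : R) = (1 + z + z * z) + (1 + w + w * w) + (1 + z * w + z * z * (w * w))
        + (1 + z * (w * w) + z * z * w) - (1 + z + z * z) * (1 + w + w * w) := by noncomm_ring; norm_num
    _ = 0 := by rw [hz, hw, h1, h2]; noncomm_ring

end CfsgLib.CoprimeInvCent
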