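import Cfsg.Agent.Lib.CoprimeInvCent.Nilp
import Cfsg.Agent.Lib.ZStar.Main
import Cfsg.Agent.Lib.Involutions
import Cfsg.Agent.S0226

/-!
A minimal situation: a coprime automorphism `α` of prime order fixing the centraliser of an involution.
The points are the cosets of the fixed subgroup `C`.
-/

set_option autoImplicit false
set_option linter.unusedSectionVars false
set_option linter.style.haveILetI false

namespace CfsgLib.CoprimeInvCent

open Subgroup CfsgLib.FixGen
open CfsgLib.Involutions (mul_self_eq_one_of_orderOf inv_eq_self_of_orderOf orderOf_conj orderOf_eq_two_iff')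
open scoped commutatorElement IsMulCommutative

universe u

variable {G : Type u} [Group G] [Finite G] {p : ℕ} [Fact p.Prime] {α : MulAut G}

/-- An involution whose centraliser is fixed. -/
def IsT (α : MulAut G) (t : G) : Prop := orderOf t = 2 ∧ ∀ c, Commute t c → α c = c

theorem IsT.fixed {t : G} (h : IsT α t) : α t = t := h.2 t (Commute.refl t)

theorem IsT.sq {t : G} (h : IsT α t) : t * t = 1 := mul_self_eq_one_of_orderOf h.1

theorem IsT.conj {t c : G} (h : IsT α t) (hc : α c = c) : IsT α (c * t * c⁻¹) := by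
  refine ⟨by rw [orderOf_conj, h.1], fun d hd => ?_⟩
  have h1 : Commute t (c⁻¹ * d * c) := by
    show t * (c⁻¹ * d * c) = c⁻¹ * d * c * t
    calc t * (c⁻¹ * d * c) = c⁻¹ * (c * t * c⁻¹ * d) * c := by group
      _ = c⁻¹ * (d * (c * t * c⁻¹)) * c := by rw [hd.eq]
      _ = _ := by group
  have h2 := h.2 _ h1
  rw [map_mul, map_mul, map_inv, hc] at h2
  exact mul_left_cancel (mul_right_cancel h2)

/-- The hypotheses on a minimal situation. -/
structure Ctx (p : ℕ) (α : MulAut G) : Prop where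
  hp2 : p ≠ 2
  cop : (Nat.card G).Coprime p
  pow : α ^ p = 1
  core : Cfsg.pPrimeCore 2 G = ⊥
  ne : α ≠ 1
  exT : ∃ t, IsT α t
  ncen : ∀ z : G, orderOf z = 2 → α z = z → ¬ ∀ g, Commute z g
  ih : ∀ H : Subgroup G, Inv α H → H ≠ ⊤ → (∃ t ∈ H, IsT α t) → Odd (Nat.card (brk α (H : Set G)))

variable (K : Ctx p α)
include K

theorem Ctx.fixed_of_diff {g : G} (h : α (g⁻¹ * α g) = g⁻¹ * α g) : α g = g := by
  set d := g⁻¹ * α g with hd
  have hi : ∀ i : ℕ, (α ^ i) g = g * d ^ i := fun i => by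
    induction i with
    | zero => simp
    | succ i ih => rw [← pow_apply_comm, ih, map_mul, map_pow, h, show α g = g * d by rw [hd]; group, mul_assoc, ← pow_succ']
  have h1 := hi p
  rw [K.pow, MulAut.one_apply, left_eq_mul] at h1
  have h2 : d = 1 := by
    have := mem_of_pow (p := p) (S := (⊥ : Subgroup G)) K.cop (v := d) (mem_bot.mpr h1)
    exact mem_bot.mp this
  rw [hd, inv_mul_eq_one] at h2
  exact h2.symm

omit K in
theorem inv_centralizer {e : G} (he : α e = e) : Inv α (centralizer ({e} : Set G)) := fun g hg => by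
  rw [mem_centralizer_singleton_iff] at hg ⊢
  rw [← he, ← map_mul, hg, map_mul]

omit K in
theorem mem_cent {e g : G} : g ∈ centralizer ({e} : Set G) ↔ Commute g e := mem_centralizer_singleton_iff

theorem Ctx.brk_top_ne : brk α ((⊤ : Subgroup G) : Set G) ≠ ⊥ := fun h => K.ne (MulEquiv.ext fun g => by
  have h1 := mem_brk (x := α) (P := ((⊤ : Subgroup G) : Set G)) (mem_top g) 1
  rw [h, mem_bot, pow_one, inv_mul_eq_one] at h1
  exact h1.symm)

theorem Ctx.not_odd_normal {N : Subgroup G} [N.Normal] (h : Odd (Nat.card N)) : N = ⊥ :=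
  eq_bot_iff.mpr ((CfsgLib.le_oddCore h).trans K.core.le)

theorem Ctx.cent_ne_top {e : G} (he2 : orderOf e = 2) (he : α e = e) : centralizer ({e} : Set G) ≠ ⊤ :=
  fun h => K.ncen e he2 he fun g => (mem_cent.mp (h ▸ mem_top g)).symm

/-- The two automorphisms of `[H, α]`. -/
theorem Ctx.pair {H : Subgroup G} (hH : Inv α H) (hne : H ≠ ⊤) {t : G} (htH : t ∈ H) (ht : IsT α t) :
    ∃ hinv : Inv (MulAut.conj t) (brk α (H : Set G)),
      OddPair p (res (inv_brk (x := α) (H : Set G))) (res hinv) := by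
  have hc : ∀ g, MulAut.conj t (α g) = α (MulAut.conj t g) := fun g => by
    simp only [MulAut.conj_apply, map_mul, map_inv, ht.fixed]
  have hHt : Inv (MulAut.conj t) H := fun g hg => H.mul_mem (H.mul_mem htH hg) (H.inv_mem htH)
  refine ⟨brk_invariant hc hHt, K.ih H hH hne ⟨t, htH, ht⟩, K.cop.coprime_dvd_left (card_subgroup_dvd_card _),
    res_pow_prime K.pow _, ?_, ?_, ?_, brk_res_top K.pow K.cop hH⟩
  · intro d; apply Subtype.ext
    rw [res_apply, res_apply, MulAut.conj_apply, MulAut.conj_apply,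
      show t * (t * (d : G) * t⁻¹) * t⁻¹ = (t * t) * d * (t * t)⁻¹ by group, ht.sq, one_mul, inv_one, mul_one]
  · intro d; apply Subtype.ext; rw [res_apply, res_apply, res_apply, res_apply, hc]
  · intro d hd
    apply Subtype.ext
    rw [res_apply]
    refine ht.2 _ ?_
    have h1 : t * (d : G) * t⁻¹ = d := congrArg Subtype.val hd
    exact (mul_inv_eq_iff_eq_mul.mp h1)

/-- A product of two commuting special involutions of `H` centralises `[H, α]`. -/
theorem Ctx.commute_pair {H : Subgroup G} (hH : Inv α H) (hne : H ≠ ⊤) {t t' : G} (htH : t ∈ H) (ht : IsT α t)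
    (htH' : t' ∈ H) (ht' : IsT α t') (hc : Commute t t') {w : G} (hw : w ∈ brk α (H : Set G)) :
    Commute (t * t') w := by
  obtain ⟨i1, h1⟩ := K.pair hH hne htH ht
  obtain ⟨i2, h2⟩ := K.pair hH hne htH' ht'
  have h3 := h1.mul_eq_one h2 K.hp2 (fun d => Subtype.ext (by
    rw [res_apply, res_apply, res_apply, res_apply]
    show MulAut.conj t (MulAut.conj t' (d : G)) = MulAut.conj t' (MulAut.conj t (d : G))
    rw [← MulAut.mul_apply, ← MulAut.mul_apply, ← map_mul, ← map_mul, hc.eq])) ⟨w, hw⟩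
  have h4 : t * (t' * w * t'⁻¹) * t⁻¹ = w := congrArg Subtype.val h3
  rw [show t * (t' * w * t'⁻¹) * t⁻¹ = (t * t') * w * (t * t')⁻¹ by group] at h4
  exact mul_inv_eq_iff_eq_mul.mp h4

theorem Ctx.commute_fixed {H : Subgroup G} (hH : Inv α H) (hne : H ≠ ⊤) {t : G} (htH : t ∈ H) (ht : IsT α t)
    {w : G} (hw : w ∈ brk α (H : Set G)) (hwf : α w = w) : Commute t w := by
  obtain ⟨i, h⟩ := K.pair hH hne htH ht
  have h1 := h.fixed K.hp2 (w := ⟨w, hw⟩) (Subtype.ext (by rw [res_apply]; exact hwf))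
  exact mul_inv_eq_iff_eq_mul.mp (congrArg Subtype.val h1 : t * w * t⁻¹ = w)

/-- Fusion is controlled by the centralisers and the fixed points. -/
theorem Ctx.fusion {y g : G} (hy : α y = y) (h : α (g⁻¹ * y * g) = g⁻¹ * y * g) :
    ∃ k, Commute k y ∧ α (k⁻¹ * g) = k⁻¹ * g := by
  have hc : (g⁻¹)⁻¹ * α g⁻¹ ∈ centralizer ({y} : Set G) := by
    rw [inv_inv, mem_cent, map_inv]
    rw [map_mul, map_mul, map_inv, hy] at h
    show g * (α g)⁻¹ * y = y * (g * (α g)⁻¹)
    calc g * (α g)⁻¹ * y = g * ((α g)⁻¹ * y * α g) * (α g)⁻¹ := by group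
      _ = g * (g⁻¹ * y * g) * (α g)⁻¹ := by rw [h]
      _ = _ := by group
  obtain ⟨n, hn, hf⟩ := exists_fixed_coset K.pow K.cop (inv_centralizer hy) hc
  refine ⟨n, mem_cent.mp hn, ?_⟩
  have h1 := (fx α).inv_mem hf
  rw [mul_inv_rev, inv_inv] at h1
  exact h1

theorem Ctx.exists_partner {t : G} (ht : IsT α t) : ∃ t', IsT α t' ∧ t' ≠ t ∧ Commute t t' := by
  by_cases hiso : Cfsg.IsIsolated t
  · exfalso
    refine K.ncen t ht.1 ht.fixed fun g => ?_
    have h := CfsgLib.ZStar.inZStar ht.1 hiso g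
    rw [K.core, mem_bot, mul_inv_eq_one, mul_inv_eq_iff_eq_mul] at h
    exact h.symm
  · simp only [Cfsg.IsIsolated, not_forall] at hiso
    obtain ⟨g, hg, hne⟩ := hiso
    refine ⟨g * t * g⁻¹, ?_, hne, hg⟩
    obtain ⟨k, hk, hf⟩ := K.fusion ht.fixed (g := g⁻¹) (by rw [inv_inv]; exact ht.2 _ hg)
    have hkf : α k = k := ht.2 k hk.symm
    rw [map_mul, map_inv, map_inv, hkf, mul_right_inj, inv_inj] at hf
    exact ht.conj hf

theorem Ctx.index_odd : Odd (fx α).index := by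
  classical
  haveI : Fact (Nat.Prime 2) := ⟨Nat.prime_two⟩
  obtain ⟨t, ht⟩ := K.exT
  have hz : IsPGroup 2 (zpowers t) := IsPGroup.of_card (n := 1) (by rw [Nat.card_zpowers, ht.1, pow_one])
  obtain ⟨P, ⟨hP2, hPC, htP⟩, hmax⟩ := wellFounded_gt.has_min {P : Subgroup G | IsPGroup 2 P ∧ P ≤ fx α ∧ t ∈ P}
    ⟨zpowers t, hz, zpowers_le.mpr (mem_fx.mpr ht.fixed), mem_zpowers t⟩
  obtain ⟨Q, hPQ⟩ := hP2.exists_le_sylow
  by_cases hQ : (Q : Subgroup G) ≤ fx α
  · have h1 : (fx α).index ∣ (Q : Subgroup G).index := index_dvd_of_le hQ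
    refine Nat.not_even_iff_odd.mp fun he => ?_
    exact Q.not_dvd_index (he.two_dvd.trans h1)
  exfalso
  have hlt : P.subgroupOf (Q : Subgroup G) < ⊤ := lt_top_iff_ne_top.mpr fun e =>
    hQ ((Subgroup.subgroupOf_eq_top.mp e).trans hPC)
  haveI : Group.IsNilpotent (Q : Subgroup G) := Q.2.isNilpotent
  obtain ⟨n, hnN, hnP⟩ := SetLike.exists_of_lt (Group.normalizerCondition_of_isNilpotent _ hlt)
  have hn : ∀ d ∈ P, (n : G) * d * (n : G)⁻¹ ∈ P := fun d hd => by
    have := (Subgroup.mem_normalizer_iff.mp hnN ⟨d, hPQ hd⟩).mp hd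
    exact this
  have hfix : α (n : G) = n := by
    refine K.fixed_of_diff (ht.2 _ ?_)
    have h1 : α ((n : G) * t * (n : G)⁻¹) = (n : G) * t * (n : G)⁻¹ := hPC (hn t htP)
    rw [map_mul, map_mul, map_inv, ht.fixed] at h1
    show t * ((n : G)⁻¹ * α n) = (n : G)⁻¹ * α n * t
    calc t * ((n : G)⁻¹ * α n) = (n : G)⁻¹ * ((n : G) * t * (n : G)⁻¹) * α n := by group
      _ = (n : G)⁻¹ * (α n * t * (α n)⁻¹) * α n := by rw [h1]
      _ = _ := by group
  refine hmax (P ⊔ zpowers (n : G))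
    ⟨Q.2.to_le (sup_le hPQ (zpowers_le.mpr n.2)), sup_le hPC (zpowers_le.mpr (mem_fx.mpr hfix)),
      mem_sup_left htP⟩ (lt_of_le_not_ge le_sup_left fun hle => ?_)
  exact hnP (hle (mem_sup_right (mem_zpowers _)))

/-! ### Points -/

omit K in
theorem fixes_iff {y g : G} : y • (g : G ⧸ fx α) = g ↔ α (g⁻¹ * y * g) = g⁻¹ * y * g := by
  rw [show y • (g : G ⧸ fx α) = ((y * g : G) : G ⧸ fx α) from rfl, eq_comm, QuotientGroup.eq, mul_assoc, mem_fx]

omit K in
theorem fixes_base {y : G} : y • ((1 : G) : G ⧸ fx α) = ((1 : G) : G ⧸ fx α) ↔ α y = y := by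
  rw [fixes_iff]; simp

theorem Ctx.eq_base_of_T {t g : G} (ht : IsT α t) (h : t • (g : G ⧸ fx α) = g) :
    (g : G ⧸ fx α) = ((1 : G) : G ⧸ fx α) := by
  obtain ⟨k, hk, hf⟩ := K.fusion ht.fixed (fixes_iff.mp h)
  have hkf : α k = k := ht.2 k hk.symm
  rw [map_mul, map_inv, hkf, mul_right_inj] at hf
  rw [QuotientGroup.eq, mul_one, inv_mem_iff, mem_fx]
  exact hf

omit K in
/-- `y` is a conjugate of a special involution, with centre `ω`. -/
def IsTat (α : MulAut G) (ω : G ⧸ fx α) (y : G) : Prop := ∃ h : G, (h : G ⧸ fx α) = ω ∧ IsT α (h⁻¹ * y * h)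

omit K in
theorem IsTat.order {ω : G ⧸ fx α} {y : G} (h : IsTat α ω y) : orderOf y = 2 := by
  obtain ⟨h, -, hy⟩ := h
  have := hy.1
  rwa [show h⁻¹ * y * h = h⁻¹ * y * h⁻¹⁻¹ by group, orderOf_conj] at this

omit K in
theorem IsTat.smul {ω : G ⧸ fx α} {y : G} (h : IsTat α ω y) (g : G) : IsTat α (g • ω) (g * y * g⁻¹) := by
  obtain ⟨k, rfl, hy⟩ := h
  exact ⟨g * k, rfl, by rwa [show (g * k)⁻¹ * (g * y * g⁻¹) * (g * k) = k⁻¹ * y * k by group]⟩

omit K in
theorem isTat_base {y : G} (h : IsT α y) : IsTat α ((1 : G) : G ⧸ fx α) y := ⟨1, rfl, by simpa using h⟩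

omit K in
theorem IsTat.base {y : G} (h : IsTat α ((1 : G) : G ⧸ fx α) y) : IsT α y := by
  obtain ⟨k, hk, hy⟩ := h
  rw [QuotientGroup.eq, mul_one, inv_mem_iff, mem_fx] at hk
  have := hy.conj hk
  rwa [show k * (k⁻¹ * y * k) * k⁻¹ = y by group] at this

theorem Ctx.fixes_centre {ω : G ⧸ fx α} {y : G} (h : IsTat α ω y) : y • ω = ω := by
  obtain ⟨k, rfl, hy⟩ := h
  exact fixes_iff.mpr hy.fixed

theorem Ctx.centre_unique {ω ω' : G ⧸ fx α} {y : G} (h : IsTat α ω y) (h' : y • ω' = ω') : ω' = ω := by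
  obtain ⟨k, rfl, hy⟩ := h
  induction ω' using QuotientGroup.induction_on with
  | _ g =>
    have h1 : (k⁻¹ * y * k) • (((k⁻¹ * g : G)) : G ⧸ fx α) = ((k⁻¹ * g : G) : G ⧸ fx α) := by
      show ((k⁻¹ * y * k * (k⁻¹ * g) : G) : G ⧸ fx α) = _
      rw [show k⁻¹ * y * k * (k⁻¹ * g) = k⁻¹ * (y * g) by group]
      show k⁻¹ • (y • (g : G ⧸ fx α)) = k⁻¹ • (g : G ⧸ fx α)
      rw [h']
    have h2 := congrArg (fun z => k • z) (K.eq_base_of_T hy h1)
    simp only [MulAction.Quotient.smul_coe, smul_eq_mul, mul_one, mul_inv_cancel_left] at h2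
    exact h2

theorem Ctx.fixes_of_commute {ω : G ⧸ fx α} {y g : G} (h : IsTat α ω y) (hc : Commute y g) : g • ω = ω := by
  refine K.centre_unique h ?_
  rw [← mul_smul, hc.eq, mul_smul, K.fixes_centre h]

omit K in
/-- Some involution fixes both points. -/
def Adj (α : MulAut G) (a b : G ⧸ fx α) : Prop := a ≠ b ∧ ∃ e : G, orderOf e = 2 ∧ e • a = a ∧ e • b = b

omit K in
theorem Adj.symm {a b : G ⧸ fx α} (h : Adj α a b) : Adj α b a := by
  obtain ⟨h1, e, he, ha, hb⟩ := h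
  exact ⟨h1.symm, e, he, hb, ha⟩

omit K in
theorem Adj.smul {a b : G ⧸ fx α} (h : Adj α a b) (g : G) : Adj α (g • a) (g • b) := by
  obtain ⟨h1, e, he, ha, hb⟩ := h
  refine ⟨fun e' => h1 (MulAction.injective g e'), g * e * g⁻¹, by rw [orderOf_conj, he], ?_, ?_⟩
  · rw [mul_smul, mul_smul, inv_smul_smul, ha]
  · rw [mul_smul, mul_smul, inv_smul_smul, hb]

omit K in
/-- An involution exchanging two adjacent points commutes with an involution fixing them. -/
theorem exists_commuting_witness {y : G} (hy : orderOf y = 2) {a : G ⧸ fx α} (h : Adj α a (y • a)) :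
    ∃ e : G, orderOf e = 2 ∧ Commute e y ∧ e • a = a := by
  classical
  obtain ⟨-, e, he, ha, hb⟩ := h
  let M : Subgroup G := MulAction.stabilizer G a ⊓ MulAction.stabilizer G (y • a)
  have heM : e ∈ M := ⟨ha, hb⟩
  have heven : Even (Nat.card M) := even_iff_two_dvd.mpr (he ▸ Subgroup.orderOf_dvd_natCard M heM)
  have hodd := Cfsg.Agent.S0226.result (G := M) heven
  have hyy := mul_self_eq_one_of_orderOf hy
  have hy' := inv_eq_self_of_orderOf hy
  have hconj : ∀ m ∈ M, y * m * y⁻¹ ∈ M := fun m hm => by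
    refine ⟨?_, ?_⟩
    · show (y * m * y⁻¹) • a = a
      rw [hy', mul_smul, mul_smul, show m • (y • a) = y • a from hm.2, ← mul_smul, hyy, one_smul]
    · show (y * m * y⁻¹) • (y • a) = y • a
      rw [mul_smul, inv_smul_smul, mul_smul, show m • a = a from hm.1]
  let f : {m : M // orderOf m = 2} → {m : M // orderOf m = 2} := fun m =>
    ⟨⟨y * (m : M) * y⁻¹, hconj _ (m : M).2⟩, by
      rw [← Subgroup.orderOf_coe]
      show orderOf (y * ((m : M) : G) * y⁻¹) = 2
      rw [orderOf_conj, Subgroup.orderOf_coe, m.2]⟩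
  have hf : Function.Involutive f := fun m => Subtype.ext (Subtype.ext (by
    show y * (y * ((m : M) : G) * y⁻¹) * y⁻¹ = ((m : M) : G)
    rw [show y * (y * ((m : M) : G) * y⁻¹) * y⁻¹ = (y * y) * ((m : M) : G) * (y * y)⁻¹ by group, hyy, one_mul,
      inv_one, mul_one]))
  haveI : Fintype {m : M // orderOf m = 2} := Fintype.ofFinite _
  haveI : Fact (Nat.Prime 2) := ⟨Nat.prime_two⟩
  have hd : ¬ 2 ∣ Fintype.card {m : M // orderOf m = 2} := by
    rw [← Nat.card_eq_fintype_card]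
    exact fun hd => (Nat.not_even_iff_odd.mpr hodd) (even_iff_two_dvd.mpr hd)
  obtain ⟨m, hm⟩ := Equiv.Perm.exists_fixed_point_of_prime (σ := hf.toPerm f) (n := 1) hd (by
    rw [pow_one, pow_two]; ext x; exact congrArg (fun z : {m : M // orderOf m = 2} => ((z : M) : G)) (hf x))
  refine ⟨((m : M) : G), by rw [Subgroup.orderOf_coe, m.2], ?_, (m : M).2.1⟩
  have h2 : y * ((m : M) : G) * y⁻¹ = ((m : M) : G) :=
    congrArg (fun z : {m : M // orderOf m = 2} => ((z : M) : G)) hm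
  exact (mul_inv_eq_iff_eq_mul.mp h2).symm

end CfsgLib.CoprimeInvCent
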